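import Cfsg.Prelude.Def_PLocal
import Cfsg.Prelude.Def_Involutions
import Cfsg.Agent.PLocal.ThompsonJ

/-!
# ZN-groups (S0518): vocabulary

`G` is an ambient group, everything is a subgroup of `G`.

* `o2 L = O₂(L)`, `zc B = Ω₁(Z(B))`, `jj B = J(B)`, `zj T = Ω₁(Z(J(T)))`,
  `bau T = C_T(Ω₁(Z(J(T))))` (the Baumann subgroup);
* for a "block" `L` over its Sylow 2-subgroup `B`: `zl B L = ⟨Ω₁(Z(B))^L⟩`,
  `rl B L = C_{Ω₁Z(B)}(L)`, `vl B L = [zl B L, L]`;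
* `IsBlk B L`: `L` is an `S₃`-block over `B`;
* `StrData X B 𝓛`: the conclusion of the structure lemma;
* `Ctx N B P Q`: the context in which the amalgam method is applied.
-/

set_option autoImplicit false

namespace Cfsg.Agent.ZN

open Subgroup Cfsg

universe u

variable {G : Type u} [Group G]

/-- `O₂(L)` as a subgroup of `G`. -/
def o2 (L : Subgroup G) : Subgroup G := (pCore 2 ↥L).map L.subtype

/-- `Ω₁(Z(B))` as a subgroup of `G`. -/
def zc (B : Subgroup G) : Subgroup G := omegaOne 2 (B ⊓ centralizer (B : Set G))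

/-- `J(B)` as a subgroup of `G`. -/
abbrev jj (B : Subgroup G) : Subgroup G := thompsonSubgroupOf 2 B

/-- `Ω₁(Z(J(T)))` as a subgroup of `G`. -/
def zj (T : Subgroup G) : Subgroup G := omegaOne 2 (centerThompsonOf 2 T)

/-- The Baumann subgroup `C_T(Ω₁(Z(J(T))))`. -/
def bau (T : Subgroup G) : Subgroup G := T ⊓ centralizer (zj T : Set G)

/-- `⟨Ω₁(Z(B))^L⟩`. -/
def zl (B L : Subgroup G) : Subgroup G :=
  ⨆ g : L, (zc B).map (MulAut.conj (g : G)).toMonoidHom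

/-- `C_{Ω₁(Z(B))}(L)`. -/
def rl (B L : Subgroup G) : Subgroup G := zc B ⊓ centralizer (L : Set G)

/-- `[⟨Ω₁(Z(B))^L⟩, L]`. -/
def vl (B L : Subgroup G) : Subgroup G := ⁅zl B L, L⁆

/-- `L` is an `S₃`-block over its Sylow 2-subgroup `B`: with `Q = O₂(L)`, `Z = zl B L`, `R = rl B L`,
`V = vl B L` one has `|L : B| = 3`, `|B : Q| = 2`, `Z = R × V` elementary abelian with `|V| = 4` and
`|Ω₁(Z(B)) : R| = 2`, `C_L(Z) = Q`, `C_L(Q) ≤ Q`; moreover `J(Q) ≤ J(B)` and `J(B) ≰ Q`. -/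
structure IsBlk (B L : Subgroup G) : Prop where
  le : B ≤ L
  two : IsPGroup 2 B
  index : B.relIndex L = 3
  o2_le : o2 L ≤ B
  o2_index : (o2 L).relIndex B = 2
  self_cent : L ⊓ centralizer (o2 L : Set G) ≤ o2 L
  zl_comm : ∀ x ∈ zl B L, ∀ y ∈ zl B L, x * y = y * x
  zl_sq : ∀ x ∈ zl B L, x ^ 2 = 1
  cent_zl : L ⊓ centralizer (zl B L : Set G) = o2 L
  rl_index : (rl B L).relIndex (zc B) = 2
  card_vl : Nat.card (vl B L) = 4
  sup_eq : rl B L ⊔ vl B L = zl B L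
  disj : rl B L ⊓ vl B L = ⊥
  jj_o2_le : jj (o2 L) ≤ jj B
  not_jj_le : ¬ jj B ≤ o2 L

/-- The conclusion of the structure lemma for the group `X` with Baumann subgroup `B`: the set `𝓛` of
blocks of `X` over `B`. -/
structure StrData (X B : Subgroup G) (𝓛 : Set (Subgroup G)) : Prop where
  blk : ∀ L ∈ 𝓛, IsBlk B L
  le : ∀ L ∈ 𝓛, L ≤ X
  ne : 𝓛.Nonempty
  norm : X ≤ normalizer ((sSup 𝓛 : Subgroup G) : Set G)
  gen : X ≤ sSup 𝓛 ⊔ (X ⊓ normalizer (B : Set G))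
  inter : ∀ L ∈ 𝓛, ∀ L' ∈ 𝓛, L ≤ normalizer ((o2 L ⊓ o2 L' : Subgroup G) : Set G)
  all : ∀ L : Subgroup G, B ≤ L → L ≤ X → B.relIndex L = 3 → ¬ L ≤ normalizer (B : Set G) → L ∈ 𝓛
  inj : ∀ L ∈ 𝓛, ∀ L' ∈ 𝓛, o2 L = o2 L' → L = L'
  card : Nat.card (zc B) =
    Nat.card ↥(zc B ⊓ centralizer ((sSup 𝓛 : Subgroup G) : Set G)) * 2 ^ 𝓛.ncard

/-- The context for the amalgam method. `P`, `Q` are blocks over `B` without common nontrivial normal
subgroup inside `B`, both not contained in `N`; every 2-local subgroup containing `B` and not contained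
in `N` satisfies the structure lemma with Baumann subgroup `B`; and either `N` normalizes `J(B)` or
`B` is properly contained in a 2-subgroup `B⟨x⟩` of `N` normalizing `B`. -/
structure Ctx (N B P Q : Subgroup G) : Prop where
  blkP : IsBlk B P
  blkQ : IsBlk B Q
  core : ∀ U : Subgroup G, U ≤ B → P ≤ normalizer (U : Set G) → Q ≤ normalizer (U : Set G) → U = ⊥
  notP : ¬ P ≤ N
  notQ : ¬ Q ≤ N
  str : ∀ X : Subgroup G, IsTwoLocal X → B ≤ X → ¬ X ≤ N →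
    (∃ 𝓛 : Set (Subgroup G), StrData X B 𝓛) ∧
      ∀ T : Subgroup G, IsPGroup 2 T → B ≤ T → T ≤ X → T ⊓ centralizer (zc B : Set G) = B
  alt : N ≤ normalizer (jj B : Set G) ∨
    ∃ x ∈ N, x ∉ B ∧ x ∈ normalizer (B : Set G) ∧ IsPGroup 2 ↥(B ⊔ zpowers x)

end Cfsg.Agent.ZN
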