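import Mathlib
import Cfsg.Agent.ZN.Defs
import Cfsg.Agent.Lib.Cores
import Cfsg.Agent.Lib.ProductSet

/-!
# Elementary facts on `S₃`-blocks (S0518)
-/

set_option autoImplicit false
set_option linter.unusedSectionVars false

namespace Cfsg.Agent.ZN.Block

open Subgroup Cfsg

universe u

variable {G : Type u} [Group G]

/-! ### general lemmas -/

theorem mem_normalizer_of {M : Subgroup G} {w : G} (h1 : ∀ m ∈ M, w * m * w⁻¹ ∈ M)
    (h2 : ∀ m ∈ M, w⁻¹ * m * w ∈ M) : w ∈ normalizer (M : Set G) := by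
  rw [mem_normalizer_iff]
  intro m
  refine ⟨h1 m, fun h => ?_⟩
  have := h2 _ h
  have h3 : w⁻¹ * (w * m * w⁻¹) * w = m := by group
  rwa [h3] at this

theorem conj_mem_of_normalizer {M L : Subgroup G} (h : L ≤ normalizer (M : Set G)) {l m : G} (hl : l ∈ L)
    (hm : m ∈ M) : l * m * l⁻¹ ∈ M := (mem_normalizer_iff.mp (h hl) m).mp hm

theorem conj_mem_of_normalizer' {M L : Subgroup G} (h : L ≤ normalizer (M : Set G)) {l m : G} (hl : l ∈ L)
    (hm : m ∈ M) : l⁻¹ * m * l ∈ M := by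
  have := conj_mem_of_normalizer h (inv_mem hl) hm
  rwa [inv_inv] at this

theorem le_normalizer_of_forall {M L : Subgroup G} (h : ∀ l ∈ L, ∀ m ∈ M, l * m * l⁻¹ ∈ M) :
    L ≤ normalizer (M : Set G) := by
  intro l hl
  refine mem_normalizer_of (h l hl) (fun m hm => ?_)
  have := h l⁻¹ (inv_mem hl) m hm
  rwa [inv_inv] at this

theorem mul_mem_of_relIndex_two {K B : Subgroup G} (h : K.relIndex B = 2) {s t : G}
    (hs : s ∈ B) (ht : t ∈ B) (hsK : s ∉ K) (htK : t ∉ K) : s * t ∈ K := by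
  have h1 : (K.subgroupOf B).index = 2 := h
  have h2 := (Subgroup.mul_mem_iff_of_index_two h1 (a := ⟨s, hs⟩) (b := ⟨t, ht⟩)).mpr
    ⟨fun h => absurd (mem_subgroupOf.mp h) hsK, fun h => absurd (mem_subgroupOf.mp h) htK⟩
  exact mem_subgroupOf.mp h2

theorem exists_not_mem_of_relIndex {K B : Subgroup G} (h : K.relIndex B ≠ 1) : ∃ s ∈ B, s ∉ K := by
  by_contra hcon
  push Not at hcon
  exact h (Subgroup.relIndex_eq_one.mpr hcon)

theorem eq_or_eq_of_relIndex_prime {K H L : Subgroup G} {p : ℕ} (hp : p.Prime) (h : K.relIndex L = p)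
    (h1 : K ≤ H) (h2 : H ≤ L) : H = K ∨ H = L := by
  have h3 := Subgroup.relIndex_mul_relIndex K H L h1 h2
  rw [h] at h3
  rcases (Nat.prime_mul_iff.mp (h3 ▸ hp)) with ⟨-, h4⟩ | ⟨-, h4⟩
  · exact Or.inr (le_antisymm h2 (Subgroup.relIndex_eq_one.mp h4))
  · exact Or.inl (le_antisymm (Subgroup.relIndex_eq_one.mp h4) h1)

theorem card_mul_relIndex' {K L : Subgroup G} (h : K ≤ L) : Nat.card K * K.relIndex L = Nat.card L := by
  have := Subgroup.card_mul_index (K.subgroupOf L)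
  rw [Nat.card_congr (Subgroup.subgroupOfEquivOfLe h).toEquiv] at this
  exact this

theorem card_sup_mul_card_inf {H N : Subgroup G} (h : H ≤ normalizer (N : Set G)) :
    Nat.card ↥(H ⊔ N) * Nat.card ↥(H ⊓ N) = Nat.card H * Nat.card N := by
  rw [← Cfsg.Agent.Lib.ProductSet.card_mul_card_inf H N]
  congr 1
  have := Subgroup.coe_mul_of_left_le_normalizer_right H N h
  exact Nat.card_congr (Equiv.setCongr this)

/-- three cosets -/
theorem exists_three {B L : Subgroup G} (h : B.relIndex L = 3) :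
    ∃ p ∈ L, ∃ p' ∈ L, p ∉ B ∧ p' ∉ B ∧ p⁻¹ * p' ∉ B := by
  have h1 : Nat.card (L ⧸ B.subgroupOf L) = 3 := h
  have : Finite (L ⧸ B.subgroupOf L) := Nat.finite_of_card_ne_zero (by rw [h1]; norm_num)
  have := Fintype.ofFinite (L ⧸ B.subgroupOf L)
  classical
  have h2 : 1 < ((Finset.univ : Finset (L ⧸ B.subgroupOf L)).erase ((1 : L) : L ⧸ B.subgroupOf L)).card := by
    rw [Finset.card_erase_of_mem (Finset.mem_univ _), Finset.card_univ, ← Nat.card_eq_fintype_card, h1]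
    norm_num
  obtain ⟨a, ha, b, hb, hab⟩ := Finset.one_lt_card.mp h2
  obtain ⟨x, rfl⟩ := QuotientGroup.mk_surjective a
  obtain ⟨y, rfl⟩ := QuotientGroup.mk_surjective b
  rw [Finset.mem_erase] at ha hb
  have e1 : ∀ z : L, (z : L ⧸ B.subgroupOf L) ≠ ((1 : L) : L ⧸ B.subgroupOf L) → (z : G) ∉ B := by
    intro z hz hzB
    apply hz
    rw [QuotientGroup.eq, mul_one]
    exact inv_mem (mem_subgroupOf.mpr hzB)
  refine ⟨x, x.2, y, y.2, e1 x ha.1, e1 y hb.1, fun h3 => hab ?_⟩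
  rw [QuotientGroup.eq]
  exact mem_subgroupOf.mpr (by simpa using h3)

/-! ### `zc`, `zl` -/

theorem zc_le (B : Subgroup G) : zc B ≤ B := by
  unfold zc omegaOne
  rw [closure_le]
  intro x hx
  exact hx.1.1

theorem zc_le_centralizer (B : Subgroup G) : zc B ≤ centralizer (B : Set G) := by
  unfold zc omegaOne
  rw [closure_le]
  intro x hx
  exact hx.1.2

theorem zc_comm {B : Subgroup G} {b y : G} (hb : b ∈ B) (hy : y ∈ zc B) : b * y = y * b :=
  mem_centralizer_iff.mp (zc_le_centralizer B hy) b hb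

theorem mem_zc {B : Subgroup G} {x : G} (hx : x ∈ B) (hc : ∀ b ∈ B, b * x = x * b) (h2 : x ^ 2 = 1) : x ∈ zc B :=
  subset_closure ⟨⟨hx, mem_centralizer_iff.mpr hc⟩, h2⟩

theorem zc_sq {B : Subgroup G} {x : G} (hx : x ∈ zc B) : x ^ 2 = 1 := by
  unfold zc omegaOne at hx
  induction hx using closure_induction with
  | mem x hx => exact hx.2
  | one => simp
  | mul x y hx hy ihx ihy =>
    have hc : x * y = y * x := zc_comm (zc_le B hx) hy
    rw [(show Commute x y from hc).mul_pow, ihx, ihy, one_mul]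
  | inv x hx ih => rw [inv_pow, ih, inv_one]

theorem zc_mul_self {B : Subgroup G} {x : G} (hx : x ∈ zc B) : x * x = 1 := by
  rw [← pow_two]; exact zc_sq hx

theorem zc_ne_bot [Finite G] {B : Subgroup G} (hB : IsPGroup 2 B) (hne : B ≠ ⊥) : zc B ≠ ⊥ := by
  have : Fact (Nat.Prime 2) := ⟨Nat.prime_two⟩
  have : Nontrivial B := (nontrivial_iff_ne_bot B).mpr hne
  have := hB.center_nontrivial
  obtain ⟨n, hn⟩ := (hB.to_subgroup (center B)).exists_card_eq
  have hn0 : 0 < n := by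
    rcases Nat.eq_zero_or_pos n with h | h
    · rw [h, pow_zero] at hn
      have := (Nat.card_eq_one_iff_unique.mp hn).1
      exact absurd this (not_subsingleton _)
    · exact h
  have hdvd : 2 ∣ Nat.card (center B) := by rw [hn]; exact dvd_pow_self 2 (by omega)
  obtain ⟨z, hz⟩ := exists_prime_orderOf_dvd_card' 2 hdvd
  intro h
  have hzG : ((z : B) : G) ∈ zc B := by
    refine mem_zc (z : B).2 (fun b hb => ?_) ?_
    · have := (mem_center_iff.mp z.2) ⟨b, hb⟩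
      exact congrArg Subtype.val this
    · have h2 : z ^ 2 = 1 := by rw [← hz]; exact pow_orderOf_eq_one z
      have h3 : (((z ^ 2 : center B) : B) : G) = 1 := by rw [h2]; rfl
      simpa using h3
  rw [h, mem_bot] at hzG
  have hz1 : z = 1 := by
    apply Subtype.ext; apply Subtype.ext; exact hzG
  rw [hz1, orderOf_one] at hz
  exact absurd hz (by norm_num)

theorem zc_le_zl (B L : Subgroup G) : zc B ≤ zl B L := by
  intro x hx
  refine mem_iSup_of_mem (1 : L) ?_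
  refine mem_map.mpr ⟨x, hx, by simp⟩

theorem conj_mem_zl {B L : Subgroup G} {l x : G} (hl : l ∈ L) (hx : x ∈ zc B) : l * x * l⁻¹ ∈ zl B L := by
  refine mem_iSup_of_mem (⟨l, hl⟩ : L) ?_
  exact mem_map.mpr ⟨x, hx, by simp⟩

theorem zl_le_of {B L K : Subgroup G} (h : ∀ l ∈ L, ∀ x ∈ zc B, l * x * l⁻¹ ∈ K) : zl B L ≤ K := by
  refine iSup_le (fun l => ?_)
  intro y hy
  obtain ⟨x, hx, rfl⟩ := mem_map.mp hy
  simpa using h l l.2 x hx

theorem zl_conj {B L : Subgroup G} {l z : G} (hl : l ∈ L) (hz : z ∈ zl B L) : l * z * l⁻¹ ∈ zl B L := by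
  have h : zl B L ≤ (zl B L).comap (MulAut.conj l).toMonoidHom := by
    refine zl_le_of (fun m hm x hx => ?_)
    rw [mem_comap]
    have h1 : (MulAut.conj l).toMonoidHom (m * x * m⁻¹) = (l * m) * x * (l * m)⁻¹ := by
      simp only [MulEquiv.coe_toMonoidHom, MulAut.conj_apply]; group
    rw [h1]
    exact conj_mem_zl (mul_mem hl hm) hx
  have := h hz
  simpa using this

theorem le_normalizer_zl (B L : Subgroup G) : L ≤ normalizer (zl B L : Set G) :=
  le_normalizer_of_forall (fun _ hl _ hm => zl_conj hl hm)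

theorem zl_le_self {B L : Subgroup G} (h : B ≤ L) : zl B L ≤ L :=
  zl_le_of (fun _ hl _ hx => mul_mem (mul_mem hl (h (zc_le B hx))) (inv_mem hl))

theorem rl_le (B L : Subgroup G) : rl B L ≤ zc B := inf_le_left

theorem rl_comm {B L : Subgroup G} {l r : G} (hl : l ∈ L) (hr : r ∈ rl B L) : l * r = r * l :=
  mem_centralizer_iff.mp hr.2 l hl

theorem mem_rl {B L : Subgroup G} {r : G} (h1 : r ∈ zc B) (h2 : ∀ l ∈ L, l * r = r * l) : r ∈ rl B L :=
  ⟨h1, mem_centralizer_iff.mpr h2⟩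

/-! ### `o2` -/

theorem o2_le (L : Subgroup G) : o2 L ≤ L := by
  unfold o2; exact map_subtype_le _

theorem o2_conj {L : Subgroup G} {l q : G} (hl : l ∈ L) (hq : q ∈ o2 L) : l * q * l⁻¹ ∈ o2 L := by
  unfold o2 at hq ⊢
  obtain ⟨x, hx, rfl⟩ := mem_map.mp hq
  have h1 : (pCore 2 L).Normal := Cfsg.Agent.Lib.Cores.pCore_normal 2
  exact mem_map.mpr ⟨⟨l, hl⟩ * x * ⟨l, hl⟩⁻¹, h1.conj_mem x hx _, by simp⟩

theorem le_normalizer_o2 (L : Subgroup G) : L ≤ normalizer (o2 L : Set G) :=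
  le_normalizer_of_forall (fun _ hl _ hm => o2_conj hl hm)

theorem o2_isPGroup (L : Subgroup G) : IsPGroup 2 (o2 L) := by
  unfold o2
  exact (Cfsg.Agent.Lib.Cores.pCore_isPGroup 2).map _

theorem le_o2 {K L : Subgroup G} (hK : IsPGroup 2 K) (hKL : K ≤ L) (hn : L ≤ normalizer (K : Set G)) :
    K ≤ o2 L := by
  have h1 : (K.subgroupOf L).Normal := by
    refine ⟨fun x hx l => ?_⟩
    rw [mem_subgroupOf] at hx ⊢
    exact conj_mem_of_normalizer hn l.2 hx
  have h2 : IsPGroup 2 (K.subgroupOf L) := hK.comap_subtype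
  have h3 := Cfsg.Agent.Lib.Cores.le_pCore h1 h2
  intro x hx
  exact mem_map.mpr ⟨⟨x, hKL hx⟩, h3 (mem_subgroupOf.mpr hx), rfl⟩

end Cfsg.Agent.ZN.Block

namespace Cfsg.Agent.ZN.IsBlk

open Subgroup Cfsg Cfsg.Agent.ZN.Block

universe u

variable {G : Type u} [Group G] {B L : Subgroup G}

theorem zl_le_o2 (h : IsBlk B L) : zl B L ≤ o2 L := by
  rw [← h.cent_zl]
  refine le_inf (zl_le_self h.le) (fun x hx => ?_)
  rw [mem_centralizer_iff]
  exact fun y hy => h.zl_comm y hy x hx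

theorem zl_le_B (h : IsBlk B L) : zl B L ≤ B := h.zl_le_o2.trans h.o2_le

theorem o2_le_L (h : IsBlk B L) : o2 L ≤ L := h.o2_le.trans h.le

theorem zc_le_o2 (h : IsBlk B L) : zc B ≤ o2 L := (zc_le_zl B L).trans h.zl_le_o2

theorem o2_comm (h : IsBlk B L) {q z : G} (hq : q ∈ o2 L) (hz : z ∈ zl B L) : q * z = z * q := by
  rw [← h.cent_zl] at hq
  exact (mem_centralizer_iff.mp hq.2 z hz).symm

theorem mem_o2 (h : IsBlk B L) {b : G} (hb : b ∈ L) (hc : ∀ z ∈ zl B L, b * z = z * b) : b ∈ o2 L := by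
  rw [← h.cent_zl]
  exact ⟨hb, mem_centralizer_iff.mpr (fun z hz => (hc z hz).symm)⟩

theorem o2_two (h : IsBlk B L) {s t : G} (hs : s ∈ B) (ht : t ∈ B) (hs' : s ∉ o2 L) (ht' : t ∉ o2 L) :
    s * t ∈ o2 L := mul_mem_of_relIndex_two h.o2_index hs ht hs' ht'

theorem zl_mul_self (h : IsBlk B L) {z : G} (hz : z ∈ zl B L) : z * z = 1 := by
  rw [← pow_two]; exact h.zl_sq z hz

theorem eq_or_eq (h : IsBlk B L) {H : Subgroup G} (h1 : B ≤ H) (h2 : H ≤ L) : H = B ∨ H = L :=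
  eq_or_eq_of_relIndex_prime Nat.prime_three h.index h1 h2

theorem not_le_normalizer (h : IsBlk B L) : ¬ L ≤ normalizer (B : Set G) := by
  intro hn
  have h1 := le_o2 h.two h.le hn
  have h2 : o2 L = B := le_antisymm h.o2_le h1
  have h3 := h.o2_index
  rw [h2, relIndex_self] at h3
  exact absurd h3 (by norm_num)

theorem not_mem_normalizer (h : IsBlk B L) {p : G} (hp : p ∈ L) (hpB : p ∉ B) : p ∉ normalizer (B : Set G) := by
  intro hn
  rcases h.eq_or_eq (H := normalizer (B : Set G) ⊓ L) (le_inf le_normalizer h.le) inf_le_right with h1 | h1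
  · exact hpB (h1 ▸ (⟨hn, hp⟩ : p ∈ normalizer (B : Set G) ⊓ L))
  · exact h.not_le_normalizer (inf_eq_right.mp h1)

theorem inter [Finite G] (h : IsBlk B L) {p b : G} (hp : p ∈ L) (hpB : p ∉ B) (hb : b ∈ B) (hpb : p⁻¹ * b * p ∈ B) :
    b ∈ o2 L := by
  by_contra hcon
  apply h.not_mem_normalizer hp hpB
  -- `B ≤ p B p⁻¹`
  have h1 : B ≤ B.comap (MulAut.conj p⁻¹).toMonoidHom := by
    intro x hx
    rw [mem_comap]
    simp only [MulEquiv.coe_toMonoidHom, MulAut.conj_apply, inv_inv]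
    have hq : ∀ q ∈ o2 L, p⁻¹ * q * p ∈ B := fun q hq => by
      have := o2_conj (inv_mem hp) hq
      rw [inv_inv] at this
      exact h.o2_le this
    by_cases hxQ : x ∈ o2 L
    · exact hq x hxQ
    · have h2 := hq _ (h.o2_two hx hb hxQ hcon)
      have h3 : p⁻¹ * x * p = (p⁻¹ * (x * b) * p) * (p⁻¹ * b * p)⁻¹ := by group
      rw [h3]
      exact mul_mem h2 (inv_mem hpb)
  have h4 : ∀ x ∈ B, p⁻¹ * x * p ∈ B := fun x hx => by
    have := h1 hx
    rw [mem_comap] at this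
    simpa only [MulEquiv.coe_toMonoidHom, MulAut.conj_apply, inv_inv] using this
  -- finiteness
  have h5 : B.map (MulAut.conj p⁻¹).toMonoidHom = B := by
    refine Subgroup.eq_of_le_of_card_ge ?_ ?_
    · rintro _ ⟨x, hx, rfl⟩
      simpa only [MulEquiv.coe_toMonoidHom, MulAut.conj_apply, inv_inv] using h4 x hx
    · exact le_of_eq (Subgroup.card_map_of_injective (f := (MulAut.conj p⁻¹).toMonoidHom)
        (MulAut.conj p⁻¹).injective).symm
  refine mem_normalizer_of (fun m hm => ?_) h4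
  rw [← h5] at hm
  obtain ⟨x, hx, rfl⟩ := mem_map.mp hm
  have : p * (MulAut.conj p⁻¹).toMonoidHom x * p⁻¹ = x := by
    simp only [MulEquiv.coe_toMonoidHom, MulAut.conj_apply, inv_inv]; group
  rw [this]; exact hx

theorem card_zc [Finite G] (h : IsBlk B L) : Nat.card (zc B) = 2 * Nat.card (rl B L) := by
  rw [← card_mul_relIndex' (rl_le B L), h.rl_index, mul_comm]

theorem _root_.Cfsg.Agent.ZN.Block.vl_le_zl (B L : Subgroup G) : vl B L ≤ zl B L := by
  unfold vl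
  rw [commutator_le]
  intro z hz l hl
  rw [commutatorElement_def]
  have h1 := zl_conj hl (inv_mem hz)
  have h2 : z * l * z⁻¹ * l⁻¹ = z * (l * z⁻¹ * l⁻¹) := by group
  rw [h2]
  exact mul_mem hz h1

theorem card_zl [Finite G] (h : IsBlk B L) : Nat.card (zl B L) = 4 * Nat.card (rl B L) := by
  have hn : (rl B L : Subgroup G) ≤ normalizer (vl B L : Set G) := by
    refine le_normalizer_of_forall (fun r hr v hv => ?_)
    rw [h.zl_comm r (zc_le_zl B L (rl_le B L hr)) v (vl_le_zl B L hv), mul_inv_cancel_right]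
    exact hv
  have h1 := card_sup_mul_card_inf hn
  rw [h.sup_eq, h.disj, Subgroup.card_bot, mul_one, h.card_vl] at h1
  rw [h1, mul_comm]

theorem card_zl_eq [Finite G] (h : IsBlk B L) : Nat.card (zl B L) = 2 * Nat.card (zc B) := by
  rw [h.card_zl, h.card_zc]; ring

theorem relIndex_zl [Finite G] (h : IsBlk B L) : (zc B).relIndex (zl B L) = 2 := by
  have h1 := card_mul_relIndex' (zc_le_zl B L)
  rw [h.card_zl_eq, mul_comm 2] at h1
  exact Nat.eq_of_mul_eq_mul_left Nat.card_pos h1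

theorem zl_two [Finite G] (h : IsBlk B L) {z z' : G} (hz : z ∈ zl B L) (hz' : z' ∈ zl B L)
    (h1 : z ∉ zc B) (h2 : z' ∉ zc B) : z * z' ∈ zc B := mul_mem_of_relIndex_two h.relIndex_zl hz hz' h1 h2

theorem rl_two (h : IsBlk B L) {z z' : G} (hz : z ∈ zc B) (hz' : z' ∈ zc B)
    (h1 : z ∉ rl B L) (h2 : z' ∉ rl B L) : z * z' ∈ rl B L := mul_mem_of_relIndex_two h.rl_index hz hz' h1 h2

theorem exists_zl [Finite G] (h : IsBlk B L) : ∃ z ∈ zl B L, z ∉ zc B :=
  exists_not_mem_of_relIndex (by rw [h.relIndex_zl]; norm_num)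

theorem exists_B (h : IsBlk B L) : ∃ b ∈ B, b ∉ o2 L :=
  exists_not_mem_of_relIndex (by rw [h.o2_index]; norm_num)

theorem exists_L (h : IsBlk B L) : ∃ p ∈ L, ∃ p' ∈ L, p ∉ B ∧ p' ∉ B ∧ p⁻¹ * p' ∉ B :=
  exists_three h.index

/-- an element of `B` outside `O₂(L)` does not commute with an element of `zl` outside `zc` -/
theorem ne_comm [Finite G] (h : IsBlk B L) {z b : G} (hz : z ∈ zl B L) (hzY : z ∉ zc B) (hb : b ∈ B)
    (hbQ : b ∉ o2 L) : z * b ≠ b * z := by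
  intro hc
  apply hbQ
  refine h.mem_o2 (h.le hb) (fun w hw => ?_)
  by_cases hwY : w ∈ zc B
  · exact zc_comm hb hwY
  · have h1 := h.zl_two hw hz hwY hzY
    have h2 : w = (w * z) * z := by rw [mul_assoc, h.zl_mul_self hz, mul_one]
    have h3 := zc_comm hb h1
    rw [h2, ← mul_assoc, h3, mul_assoc (w * z) b z, ← hc, ← mul_assoc]

/-- the commutator of `z ∈ zl ∖ zc` with `b ∈ B ∖ O₂(L)` does not depend on the choices -/
theorem comm_eq [Finite G] (h : IsBlk B L) {z b z' b' : G} (hz : z ∈ zl B L) (hzY : z ∉ zc B) (hb : b ∈ B)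
    (hbQ : b ∉ o2 L) (hz' : z' ∈ zl B L) (hzY' : z' ∉ zc B) (hb' : b' ∈ B) (hbQ' : b' ∉ o2 L) :
    z⁻¹ * b⁻¹ * z * b = z'⁻¹ * b'⁻¹ * z' * b' := by
  -- `z' = z y`, `b' = b q`
  obtain ⟨y, hy, rfl⟩ : ∃ y ∈ zc B, z' = z * y := by
    refine ⟨z * z', h.zl_two hz hz' hzY hzY', ?_⟩
    rw [← mul_assoc, h.zl_mul_self hz, one_mul]
  have hbinv : b⁻¹ ∉ o2 L := fun hh => hbQ (by have := inv_mem hh; rwa [inv_inv] at this)
  obtain ⟨q, hq, rfl⟩ : ∃ q ∈ o2 L, b' = b * q :=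
    ⟨b⁻¹ * b', h.o2_two (inv_mem hb) hb' hbinv hbQ', by group⟩
  have e1 : ∀ x ∈ B, x * y = y * x := fun x hx => zc_comm hx hy
  have hyB := zc_le B hy
  have e2 : z * y = y * z := h.zl_comm z hz y (zc_le_zl B L hy)
  set t := z⁻¹ * b⁻¹ * z * b with ht
  -- `t ∈ zl`
  have ht' : t ∈ zl B L := by
    have h1 := zl_conj (h.le (inv_mem hb)) hz
    rw [inv_inv] at h1
    have h2 : t = z⁻¹ * (b⁻¹ * z * b) := by rw [ht]; group
    rw [h2]; exact mul_mem (inv_mem hz) h1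
  have hzyq : q * (z * y) = (z * y) * q := h.o2_comm hq hz'
  have e3 : (z * y)⁻¹ * q⁻¹ = q⁻¹ * (z * y)⁻¹ := by
    rw [← mul_inv_rev, ← mul_inv_rev, hzyq]
  have e4 : q * t = t * q := h.o2_comm hq ht'
  have e5 : b⁻¹ * y = y * b⁻¹ := e1 b⁻¹ (inv_mem hb)
  calc t = q⁻¹ * (q * t) := by group
    _ = q⁻¹ * (t * q) := by rw [e4]
    _ = q⁻¹ * (z⁻¹ * b⁻¹ * z * b) * q := by rw [ht]; group
    _ = q⁻¹ * (z⁻¹ * y⁻¹ * (y * b⁻¹) * z * b) * q := by group
    _ = q⁻¹ * (z⁻¹ * y⁻¹ * (b⁻¹ * y) * z * b) * q := by rw [e5]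
    _ = q⁻¹ * ((y * z)⁻¹ * b⁻¹ * (y * z) * b) * q := by group
    _ = q⁻¹ * ((z * y)⁻¹ * b⁻¹ * (z * y) * b) * q := by rw [e2]
    _ = (q⁻¹ * (z * y)⁻¹) * b⁻¹ * (z * y) * b * q := by group
    _ = ((z * y)⁻¹ * q⁻¹) * b⁻¹ * (z * y) * b * q := by rw [e3]
    _ = (z * y)⁻¹ * (b * q)⁻¹ * (z * y) * (b * q) := by group

/-- the commutator element `ρ` of a block -/
theorem exists_rho [Finite G] (h : IsBlk B L) : ∃ ρ : G, ρ ∈ zc B ∧ ρ ∈ vl B L ∧ ρ ≠ 1 ∧ ρ ∉ rl B L ∧
    (∀ z ∈ zl B L, z ∉ zc B → ∀ b ∈ B, b ∉ o2 L → z * b = b * z * ρ) := by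
  obtain ⟨z, hz, hzY⟩ := h.exists_zl
  obtain ⟨b, hb, hbQ⟩ := h.exists_B
  have hbL := h.le hb
  set ρ := z⁻¹ * b⁻¹ * z * b with hρ
  have hv : ρ ∈ vl B L := by
    have h1 := commutator_mem_commutator (inv_mem hz) (inv_mem hbL)
    rw [commutatorElement_def, inv_inv, inv_inv] at h1
    exact h1
  have hne : ρ ≠ 1 := by
    intro h1
    apply h.ne_comm hz hzY hb hbQ
    have h2 : z * b = b * z * ρ := by rw [hρ]; group
    rw [h2, h1, mul_one]
  have hcomm : ∀ z ∈ zl B L, z ∉ zc B → ∀ b ∈ B, b ∉ o2 L → z * b = b * z * ρ := by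
    intro z' hz' hzY' b' hb' hbQ'
    rw [hρ, h.comm_eq hz hzY hb hbQ hz' hzY' hb' hbQ']
    group
  have hρzl := vl_le_zl B L hv
  have hρzc : ρ ∈ zc B := by
    by_contra hcon
    -- `ρ` is invariant under `b`
    have h1 := hcomm _ hz hzY b hb hbQ
    have h2 := hcomm _ hρzl hcon b hb hbQ
    -- apply independence to `z * ρ`-type elements: conjugating `z` by `b`
    have h3 : b⁻¹ * z * b = z * ρ := by
      rw [mul_assoc, h1]; group
    have h4 : z * ρ ∉ zc B ∨ z * ρ ∈ zc B := (em _).symm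
    have h5 : b⁻¹ * z * b ∉ zc B := by
      intro h6
      apply hzY
      have h7 : z = b * (b⁻¹ * z * b) * b⁻¹ := by group
      rw [h7, zc_comm hb h6, mul_inv_cancel_right]
      exact h6
    have h6 : b⁻¹ * z * b ∈ zl B L := by
      have := zl_conj (inv_mem hbL) hz
      rwa [inv_inv] at this
    -- z * (z ρ) = ρ is then in zc
    apply hcon
    have h7 := h.zl_two hz h6 hzY h5
    rw [h3, ← mul_assoc, h.zl_mul_self hz, one_mul] at h7
    exact h7
  refine ⟨ρ, hρzc, hv, hne, fun hr => hne ?_, hcomm⟩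
  have : ρ ∈ rl B L ⊓ vl B L := ⟨hr, hv⟩
  rw [h.disj, mem_bot] at this
  exact this

/-- `zl` is generated by two different conjugates of `zc`. -/
theorem zl_gen [Finite G] (h : IsBlk B L) {p : G} (hp : p ∈ L) (hpB : p ∉ B) {H : Subgroup G} (h1 : zc B ≤ H)
    (h2 : ∀ y ∈ zc B, p * y * p⁻¹ ∈ H) : zl B L ≤ H := by
  have h3 : (H ⊓ zl B L) = zc B ∨ (H ⊓ zl B L) = zl B L :=
    eq_or_eq_of_relIndex_prime Nat.prime_two h.relIndex_zl (le_inf h1 (zc_le_zl B L)) inf_le_right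
  rcases h3 with h3 | h3
  · exfalso
    have h4 : ∀ y ∈ zc B, p * y * p⁻¹ ∈ zc B := fun y hy => by
      rw [← h3]; exact ⟨h2 y hy, conj_mem_zl hp hy⟩
    have h5 : p ∈ normalizer (zc B : Set G) := by
      have h6 : (zc B).map (MulAut.conj p).toMonoidHom = zc B := by
        refine Subgroup.eq_of_le_of_card_ge ?_ ?_
        · rintro _ ⟨x, hx, rfl⟩
          simpa only [MulEquiv.coe_toMonoidHom, MulAut.conj_apply] using h4 x hx
        · exact le_of_eq (Subgroup.card_map_of_injective (f := (MulAut.conj p).toMonoidHom)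
            (MulAut.conj p).injective).symm
      refine mem_normalizer_of h4 (fun m hm => ?_)
      rw [← h6] at hm
      obtain ⟨x, hx, rfl⟩ := mem_map.mp hm
      have : p⁻¹ * (MulAut.conj p).toMonoidHom x * p = x := by
        simp only [MulEquiv.coe_toMonoidHom, MulAut.conj_apply]; group
      rw [this]; exact hx
    have hB : B ≤ normalizer (zc B : Set G) := by
      refine le_normalizer_of_forall (fun b hb y hy => ?_)
      rw [zc_comm hb hy, mul_inv_cancel_right]; exact hy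
    rcases h.eq_or_eq (H := normalizer (zc B : Set G) ⊓ L) (le_inf hB h.le) inf_le_right with h7 | h7
    · exact hpB (h7 ▸ (⟨h5, hp⟩ : p ∈ normalizer (zc B : Set G) ⊓ L))
    · have h8 : L ≤ normalizer (zc B : Set G) := inf_eq_right.mp h7
      obtain ⟨z, hz, hzY⟩ := h.exists_zl
      exact hzY (zl_le_of (fun l hl x hx => conj_mem_of_normalizer h8 hl hx) hz)
  · exact inf_eq_right.mp h3

end Cfsg.Agent.ZN.IsBlk
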