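import Cfsg.Agent.ZN.Map

/-!
# ZN-groups (S0518): elementary facts on `o2`, `zc`, `jj`, `zj`, `bau`
-/

set_option autoImplicit false
set_option linter.style.haveILetI false

namespace Cfsg.Agent.ZN

open Subgroup Cfsg
open Cfsg.Agent.PLocal.ThompsonJ Cfsg.Agent.Lib

universe u

variable {G : Type u} [Group G]

/-! ### General principle: conjugation -/

theorem map_conj_eq_of_mem_normalizer {B : Subgroup G} {g : G}
    (hg : g ∈ normalizer (B : Set G)) : B.map (MulAut.conj g).toMonoidHom = B := by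
  ext x
  constructor
  · rintro ⟨b, hb, rfl⟩
    exact (mem_normalizer_iff.1 hg b).1 hb
  · intro hx
    refine ⟨g⁻¹ * x * g, ?_, by simp [mul_assoc]⟩
    have := (mem_normalizer_iff.1 ((normalizer (B : Set G)).inv_mem hg) x).1 hx
    simpa using this

theorem mem_normalizer_of_map_conj_eq {B : Subgroup G} {g : G}
    (hg : B.map (MulAut.conj g).toMonoidHom = B) : g ∈ normalizer (B : Set G) := by
  rw [mem_normalizer_iff]
  intro x
  constructor
  · intro hx
    rw [← hg]
    exact ⟨x, hx, rfl⟩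
  · intro hx
    rw [← hg] at hx
    obtain ⟨b, hb, hbx⟩ := hx
    have : b = x := by
      have h1 : g * b * g⁻¹ = g * x * g⁻¹ := hbx
      exact mul_left_cancel (mul_right_cancel h1)
    rwa [← this]

/-- a subgroup constructed equivariantly is normalized by the normalizer. -/
theorem normalizer_le_of_equivariant (F : Subgroup G → Subgroup G)
    (hF : ∀ (g : G) (B : Subgroup G), F (B.map (MulAut.conj g).toMonoidHom) =
      (F B).map (MulAut.conj g).toMonoidHom) (B : Subgroup G) :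
    normalizer (B : Set G) ≤ normalizer ((F B : Subgroup G) : Set G) := by
  intro g hg
  apply mem_normalizer_of_map_conj_eq
  rw [← hF, map_conj_eq_of_mem_normalizer hg]

/-! ### `zc` -/

theorem mem_omegaOne_iff_of_comm {p : ℕ} {H : Subgroup G}
    (hH : ∀ x ∈ H, ∀ y ∈ H, x * y = y * x) {x : G} :
    x ∈ omegaOne p H ↔ x ∈ H ∧ x ^ p = 1 := by
  constructor
  · intro hx
    rw [omegaOne] at hx
    induction hx using Subgroup.closure_induction with
    | mem x hx => exact hx
    | one => exact ⟨one_mem _, one_pow _⟩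
    | mul x y _ _ hx hy =>
      refine ⟨mul_mem hx.1 hy.1, ?_⟩
      rw [(show Commute x y from hH x hx.1 y hy.1).mul_pow, hx.2, hy.2, one_mul]
    | inv x _ hx => exact ⟨inv_mem hx.1, by rw [inv_pow, hx.2, inv_one]⟩
  · intro hx
    exact subset_closure hx

theorem mem_zc {B : Subgroup G} {x : G} :
    x ∈ zc B ↔ x ∈ B ∧ (∀ b ∈ B, b * x = x * b) ∧ x ^ 2 = 1 := by
  rw [zc, mem_omegaOne_iff_of_comm]
  · rw [mem_inf, mem_centralizer_iff]
    constructor
    · rintro ⟨⟨h1, h2⟩, h3⟩
      exact ⟨h1, h2, h3⟩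
    · rintro ⟨h1, h2, h3⟩
      exact ⟨⟨h1, h2⟩, h3⟩
  · rintro x ⟨hx, _⟩ y ⟨_, hy⟩
    exact (mem_centralizer_iff.1 hy) x hx

theorem zc_le (B : Subgroup G) : zc B ≤ B := fun _ hx => (mem_zc.1 hx).1

theorem zc_comm {B : Subgroup G} {x b : G} (hx : x ∈ zc B) (hb : b ∈ B) : b * x = x * b :=
  (mem_zc.1 hx).2.1 b hb

theorem zc_sq {B : Subgroup G} {x : G} (hx : x ∈ zc B) : x ^ 2 = 1 := (mem_zc.1 hx).2.2

theorem zc_le_centralizer (B : Subgroup G) : zc B ≤ centralizer (B : Set G) :=
  fun _ hx => mem_centralizer_iff.2 fun _ hb => zc_comm hx hb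

theorem le_centralizer_zc (B : Subgroup G) : B ≤ centralizer (zc B : Set G) :=
  fun _ hb => mem_centralizer_iff.2 fun _ hx => (zc_comm hx hb).symm

theorem isElementaryAbelian_zc (B : Subgroup G) : IsElementaryAbelian 2 (zc B) :=
  isElementaryAbelian_iff.2 ⟨fun _ ha _ hb => zc_comm hb (zc_le B ha), fun _ ha => zc_sq ha⟩

theorem isPGroup_zc (B : Subgroup G) : IsPGroup 2 (zc B) :=
  isPGroup_of_isElementaryAbelian (isElementaryAbelian_zc B)

theorem normalizer_le_normalizer_zc (B : Subgroup G) :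
    normalizer (B : Set G) ≤ normalizer (zc B : Set G) :=
  normalizer_le_of_equivariant zc (fun g B => zc_map _ (MulAut.conj g).injective B) B

theorem le_normalizer_zc (B : Subgroup G) : B ≤ normalizer (zc B : Set G) :=
  le_normalizer.trans (normalizer_le_normalizer_zc B)

/-- A nontrivial finite 2-group has a central involution. -/
theorem zc_ne_bot [Finite G] {B : Subgroup G} (hB : IsPGroup 2 B) (h1 : B ≠ ⊥) : zc B ≠ ⊥ := by
  have hnt : Nontrivial B := (nontrivial_iff_ne_bot B).2 h1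
  haveI : Fact (Nat.Prime 2) := ⟨Nat.prime_two⟩
  have h2 : Nontrivial (center B) := hB.center_nontrivial
  have h3 : IsPGroup 2 (center B) := hB.to_subgroup _
  obtain ⟨n, hn⟩ := IsPGroup.iff_card.1 h3
  have hn0 : n ≠ 0 := by
    rintro rfl
    rw [pow_zero] at hn
    have := Finite.one_lt_card_iff_nontrivial.2 h2
    omega
  have h4 : 2 ∣ Nat.card (center B) := by
    rw [hn]
    exact dvd_pow_self 2 hn0
  obtain ⟨x, hx⟩ := exists_prime_orderOf_dvd_card' 2 h4
  intro hbot
  have h5 : ((x : B) : G) ∈ zc B := by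
    refine mem_zc.2 ⟨(x : B).2, ?_, ?_⟩
    · intro b hb
      have := mem_center_iff.1 x.2 ⟨b, hb⟩
      exact congrArg Subtype.val this
    · have h6 : x ^ 2 = 1 := by rw [← hx]; exact pow_orderOf_eq_one x
      have h7 := congrArg (fun y : center B => ((y : B) : G)) h6
      simpa using h7
  rw [hbot, mem_bot] at h5
  have h6 : x = 1 := Subtype.ext (Subtype.ext h5)
  rw [h6, orderOf_one] at hx
  omega

/-! ### `jj`: largest elementary abelian 2-subgroups, inside the ambient group -/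

/-- `A` is an elementary abelian 2-subgroup of `T` of largest order. -/
def IsMaxIn (T A : Subgroup G) : Prop :=
  A ≤ T ∧ IsElementaryAbelian 2 A ∧
    ∀ B : Subgroup G, B ≤ T → IsElementaryAbelian 2 B → Nat.card B ≤ Nat.card A

theorem isMaxIn_iff {T A : Subgroup G} :
    IsMaxIn T A ↔ A ≤ T ∧ A.subgroupOf T ∈ maxElementaryAbelianSubgroups 2 T := by
  constructor
  · rintro ⟨h1, h2, h3⟩
    refine ⟨h1, isElementaryAbelian_subgroupOf h2 T, fun B hB => ?_⟩
    have h4 := h3 (B.map T.subtype) (map_subtype_le B) (isElementaryAbelian_map hB _)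
    rw [card_map_injective _ T.subtype_injective] at h4
    rwa [Nat.card_congr (subgroupOfEquivOfLe h1).toEquiv]
  · rintro ⟨h1, h2, h3⟩
    refine ⟨h1, ?_, ?_⟩
    · have := isElementaryAbelian_map h2 T.subtype
      rwa [subgroupOf_map_subtype, inf_eq_left.2 h1] at this
    · intro B hB1 hB2
      have h4 := h3 (B.subgroupOf T) (isElementaryAbelian_subgroupOf hB2 T)
      rwa [Nat.card_congr (subgroupOfEquivOfLe h1).toEquiv,
        Nat.card_congr (subgroupOfEquivOfLe hB1).toEquiv] at h4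

theorem map_isMaxIn {T : Subgroup G} {A : Subgroup T} :
    IsMaxIn T (A.map T.subtype) ↔ A ∈ maxElementaryAbelianSubgroups 2 T := by
  have h0 : (A.map T.subtype).subgroupOf T = A :=
    comap_map_eq_self_of_injective T.subtype_injective A
  rw [isMaxIn_iff, h0]
  exact ⟨fun h => h.2, fun h => ⟨map_subtype_le A, h⟩⟩

theorem exists_isMaxIn [Finite G] (T : Subgroup G) : ∃ A, IsMaxIn T A := by
  obtain ⟨A, hA⟩ := exists_maxElementaryAbelian 2 T
  exact ⟨_, map_isMaxIn.2 hA⟩

theorem IsMaxIn.le_jj {T A : Subgroup G} (h : IsMaxIn T A) : A ≤ jj T := by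
  obtain ⟨h1, h2⟩ := isMaxIn_iff.1 h
  have h3 : A = (A.subgroupOf T).map T.subtype := by
    rw [subgroupOf_map_subtype, inf_eq_left.2 h1]
  rw [h3]
  exact Subgroup.map_mono (le_thompsonSubgroup h2)

theorem jj_le_of_forall {T U : Subgroup G} (h : ∀ A, IsMaxIn T A → A ≤ U) : jj T ≤ U := by
  rw [jj, thompsonSubgroupOf_def, map_le_iff_le_comap]
  refine thompsonSubgroup_le fun A hA => ?_
  rw [← map_le_iff_le_comap]
  exact h _ (map_isMaxIn.2 hA)

theorem jj_eq_sSup (T : Subgroup G) : jj T = sSup {A | IsMaxIn T A} :=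
  le_antisymm (jj_le_of_forall fun _ hA => le_sSup hA) (sSup_le fun _ hA => hA.le_jj)

theorem jj_le (T : Subgroup G) : jj T ≤ T := map_subtype_le _

theorem IsMaxIn.mono {T U A : Subgroup G} (h : IsMaxIn T A) (hAU : A ≤ U) (hUT : U ≤ T) :
    IsMaxIn U A :=
  ⟨hAU, h.2.1, fun B hB hB2 => h.2.2 B (hB.trans hUT) hB2⟩

theorem IsMaxIn.card_eq {T A B : Subgroup G} (hA : IsMaxIn T A) (hB : IsMaxIn T B) :
    Nat.card A = Nat.card B :=
  le_antisymm (hB.2.2 A hA.1 hA.2.1) (hA.2.2 B hB.1 hB.2.1)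

/-- If `U ≤ T` contains one largest elementary abelian subgroup of `T` then those of `U` are largest
in `T`. -/
theorem IsMaxIn.of_mono {T U A B : Subgroup G} (h : IsMaxIn T A) (hAU : A ≤ U) (hUT : U ≤ T)
    (hB : IsMaxIn U B) : IsMaxIn T B :=
  ⟨hB.1.trans hUT, hB.2.1, fun C hC hC2 => (h.2.2 C hC hC2).trans (hB.2.2 A hAU h.2.1)⟩

theorem jj_le_jj_of_isMaxIn {T U A : Subgroup G} (h : IsMaxIn T A) (hAU : A ≤ U) (hUT : U ≤ T) :
    jj U ≤ jj T :=
  jj_le_of_forall fun _ hB => (h.of_mono hAU hUT hB).le_jj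

/-- `J(T) ≤ U ≤ T` implies `J(U) = J(T)`. -/
theorem jj_eq_of_le [Finite G] {T U : Subgroup G} (h : jj T ≤ U) (hUT : U ≤ T) :
    jj U = jj T := by
  obtain ⟨A, hA⟩ := exists_isMaxIn T
  apply le_antisymm
  · exact jj_le_jj_of_isMaxIn hA (hA.le_jj.trans h) hUT
  · exact jj_le_of_forall fun B hB => (hB.mono (hB.le_jj.trans h) hUT).le_jj

theorem jj_jj [Finite G] (T : Subgroup G) : jj (jj T) = jj T :=
  jj_eq_of_le le_rfl (jj_le T)

theorem normalizer_le_normalizer_jj (B : Subgroup G) :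
    normalizer (B : Set G) ≤ normalizer (jj B : Set G) :=
  normalizer_le_of_equivariant (fun B => jj B) (fun g B => jj_map _ (MulAut.conj g).injective B) B

theorem le_normalizer_jj (B : Subgroup G) : B ≤ normalizer (jj B : Set G) :=
  le_normalizer.trans (normalizer_le_normalizer_jj B)

/-- an involution of `T` centralizing the largest elementary abelian subgroup `A` lies in `A`. -/
theorem IsMaxIn.mem_of_comm [Finite G] {T A : Subgroup G} (hA : IsMaxIn T A) {x : G} (hx : x ∈ T)
    (hx2 : x ^ 2 = 1) (hc : ∀ a ∈ A, a * x = x * a) : x ∈ A := by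
  set C : Subgroup G := A ⊔ zpowers x with hC
  have hCT : C ≤ T := sup_le hA.1 (zpowers_le.2 hx)
  have hA2 := isElementaryAbelian_iff.1 hA.2.1
  have hcl : C = closure ((A : Set G) ∪ {x}) := by
    rw [hC, Subgroup.closure_union, Subgroup.closure_eq, zpowers_eq_closure]
  have hgen : ∀ a ∈ (A : Set G) ∪ {x}, ∀ b ∈ (A : Set G) ∪ {x}, a * b = b * a := by
    rintro a (ha | ha) b (hb | hb)
    · exact hA2.1 a ha b hb
    · rw [Set.mem_singleton_iff.1 hb]; exact hc a ha
    · rw [Set.mem_singleton_iff.1 ha]; exact (hc b hb).symm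
    · rw [Set.mem_singleton_iff.1 ha, Set.mem_singleton_iff.1 hb]
  have hcomm : ∀ a ∈ C, ∀ b ∈ C, a * b = b * a := by
    have h1 : C ≤ centralizer (C : Set G) := by
      have h2 : ((A : Set G) ∪ {x}) ⊆ (centralizer (closure ((A : Set G) ∪ {x}) : Set G) : Set G) := by
        intro a ha
        rw [SetLike.mem_coe, centralizer_closure]
        exact mem_centralizer_iff.2 fun b hb => (hgen a ha b hb).symm
      rw [hcl]
      exact (closure_le _).2 h2
    intro a ha b hb
    exact (mem_centralizer_iff.1 (h1 hb)) a ha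
  have hsq : ∀ a ∈ C, a ^ 2 = 1 := by
    intro a ha
    rw [hcl] at ha
    have hle : closure ((A : Set G) ∪ {x}) ≤ C := hcl.symm.le
    induction ha using Subgroup.closure_induction with
    | mem a ha =>
      rcases ha with ha | ha
      · exact hA2.2 a ha
      · rw [Set.mem_singleton_iff.1 ha, hx2]
    | one => exact one_pow _
    | mul a b ha hb h1 h2 =>
      rw [(show Commute a b from hcomm a (hle ha) b (hle hb)).mul_pow, h1, h2, one_mul]
    | inv a _ h1 => rw [inv_pow, h1, inv_one]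
  have hle : A ≤ C := le_sup_left
  have heq : A = C := Subgroup.eq_of_le_of_card_ge hle
    (hA.2.2 C hCT (isElementaryAbelian_iff.2 ⟨hcomm, hsq⟩))
  rw [heq]
  exact (le_sup_right : zpowers x ≤ C) (mem_zpowers x)

/-! ### `zj` -/

theorem mem_zj {T : Subgroup G} {x : G} :
    x ∈ zj T ↔ x ∈ jj T ∧ (∀ b ∈ jj T, b * x = x * b) ∧ x ^ 2 = 1 := by
  rw [zj_eq_zc, mem_zc]

theorem zj_le_jj (T : Subgroup G) : zj T ≤ jj T := zc_le (jj T)

theorem zj_le (T : Subgroup G) : zj T ≤ T := (zj_le_jj T).trans (jj_le T)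

theorem jj_le_centralizer_zj (T : Subgroup G) : jj T ≤ centralizer (zj T : Set G) :=
  le_centralizer_zc (jj T)

theorem isElementaryAbelian_zj (T : Subgroup G) : IsElementaryAbelian 2 (zj T) :=
  isElementaryAbelian_zc _

theorem zj_sq {T : Subgroup G} {x : G} (hx : x ∈ zj T) : x ^ 2 = 1 := zc_sq hx

theorem isPGroup_zj (T : Subgroup G) : IsPGroup 2 (zj T) := isPGroup_zc _

/-- an involution of `T` centralizing `J(T)` lies in `Ω₁(Z(J(T)))`. -/
theorem mem_zj_of_comm [Finite G] {T : Subgroup G} {x : G} (hx : x ∈ T) (hx2 : x ^ 2 = 1)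
    (hc : ∀ b ∈ jj T, b * x = x * b) : x ∈ zj T := by
  obtain ⟨A, hA⟩ := exists_isMaxIn T
  refine mem_zj.2 ⟨hA.le_jj (hA.mem_of_comm hx hx2 fun a ha => hc a (hA.le_jj ha)), hc, hx2⟩

theorem IsMaxIn.zj_le [Finite G] {T A : Subgroup G} (hA : IsMaxIn T A) : zj T ≤ A := by
  intro x hx
  exact hA.mem_of_comm (ZN.zj_le T hx) (zj_sq hx)
    fun a ha => (mem_zj.1 hx).2.1 a (hA.le_jj ha)

theorem zc_le_zj [Finite G] (T : Subgroup G) : zc T ≤ zj T := fun _ hx =>
  mem_zj_of_comm (zc_le T hx) (zc_sq hx) fun _ hb => zc_comm hx (jj_le T hb)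

theorem normalizer_le_normalizer_zj (B : Subgroup G) :
    normalizer (B : Set G) ≤ normalizer (zj B : Set G) :=
  normalizer_le_of_equivariant zj (fun g B => zj_map _ (MulAut.conj g).injective B) B

theorem normalizer_jj_le_normalizer_zj (B : Subgroup G) :
    normalizer (jj B : Set G) ≤ normalizer (zj B : Set G) :=
  normalizer_le_normalizer_zc (jj B)

theorem le_normalizer_zj (B : Subgroup G) : B ≤ normalizer (zj B : Set G) :=
  le_normalizer.trans (normalizer_le_normalizer_zj B)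

theorem zj_eq_of_le [Finite G] {T U : Subgroup G} (h : jj T ≤ U) (hUT : U ≤ T) :
    zj U = zj T := by
  rw [zj_eq_zc, zj_eq_zc, jj_eq_of_le h hUT]

theorem zj_ne_bot [Finite G] {T : Subgroup G} (hT : IsPGroup 2 T) (h1 : T ≠ ⊥) : zj T ≠ ⊥ :=
  fun h => zc_ne_bot hT h1 (le_bot_iff.1 (h ▸ zc_le_zj T))

/-! ### `bau` -/

theorem bau_le (T : Subgroup G) : bau T ≤ T := inf_le_left

theorem bau_le_centralizer (T : Subgroup G) : bau T ≤ centralizer (zj T : Set G) := inf_le_right

theorem jj_le_bau (T : Subgroup G) : jj T ≤ bau T :=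
  le_inf (jj_le T) (jj_le_centralizer_zj T)

theorem zj_le_bau (T : Subgroup G) : zj T ≤ bau T := (zj_le_jj T).trans (jj_le_bau T)

theorem jj_bau [Finite G] (T : Subgroup G) : jj (bau T) = jj T :=
  jj_eq_of_le (jj_le_bau T) (bau_le T)

theorem zj_bau [Finite G] (T : Subgroup G) : zj (bau T) = zj T :=
  zj_eq_of_le (jj_le_bau T) (bau_le T)

theorem zc_bau [Finite G] (T : Subgroup G) : zc (bau T) = zj T := by
  apply le_antisymm
  · intro x hx
    exact mem_zj_of_comm (bau_le T (zc_le _ hx)) (zc_sq hx)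
      fun b hb => zc_comm hx (jj_le_bau T hb)
  · intro x hx
    refine mem_zc.2 ⟨zj_le_bau T hx, fun b hb => ?_, zj_sq hx⟩
    exact (mem_centralizer_iff.1 (bau_le_centralizer T hb) x hx).symm

theorem bau_bau [Finite G] (T : Subgroup G) : bau (bau T) = bau T := by
  rw [bau, zj_bau, inf_eq_left]
  exact bau_le_centralizer T

/-- `J(T) ≤ U ≤ T` implies `B(U) = U ∩ B(T)`. -/
theorem bau_eq_of_le [Finite G] {T U : Subgroup G} (h : jj T ≤ U) (hUT : U ≤ T) :
    bau U = U ⊓ bau T := by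
  rw [bau, bau, zj_eq_of_le h hUT, ← inf_assoc, inf_eq_left.2 hUT]

theorem bau_eq_of_bau_le [Finite G] {T U : Subgroup G} (h : bau T ≤ U) (hUT : U ≤ T) :
    bau U = bau T := by
  rw [bau_eq_of_le ((jj_le_bau T).trans h) hUT, inf_eq_right.2 h]

theorem normalizer_le_normalizer_bau (B : Subgroup G) :
    normalizer (B : Set G) ≤ normalizer (bau B : Set G) :=
  normalizer_le_of_equivariant bau (fun g B => bau_map _ (MulAut.conj g).injective B) B

theorem le_normalizer_bau (B : Subgroup G) : B ≤ normalizer (bau B : Set G) :=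
  le_normalizer.trans (normalizer_le_normalizer_bau B)

theorem isPGroup_bau {T : Subgroup G} (hT : IsPGroup 2 T) : IsPGroup 2 (bau T) :=
  hT.to_le (bau_le T)

theorem bau_ne_bot [Finite G] {T : Subgroup G} (hT : IsPGroup 2 T) (h1 : T ≠ ⊥) : bau T ≠ ⊥ :=
  fun h => zj_ne_bot hT h1 (le_bot_iff.1 (h ▸ zj_le_bau T))

/-! ### `o2` -/

theorem o2_le (L : Subgroup G) : o2 L ≤ L := map_subtype_le _

theorem isPGroup_o2 (L : Subgroup G) : IsPGroup 2 (o2 L) := LocalCore.isPGroup_map_pCore 2 L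

theorem le_normalizer_o2 (L : Subgroup G) : L ≤ normalizer (o2 L : Set G) :=
  LocalCore.le_normalizer_map_pCore 2 L

theorem le_o2 {U L : Subgroup G} (hUL : U ≤ L) (hU : IsPGroup 2 U)
    (hL : L ≤ normalizer (U : Set G)) : U ≤ o2 L :=
  LocalCore.le_map_pCore hUL hU hL

theorem normalizer_le_normalizer_o2 (L : Subgroup G) :
    normalizer (L : Set G) ≤ normalizer (o2 L : Set G) :=
  normalizer_le_of_equivariant o2 (fun g B => o2_map _ (MulAut.conj g).injective B) L

/-- A Sylow 2-subgroup of `L` (given as a subgroup of `G`) contains `O₂(L)`. -/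
theorem o2_le_of_sylow [Finite G] {T L : Subgroup G} (hTL : T ≤ L) (hT : IsPGroup 2 T)
    (hi : ¬ 2 ∣ T.relIndex L) : o2 L ≤ T := by
  haveI : Fact (Nat.Prime 2) := ⟨Nat.prime_two⟩
  have h1 : IsPGroup 2 (T.subgroupOf L) := hT.of_equiv (subgroupOfEquivOfLe hTL).symm
  have h2 : pCore 2 L ≤ T.subgroupOf L := by
    have h3 : pCore 2 L ≤ ((h1.toSylow hi : Sylow 2 L) : Subgroup L) :=
      Cores.pCore_le_sylow _
    exact h3
  calc o2 L = (pCore 2 L).map L.subtype := rfl
    _ ≤ (T.subgroupOf L).map L.subtype := Subgroup.map_mono h2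
    _ ≤ T := by rw [subgroupOf_map_subtype]; exact inf_le_left

/-- `Ω₁Z(B)` lies in the normal closure `zl B L`. -/
theorem zc_le_zl {B L : Subgroup G} : zc B ≤ zl B L := by
  have h : zc B = (zc B).map (MulAut.conj ((1 : L) : G)).toMonoidHom := by
    ext x; simp
  rw [h]
  exact le_iSup (fun g : L => (zc B).map (MulAut.conj (g : G)).toMonoidHom) 1

theorem le_normalizer_zl (B L : Subgroup G) : L ≤ normalizer (zl B L : Set G) := by
  intro g hg
  apply mem_normalizer_of_map_conj_eq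
  have key : ∀ g ∈ L, (zl B L).map (MulAut.conj g).toMonoidHom ≤ zl B L := by
    intro g hg
    rw [zl, Subgroup.map_iSup]
    refine iSup_le fun h => ?_
    have h1 : ((zc B).map (MulAut.conj (h : G)).toMonoidHom).map (MulAut.conj g).toMonoidHom =
        (zc B).map (MulAut.conj (((⟨g, hg⟩ : L) * h : L) : G)).toMonoidHom := by
      rw [Subgroup.map_map]
      congr 1
      ext x
      simp [mul_assoc]
    rw [h1]
    exact le_iSup (fun g : L => (zc B).map (MulAut.conj (g : G)).toMonoidHom) (⟨g, hg⟩ * h)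
  refine le_antisymm (key g hg) ?_
  intro x hx
  have h2 := key g⁻¹ (inv_mem hg) ⟨x, hx, rfl⟩
  exact ⟨_, h2, by simp [mul_assoc]⟩

theorem zl_le {B L U : Subgroup G} (hB : zc B ≤ U) (hL : L ≤ normalizer (U : Set G)) :
    zl B L ≤ U := by
  rw [zl]
  refine iSup_le fun g => ?_
  calc (zc B).map (MulAut.conj (g : G)).toMonoidHom
      ≤ U.map (MulAut.conj (g : G)).toMonoidHom := Subgroup.map_mono hB
    _ = U := map_conj_eq_of_mem_normalizer (hL g.2)

theorem le_normalizer_vl (B L : Subgroup G) : L ≤ normalizer (vl B L : Set G) := by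
  intro g hg
  apply mem_normalizer_of_map_conj_eq
  rw [vl, map_commutator, map_conj_eq_of_mem_normalizer (le_normalizer_zl B L hg),
    map_conj_eq_of_mem_normalizer (le_normalizer hg)]

theorem vl_le_zl (B L : Subgroup G) : vl B L ≤ zl B L := by
  rw [vl, commutator_le]
  intro a ha b hb
  have h1 : b * a⁻¹ * b⁻¹ ∈ zl B L :=
    (mem_normalizer_iff.1 (le_normalizer_zl B L hb) a⁻¹).1 (inv_mem ha)
  have h2 := mul_mem ha h1
  rwa [← mul_assoc, ← mul_assoc, ← commutatorElement_def] at h2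

theorem rl_le_zc (B L : Subgroup G) : rl B L ≤ zc B := inf_le_left

theorem rl_le_zl (B L : Subgroup G) : rl B L ≤ zl B L := (rl_le_zc B L).trans zc_le_zl

theorem le_centralizer_rl (B L : Subgroup G) : L ≤ centralizer (rl B L : Set G) := by
  intro g hg
  refine mem_centralizer_iff.2 fun x hx => ?_
  exact ((mem_centralizer_iff.1 (show x ∈ centralizer (L : Set G) from hx.2)) g hg).symm

end Cfsg.Agent.ZN
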