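import Mathlib

/-!
# Groups acting on a four-group
-/

set_option autoImplicit false

namespace Cfsg.Agent.ZN.Plane

open Subgroup

variable {G : Type*} [Group G]

/-- The nonidentity elements of a group as a `MulAut`-set. -/
def nonid (V : Type*) [Group V] : SubMulAction (MulAut V) V where
  carrier := {v | v ≠ 1}
  smul_mem' := by
    intro c x hx h
    apply hx
    rw [← inv_smul_smul c x, h, smul_one]

/-- If `N` normalizes the subgroup `V` of order 4, then `|N : C_N(V)|` divides 6. -/
theorem relIndex_dvd_six {V N : Subgroup G} (hV : Nat.card V = 4)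
    (hN : N ≤ normalizer (V : Set G)) : (centralizer (V : Set G)).relIndex N ∣ 6 := by
  have hfin : Finite V := Nat.finite_of_card_ne_zero (by omega)
  let φ : N →* Equiv.Perm ↥(nonid V) :=
    (MulAction.toPermHom (MulAut V) ↥(nonid V)).comp
      ((V.normalizerMonoidHom).comp (Subgroup.inclusion hN))
  have hker : φ.ker = (centralizer (V : Set G)).subgroupOf N := by
    ext n
    rw [MonoidHom.mem_ker, mem_subgroupOf, mem_centralizer_iff]
    constructor
    · intro h v hv
      by_cases h1 : v = 1
      · rw [h1, one_mul, mul_one]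
      · have h2 := Equiv.ext_iff.1 h ⟨⟨v, hv⟩, fun h3 => h1 (congrArg Subtype.val h3)⟩
        have h3 : (n : G) * v * (n : G)⁻¹ = v := by
          have := congrArg (fun x : ↥(nonid V) => ((x : V) : G)) h2
          exact this
        calc v * (n : G) = ((n : G) * v * (n : G)⁻¹) * n := by rw [h3]
          _ = n * v := by group
    · intro h
      ext ⟨⟨v, hv⟩, hv1⟩
      change (n : G) * v * (n : G)⁻¹ = v
      rw [← h v hv]; group
  have hcard : Nat.card ↥(nonid V) = 3 := by
    have h1 : Nat.card ↥(nonid V) + 1 = Nat.card V := by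
      have h2 : Nat.card ↥(nonid V) = ({1}ᶜ : Set V).ncard := rfl
      rw [h2, Set.ncard_compl, Set.ncard_singleton]
      have : 0 < Nat.card V := Nat.card_pos
      omega
    omega
  have hfin2 : Finite ↥(nonid V) := Nat.finite_of_card_ne_zero (by omega)
  have h1 : (centralizer (V : Set G)).relIndex N = Nat.card φ.range := by
    rw [relIndex, ← hker, index_ker]
  rw [h1]
  have h2 : Nat.card (Equiv.Perm ↥(nonid V)) = 6 := by
    rw [Nat.card_perm, hcard]; rfl
  rw [← h2]
  exact Subgroup.card_subgroup_dvd_card _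

/-- If moreover `N` is a 2-group, then `|N : C_N(V)|` is 1 or 2. -/
theorem relIndex_le_two {V N : Subgroup G} (hV : Nat.card V = 4)
    (hN : N ≤ normalizer (V : Set G)) (h2 : IsPGroup 2 N) [Finite N] :
    (centralizer (V : Set G)).relIndex N = 1 ∨ (centralizer (V : Set G)).relIndex N = 2 := by
  have h1 := relIndex_dvd_six hV hN
  obtain ⟨n, hn⟩ := IsPGroup.iff_card.1 h2
  have h3 : (centralizer (V : Set G)).relIndex N ∣ 2 ^ n := by
    rw [← hn]; exact relIndex_dvd_card _ _
  obtain ⟨m, hm, hm'⟩ := (Nat.dvd_prime_pow Nat.prime_two).1 h3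
  rw [hm'] at h1 ⊢
  have : m ≤ 1 := by
    by_contra h4
    have h5 : 2 ^ 2 ∣ 2 ^ m := pow_dvd_pow 2 (by omega)
    have h6 := h5.trans h1
    omega
  interval_cases m
  · left; rfl
  · right; rfl

end Cfsg.Agent.ZN.Plane
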