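import Cfsg.Agent.ChevalleyStructure.TwF4.DihHom

/-!
# The group `D₈ × 2` as a subgroup of a finite group (S0518, end game)

Explicit model `W = D₈ × 2` and the facts about its elements and automorphisms, by computation.
-/

set_option autoImplicit false

namespace Cfsg.Agent.ZN.EndModel

open DihedralGroup Subgroup Cfsg.Agent.ChevalleyStructure.TwF4.DihHom

/-- The model. -/
abbrev W := DihedralGroup 4 × DihedralGroup 1

def wz : W := (r 2, 1)
def wa : W := (sr 0, 1)
def wb : W := (sr 1, 1)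
def wr : W := (1, sr 0)

/-- The homomorphism given by the images of the generators. -/
def Phi (A B R : W) : W → W
  | (r i, r _) => (A * B) ^ i.val
  | (sr i, r _) => A * (A * B) ^ i.val
  | (r i, sr _) => (A * B) ^ i.val * R
  | (sr i, sr _) => A * (A * B) ^ i.val * R

def L8 : List W := [wa, wa*wz, wa*wr, wa*wr*wz, wb, wb*wz, wb*wr, wb*wr*wz]
def LA : List W := [wa, wa*wz, wa*wr, wa*wr*wz]
def LB : List W := [wb, wb*wz, wb*wr, wb*wr*wz]

theorem sq_cases : ∀ x : W, x * x = 1 ∨ x * x = wz := by decide +kernel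
theorem pow_four : ∀ x : W, x * x * (x * x) = 1 := by decide +kernel
theorem cen_cases : ∀ x : W, (∀ y, x * y = y * x) → x = 1 ∨ x = wz ∨ x = wr ∨ x = wr * wz := by
  decide +kernel
theorem wz_cen : ∀ y : W, wz * y = y * wz := by decide +kernel
theorem wr_cen : ∀ y : W, wr * y = y * wr := by decide +kernel
theorem wz_eq : wz = wa * wb * (wa * wb) := by decide +kernel
theorem wz_sq : wz * wz = 1 := by decide +kernel
theorem wr_sq : wr * wr = 1 := by decide +kernel
theorem wa_sq : wa * wa = 1 := by decide +kernel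
theorem wb_sq : wb * wb = 1 := by decide +kernel
theorem wz_ne : wz ≠ 1 := by decide +kernel
theorem wr_ne : wr ≠ 1 := by decide +kernel
theorem wr_ne_wz : wr ≠ wz := by decide +kernel
theorem wa_ne : wa ≠ 1 := by decide +kernel
theorem wb_ne : wb ≠ 1 := by decide +kernel
theorem noncen : ∀ x : W, x * x = 1 → (∃ y, x * y ≠ y * x) → x ∈ L8 := by decide +kernel
theorem wa_noncen : wa * wb ≠ wb * wa := by decide +kernel
theorem noncen_B : ∀ x ∈ LB, ∀ y ∈ L8, (∃ w, x * y * w ≠ w * (x * y)) → y ∈ LA := by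
  decide +kernel
theorem notB : ∀ y ∈ L8, y ∉ LA → y ∈ LB := by decide +kernel
theorem wab_noncen : wa * wb * wa ≠ wa * (wa * wb) := by decide +kernel

theorem phi4 : ∀ A ∈ L8, ∀ B ∈ L8, ∀ R ∈ [wr, wr*wz], A * B * (A * B) = wz →
   ∀ x, Phi A B R (Phi A B R (Phi A B R (Phi A B R x))) = x := by decide +kernel

theorem fixpt : ∀ A ∈ LB, ∀ B ∈ LA, ∀ x, Phi A B (wr * wz) x = x → x = 1 ∨ x = wz ∨ x * x = wz := by
  decide +kernel

theorem exists_fix : ∀ A ∈ LB, ∀ B ∈ LA, ∀ u : W, Phi A B (wr * wz) u = u →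
    (∀ x, Phi A B (wr * wz) (Phi A B (wr * wz) x) = u * x * u⁻¹) →
      ∃ e, Phi A B (wr * wz) e = e ∧ e * e = wz := by
  decide +kernel

theorem inv_cases : ∀ x : W, x.2 = 1 → x * x = 1 → x ≠ 1 → x ∈ [wz, wa, wa*wz, wb, wb*wz] := by
  decide +kernel

theorem cent_a : ∀ x : W, x * wa = wa * x →
    x ∈ [1, wz, wa, wa*wz, wr, wr*wz, wa*wr, wa*wr*wz] := by decide +kernel
theorem cent_b : ∀ x : W, x * wb = wb * x →
    x ∈ [1, wz, wb, wb*wz, wr, wr*wz, wb*wr, wb*wr*wz] := by decide +kernel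
theorem cent_LA : ∀ y ∈ LA, ∀ x : W, x * y = y * x → x * wa = wa * x := by decide +kernel
theorem cent_LA' : ∀ y ∈ LA, ∀ x : W, x * wa = wa * x → x * y = y * x := by decide +kernel
theorem cent_LB : ∀ y ∈ LB, ∀ x : W, x * y = y * x → x * wb = wb * x := by decide +kernel
theorem cent_LB' : ∀ y ∈ LB, ∀ x : W, x * wb = wb * x → x * y = y * x := by decide +kernel
theorem mem_LA_or : ∀ x ∈ L8, x ∈ LA ∨ x ∈ LB := by decide +kernel
theorem card_cent_a : Fintype.card {x : W // x * wa = wa * x} = 8 := by decide +kernel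
theorem card_cent_b : Fintype.card {x : W // x * wb = wb * x} = 8 := by decide +kernel
theorem LA_sq : ∀ y ∈ LA, (∀ w, w ∈ [1, wz, wr, wr*wz] → y ≠ w) ∧ ∃ t ∈ [1, wz, wr, wr*wz], y = wa * t := by
  decide +kernel

theorem sq_D : ∀ A ∈ [wb, wb*wz], ∀ B ∈ [wa, wa*wz], ∀ u : W, Phi A B (wr * wz) u = u →
    (∀ x, Phi A B (wr * wz) (Phi A B (wr * wz) x) = u * x * u⁻¹) → u.2 = 1 := by
  decide +kernel

theorem phi_D : ∀ A ∈ [wb, wb*wz], ∀ B ∈ [wa, wa*wz], ∀ x : W, x.2 = 1 →
    (Phi A B (wr * wz) x).2 = 1 := by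
  decide +kernel

theorem normal_D8 : ∀ x : DihedralGroup 4, x ≠ 1 → x = r 2 ∨ ∃ g, g * x * g⁻¹ * x⁻¹ = r 2 := by
  decide +kernel

theorem snd_cases : ∀ x : W, x.2 = 1 ∨ (x * wr).2 = 1 := by decide +kernel

variable {G : Type*} [Group G]

/-- Generators of a subgroup `D₈ × 2` (or a quotient of it). -/
structure Gens (a b c : G) : Prop where
  aa : a * a = 1
  bb : b * b = 1
  cc : c * c = 1
  four : (a * b) ^ 4 = 1
  ca : c * a = a * c
  cb : c * b = b * c

variable {a b c : G}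

theorem Gens.comm (h : Gens a b c) (x : DihedralGroup 4) (y : DihedralGroup 1) :
    Commute (dihHom 4 a b h.aa h.bb h.four x)
      (dihHom 1 c c h.cc h.cc (by rw [h.cc, pow_one]) y) := by
  have hac : Commute a c := h.ca.symm
  have hbc : Commute b c := h.cb.symm
  have h1 : ∀ x, Commute (dihHom 4 a b h.aa h.bb h.four x) c := by
    rintro (i | i)
    · exact (hac.mul_left hbc).pow_left _
    · exact hac.mul_left ((hac.mul_left hbc).pow_left _)
  rcases y with j | j
  · have : (dihHom 1 c c h.cc h.cc (by rw [h.cc, pow_one])) (r j) = 1 := by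
      show (c * c) ^ _ = 1
      rw [h.cc, one_pow]
    rw [this]; exact Commute.one_right _
  · have : (dihHom 1 c c h.cc h.cc (by rw [h.cc, pow_one])) (sr j) = c := by
      show c * (c * c) ^ _ = c
      rw [h.cc, one_pow, mul_one]
    rw [this]; exact h1 x

/-- The homomorphism `W → G`. -/
def Gens.f (h : Gens a b c) : W →* G :=
  (dihHom 4 a b h.aa h.bb h.four).noncommCoprod
    (dihHom 1 c c h.cc h.cc (by rw [h.cc, pow_one])) h.comm

theorem Gens.f_wa (h : Gens a b c) : h.f wa = a := by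
  show (a * (a * b) ^ (0 : ZMod 4).val) * ((c * c) ^ (0 : ZMod 1).val) = a
  rw [h.cc, one_pow, ZMod.val_zero, pow_zero, mul_one, mul_one]

theorem Gens.f_wb (h : Gens a b c) : h.f wb = b := by
  show (a * (a * b) ^ (1 : ZMod 4).val) * ((c * c) ^ (0 : ZMod 1).val) = b
  have : (1 : ZMod 4).val = 1 := rfl
  rw [h.cc, one_pow, this, pow_one, mul_one, ← mul_assoc, h.aa, one_mul]

theorem Gens.f_wr (h : Gens a b c) : h.f wr = c := by
  show ((a * b) ^ (0 : ZMod 4).val) * (c * (c * c) ^ (0 : ZMod 1).val) = c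
  rw [h.cc, one_pow, ZMod.val_zero, pow_zero, one_mul, mul_one]

theorem Gens.f_wz (h : Gens a b c) : h.f wz = a * b * (a * b) := by
  rw [wz_eq]; simp only [map_mul, h.f_wa, h.f_wb]

/-- The subgroup `⟨a, b, c⟩`. -/
def Gens.B (h : Gens a b c) : Subgroup G := h.f.range

/-- The subgroup `⟨a, b⟩`. -/
def Gens.D (h : Gens a b c) : Subgroup G := (dihHom 4 a b h.aa h.bb h.four).range

theorem Gens.mem_D (h : Gens a b c) {x : G} : x ∈ h.D ↔ ∃ w : W, w.2 = 1 ∧ h.f w = x := by
  constructor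
  · rintro ⟨x, rfl⟩
    refine ⟨(x, 1), rfl, ?_⟩
    show _ * dihHom 1 c c h.cc h.cc (by rw [h.cc, pow_one]) 1 = _
    rw [map_one, mul_one]
  · rintro ⟨⟨x, y⟩, hy, rfl⟩
    refine ⟨x, ?_⟩
    have hy' : y = 1 := hy
    subst hy'
    show _ = _ * dihHom 1 c c h.cc h.cc (by rw [h.cc, pow_one]) 1
    rw [map_one, mul_one]

theorem Gens.mem_B (h : Gens a b c) {x : G} : x ∈ h.B ↔ ∃ w : W, h.f w = x := Iff.rfl

theorem Gens.D_le (h : Gens a b c) : h.D ≤ h.B := by
  intro x hx
  obtain ⟨w, -, hw⟩ := h.mem_D.1 hx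
  exact ⟨w, hw⟩

/-- Injectivity criterion. -/
theorem Gens.inj (h : Gens a b c) (hz : a * b * (a * b) ≠ 1) (hc : c ∉ h.D) :
    Function.Injective h.f := by
  rw [injective_iff_map_eq_one]
  rintro ⟨x, y⟩ hxy
  have h0 : ∀ x : DihedralGroup 4, dihHom 4 a b h.aa h.bb h.four x = 1 → x = 1 := by
    intro x hx
    by_contra hne
    have hz' : dihHom 4 a b h.aa h.bb h.four (r 2) = a * b * (a * b) := by
      show (a * b) ^ (2 : ZMod 4).val = _
      have : (2 : ZMod 4).val = 2 := rfl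
      rw [this, pow_two]
    rcases normal_D8 x hne with h1 | ⟨g, hg⟩
    · rw [h1, hz'] at hx; exact hz hx
    · have := congrArg (dihHom 4 a b h.aa h.bb h.four) hg
      rw [map_mul, map_mul, map_mul, map_inv, map_inv, hx, hz', mul_one, mul_inv_cancel, inv_one,
        mul_one] at this
      exact hz this.symm
  have h1 : ∀ y : DihedralGroup 1, y = 1 ∨ y = sr 0 := by decide
  have h2 : dihHom 4 a b h.aa h.bb h.four x *
    dihHom 1 c c h.cc h.cc (by rw [h.cc, pow_one]) y = 1 := hxy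
  rcases h1 y with rfl | rfl
  · rw [map_one, mul_one] at h2
    rw [h0 x h2]; rfl
  · exfalso
    apply hc
    have h3 : dihHom 1 c c h.cc h.cc (by rw [h.cc, pow_one]) (sr 0) = c := by
      show c * (c * c) ^ _ = c
      rw [h.cc, one_pow, mul_one]
    rw [h3] at h2
    refine ⟨x⁻¹, ?_⟩
    rw [map_inv]
    exact inv_eq_of_mul_eq_one_right h2

theorem card_W : Nat.card W = 16 := by
  rw [Nat.card_eq_fintype_card]; decide +kernel

theorem Gens.B_le (h : Gens a b c) {K : Subgroup G} (ha : a ∈ K) (hb : b ∈ K) (hc : c ∈ K) :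
    h.B ≤ K := by
  rintro _ ⟨⟨x, y⟩, rfl⟩
  refine K.mul_mem ?_ ?_
  · rcases x with i | i
    · exact K.pow_mem (K.mul_mem ha hb) _
    · exact K.mul_mem ha (K.pow_mem (K.mul_mem ha hb) _)
  · rcases y with i | i
    · exact K.pow_mem (K.mul_mem hc hc) _
    · exact K.mul_mem hc (K.pow_mem (K.mul_mem hc hc) _)

theorem Gens.D_le' (h : Gens a b c) {K : Subgroup G} (ha : a ∈ K) (hb : b ∈ K) :
    h.D ≤ K := by
  rintro _ ⟨x, rfl⟩
  rcases x with i | i
  · exact K.pow_mem (K.mul_mem ha hb) _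
  · exact K.mul_mem ha (K.pow_mem (K.mul_mem ha hb) _)

theorem Gens.card_B (h : Gens a b c) (hi : Function.Injective h.f) : Nat.card h.B = 16 := by
  rw [← card_W]
  exact (Nat.card_congr (MonoidHom.ofInjective hi).toEquiv).symm

theorem Gens.card_D (h : Gens a b c) (hi : Function.Injective h.f) : Nat.card h.D = 8 := by
  have hi' : Function.Injective (dihHom 4 a b h.aa h.bb h.four) := by
    intro x y hxy
    have : h.f (x, 1) = h.f (y, 1) := by
      show dihHom 4 a b h.aa h.bb h.four x * dihHom 1 c c h.cc h.cc (by rw [h.cc, pow_one]) 1 =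
        dihHom 4 a b h.aa h.bb h.four y * dihHom 1 c c h.cc h.cc (by rw [h.cc, pow_one]) 1
      rw [hxy]
    exact congrArg Prod.fst (hi this)
  have : Nat.card (DihedralGroup 4) = 8 := by rw [DihedralGroup.nat_card]
  rw [← this]
  exact (Nat.card_congr (MonoidHom.ofInjective hi').toEquiv).symm

/-- The automorphism of `W` given by an element normalizing `B`. -/
theorem Gens.exists_phi (h : Gens a b c) (hi : Function.Injective h.f) {y : G}
    (hy : y ∈ normalizer (h.B : Set G)) :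
    ∃ φ : W →* W, Function.Bijective φ ∧ ∀ x, h.f (φ x) = y * h.f x * y⁻¹ := by
  have h1 : ∀ x, ∃ x', h.f x' = y * h.f x * y⁻¹ :=
    fun x => (mem_normalizer_iff.1 hy (h.f x)).1 ⟨x, rfl⟩
  choose φ hφ using h1
  refine ⟨MonoidHom.mk' φ fun x x' => hi ?_, ?_, hφ⟩
  · rw [hφ, map_mul, map_mul, hφ, hφ]; group
  · rw [Finite.injective_iff_bijective.symm]
    intro x x' hxx
    apply hi
    have h2 := hφ x
    have h3 : φ x = φ x' := hxx
    rw [h3, hφ x'] at h2
    have h4 := mul_left_cancel (mul_right_cancel h2)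
    exact h4.symm

section aut

variable {φ : W →* W} (hφ : Function.Bijective φ)
include hφ

theorem phi_z : φ wz = wz := by
  have h1 : φ wz = φ (wa * wb) * φ (wa * wb) := by rw [← map_mul, ← wz_eq]
  rcases sq_cases (φ (wa * wb)) with h2 | h2
  · rw [h2, ← map_one φ] at h1
    exact absurd (hφ.1 h1) wz_ne
  · rw [h1, h2]

theorem phi_cen {x : W} (hx : ∀ y, x * y = y * x) : ∀ y, φ x * y = y * φ x := by
  intro y
  obtain ⟨w, rfl⟩ := hφ.2 y
  rw [← map_mul, hx, map_mul]

theorem phi_r : φ wr = wr ∨ φ wr = wr * wz := by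
  rcases cen_cases _ (phi_cen hφ wr_cen) with h1 | h1 | h1 | h1
  · rw [← map_one φ] at h1
    exact absurd (hφ.1 h1) wr_ne
  · rw [← phi_z hφ] at h1
    have h2 := hφ.1 h1
    exact absurd h2 wr_ne_wz
  · exact Or.inl h1
  · exact Or.inr h1

theorem phi_noncen {x w : W} (hxw : x * w ≠ w * x) : ∃ y, φ x * y ≠ y * φ x := by
  refine ⟨φ w, fun h => hxw (hφ.1 ?_)⟩
  rw [map_mul, map_mul, h]

theorem phi_a : φ wa ∈ L8 := by
  refine noncen _ ?_ (phi_noncen hφ wa_noncen)
  rw [← map_mul, wa_sq, map_one]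

theorem phi_b : φ wb ∈ L8 := by
  refine noncen _ ?_ (phi_noncen hφ wa_noncen.symm)
  rw [← map_mul, wb_sq, map_one]

omit hφ in
theorem phi_eq (x : W) : φ x = Phi (φ wa) (φ wb) (φ wr) x := by
  have h1 : ∀ i : ZMod 4, ((r i, 1) : W) = (wa * wb) ^ i.val := by decide +kernel
  have h2 : ∀ i : ZMod 4, ((sr i, 1) : W) = wa * (wa * wb) ^ i.val := by decide +kernel
  have h3 : ∀ i : ZMod 4, ((r i, sr 0) : W) = (wa * wb) ^ i.val * wr := by decide +kernel
  have h4 : ∀ i : ZMod 4, ((sr i, sr 0) : W) = wa * (wa * wb) ^ i.val * wr := by decide +kernel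
  have h5 : ∀ j : ZMod 1, j = 0 := by decide
  obtain ⟨x, y⟩ := x
  rcases x with i | i <;> rcases y with j | j
  · rw [h5 j]
    show φ ((r i, 1) : W) = _
    rw [h1]; simp only [map_mul, map_pow]; rfl
  · rw [h5 j]
    show φ ((r i, sr 0) : W) = (φ wa * φ wb) ^ i.val * φ wr
    rw [h3]; simp only [map_mul, map_pow]
  · rw [h5 j]
    show φ ((sr i, 1) : W) = _
    rw [h2]; simp only [map_mul, map_pow]; rfl
  · rw [h5 j]
    show φ ((sr i, sr 0) : W) = φ wa * (φ wa * φ wb) ^ i.val * φ wr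
    rw [h4]; simp only [map_mul, map_pow]

theorem phi_pow_four (x : W) : φ (φ (φ (φ x))) = x := by
  have h1 : φ wa * φ wb * (φ wa * φ wb) = wz := by
    rw [← map_mul, ← map_mul, ← wz_eq, phi_z hφ]
  have h2 : φ wr ∈ [wr, wr * wz] := by
    rcases phi_r hφ with h | h <;> simp [h]
  have := phi4 _ (phi_a hφ) _ (phi_b hφ) _ h2 h1 x
  simpa only [← phi_eq] using this

theorem phi_b_of_a (h : φ wa ∈ LB) : φ wb ∈ LA := by
  refine noncen_B _ h _ (phi_b hφ) ?_
  obtain ⟨y, hy⟩ := phi_noncen hφ wab_noncen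
  exact ⟨y, by rwa [map_mul] at hy⟩

end aut

end Cfsg.Agent.ZN.EndModel
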