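import Cfsg.Prelude.Def_CaseTheorems
import Cfsg.Agent.ZN.EndModel
import Cfsg.Agent.Transfer.ThompsonTransfer
import Cfsg.Agent.SmallSimple.SylowMaxInter

/-!
# S0518, end game: the transfer argument for Sylow 2-subgroups containing `B = D₈ × 2`
-/

set_option autoImplicit false

namespace Cfsg.Agent.ZN.EndCore

open DihedralGroup Subgroup Cfsg Cfsg.Agent.ZN.EndModel

variable {G : Type*} [Group G] {a b c : G}

/-- The configuration: `B = ⟨a, b, c⟩ ≅ D₈ × 2`. -/
structure Config (h : Gens a b c) : Prop where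
  inj : Function.Injective h.f
  fix : ∀ y ∈ normalizer (h.B : Set G), y * c = c * y → y ∈ h.B
  swap : ∀ y ∈ normalizer (h.B : Set G), y ∉ h.B →
    y * a * y⁻¹ = h.f wb ∨ y * a * y⁻¹ = h.f (wb * wz)
  swap' : ∀ y ∈ normalizer (h.B : Set G), y ∉ h.B →
    y * b * y⁻¹ = h.f wa ∨ y * b * y⁻¹ = h.f (wa * wz)
  conj : ∀ w ∈ h.D, w * w = 1 → w ≠ 1 → ∃ g : G, g * w * g⁻¹ = h.f wz
  big : ¬ IsPGroup 2 (centralizer ({c} : Set G))

variable {h : Gens a b c}

theorem act (C : Config h) {y : G} (hy : y ∈ normalizer (h.B : Set G)) (hyB : y ∉ h.B) :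
    ∃ φ : W →* W, Function.Bijective φ ∧ (∀ x, h.f (φ x) = y * h.f x * y⁻¹) ∧
      φ wr = wr * wz ∧ φ wa ∈ [wb, wb * wz] ∧ φ wb ∈ [wa, wa * wz] := by
  obtain ⟨φ, hb, hφ⟩ := h.exists_phi C.inj hy
  refine ⟨φ, hb, hφ, ?_, ?_, ?_⟩
  · rcases phi_r hb with h1 | h1
    · exfalso
      apply hyB
      apply C.fix y hy
      have h2 := hφ wr
      rw [h1, h.f_wr] at h2
      calc y * c = y * c * y⁻¹ * y := by group
        _ = c * y := by rw [← h2]
    · exact h1
  · have h1 := hφ wa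
    rw [h.f_wa] at h1
    rcases C.swap y hy hyB with h2 | h2
    · rw [h2] at h1
      rw [C.inj h1]; simp
    · rw [h2] at h1
      rw [C.inj h1]; simp
  · have h1 := hφ wb
    rw [h.f_wb] at h1
    rcases C.swap' y hy hyB with h2 | h2
    · rw [h2] at h1
      rw [C.inj h1]; simp
    · rw [h2] at h1
      rw [C.inj h1]; simp

theorem mem_LB {x : W} (hx : x ∈ [wb, wb * wz]) : x ∈ LB := by
  revert x; decide +kernel

theorem mem_LA {x : W} (hx : x ∈ [wa, wa * wz]) : x ∈ LA := by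
  revert x; decide +kernel

theorem z_ne (C : Config h) : h.f wz ≠ 1 := by
  intro h1
  rw [← map_one h.f] at h1
  exact wz_ne (C.inj h1)

theorem z_sq : h.f wz * h.f wz = 1 := by
  rw [← map_mul, wz_sq, map_one]

/-- `C_B(y)` contains only one involution. -/
theorem fixed (C : Config h) {y : G} (hy : y ∈ normalizer (h.B : Set G)) (hyB : y ∉ h.B)
    {x : G} (hx : x ∈ h.B) (hxy : y * x = x * y) : x = 1 ∨ x = h.f wz ∨ x * x = h.f wz := by
  obtain ⟨φ, hb, hφ, h1, h2, h3⟩ := act C hy hyB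
  obtain ⟨w, rfl⟩ := hx
  have h4 : φ w = w := by
    apply C.inj
    rw [hφ, hxy]; group
  have h5 : Phi (φ wa) (φ wb) (wr * wz) w = w := by
    rw [← h1, ← phi_eq, h4]
  rcases fixpt _ (mem_LB h2) _ (mem_LA h3) w h5 with h6 | h6 | h6
  · left; rw [h6, map_one]
  · right; left; rw [h6]
  · right; right; rw [← map_mul, h6]

theorem fixed_inv (C : Config h) {y : G} (hy : y ∈ normalizer (h.B : Set G)) (hyB : y ∉ h.B)
    {x : G} (hx : x ∈ h.B) (hxy : y * x = x * y) (hxx : x * x = 1) : x = 1 ∨ x = h.f wz := by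
  rcases fixed C hy hyB hx hxy with h1 | h1 | h1
  · exact Or.inl h1
  · exact Or.inr h1
  · rw [hxx] at h1
    exact absurd h1.symm (z_ne C)

/-- Two elements outside `B` agree modulo `B`. -/
theorem inv_mul_mem (C : Config h) {y y' : G} (hy : y ∈ normalizer (h.B : Set G)) (hyB : y ∉ h.B)
    (hy' : y' ∈ normalizer (h.B : Set G)) (hyB' : y' ∉ h.B) : y⁻¹ * y' ∈ h.B := by
  obtain ⟨φ, hb, hφ, h1, -, -⟩ := act C hy hyB
  obtain ⟨φ', hb', hφ', h1', -, -⟩ := act C hy' hyB'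
  apply C.fix _ (mul_mem (inv_mem hy) hy')
  have h2 : y * c * y⁻¹ = y' * c * y'⁻¹ := by
    rw [← h.f_wr, ← hφ, ← hφ', h1, h1']
  calc y⁻¹ * y' * c = y⁻¹ * (y' * c * y'⁻¹) * y' := by group
    _ = y⁻¹ * (y * c * y⁻¹) * y' := by rw [h2]
    _ = c * (y⁻¹ * y') := by group

theorem mul_mem_B (C : Config h) {y y' : G} (hy : y ∈ normalizer (h.B : Set G)) (hyB : y ∉ h.B)
    (hy' : y' ∈ normalizer (h.B : Set G)) (hyB' : y' ∉ h.B) : y * y' ∈ h.B := by
  have h1 : y⁻¹ ∉ h.B := fun h2 => hyB (by simpa using inv_mem h2)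
  simpa using inv_mul_mem C (inv_mem hy) h1 hy' hyB'

theorem B_le_normalizer : h.B ≤ normalizer (h.B : Set G) := le_normalizer

/-- `y ∈ N(B) ∖ B`: there is `e ∈ C_B(y)` with `e² = z`, and `y² ∈ D`. -/
theorem exists_e (C : Config h) {y : G} (hy : y ∈ normalizer (h.B : Set G)) (hyB : y ∉ h.B) :
    (∃ e ∈ h.B, y * e = e * y ∧ e * e = h.f wz) ∧ y * y ∈ h.D := by
  obtain ⟨φ, hb, hφ, h1, h2, h3⟩ := act C hy hyB
  obtain ⟨u, hu⟩ := mul_mem_B C hy hyB hy hyB
  have h4 : φ u = u := by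
    apply C.inj
    rw [hφ, hu]; group
  have h5 : ∀ x, φ (φ x) = u * x * u⁻¹ := by
    intro x
    apply C.inj
    rw [hφ, hφ, map_mul, map_mul, map_inv, hu]; group
  have h6 : ∀ x, φ x = Phi (φ wa) (φ wb) (wr * wz) x := by
    intro x; rw [← h1]; exact phi_eq x
  constructor
  · obtain ⟨e, he1, he2⟩ := exists_fix _ (mem_LB h2) _ (mem_LA h3) u (by rw [← h6, h4])
      (fun x => by rw [← h6, ← h6, h5])
    refine ⟨h.f e, ⟨e, rfl⟩, ?_, by rw [← map_mul, he2]⟩
    rw [← h6] at he1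
    have h7 := hφ e
    rw [he1] at h7
    calc y * h.f e = y * h.f e * y⁻¹ * y := by group
      _ = h.f e * y := by rw [← h7]
  · rw [h.mem_D]
    exact ⟨u, sq_D _ h2 _ h3 u (by rw [← h6, h4]) (fun x => by rw [← h6, ← h6, h5]), hu⟩

/-- `y` normalizes `D`. -/
theorem conj_D (C : Config h) {y : G} (hy : y ∈ normalizer (h.B : Set G)) (hyB : y ∉ h.B)
    {x : G} (hx : x ∈ h.D) : y * x * y⁻¹ ∈ h.D := by
  obtain ⟨φ, hb, hφ, h1, h2, h3⟩ := act C hy hyB
  obtain ⟨w, hw, rfl⟩ := h.mem_D.1 hx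
  rw [h.mem_D]
  refine ⟨φ w, ?_, hφ w⟩
  rw [phi_eq, h1]
  exact phi_D _ h2 _ h3 w hw

/-- `N_G(B)` is a 2-group. -/
theorem isPGroup_normalizer (C : Config h) : IsPGroup 2 (normalizer (h.B : Set G)) := by
  rintro ⟨g, hg⟩
  have h1 : g * g ∈ h.B := by
    by_cases hgB : g ∈ h.B
    · exact mul_mem hgB hgB
    · exact mul_mem_B C hg hgB hg hgB
  refine ⟨3, ?_⟩
  obtain ⟨w, hw⟩ := h1
  ext
  have h2 : g ^ 8 = (g * g) * (g * g) * ((g * g) * (g * g)) := by
    simp only [pow_succ, pow_zero, one_mul, mul_assoc]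
  show g ^ 8 = 1
  rw [h2, ← hw, ← map_mul, ← map_mul, pow_four, map_one]

theorem inv_cases_of_comm (C : Config h) {y u : G} (hyN : y ∈ normalizer (h.B : Set G))
    (hcon : y ∉ h.B) (hyy : y * y = 1) (huN : u ∈ normalizer (h.B : Set G)) (huu : u * u = 1)
    (huy : u * y = y * u) (hu1 : u ≠ 1) (huy1 : u ≠ y) : u = h.f wz ∨ u = y * h.f wz := by
  by_cases huB : u ∈ h.B
  · rcases fixed_inv C hyN hcon huB huy.symm huu with h1 | h1
    · exact absurd h1 hu1
    · exact Or.inl h1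
  · have h3 := inv_mul_mem C hyN hcon huN huB
    have hyi : y⁻¹ = y := by rw [inv_eq_iff_mul_eq_one, hyy]
    rw [hyi] at h3
    rcases fixed_inv C hyN hcon h3 (by rw [mul_assoc y u y, huy])
        (by rw [mul_assoc, ← mul_assoc u, huy, mul_assoc y u, huu, mul_one, hyy]) with h4 | h4
    · exfalso
      apply huy1
      rw [← hyi] at h4
      exact (inv_mul_eq_one.1 h4).symm
    · right
      rw [← h4, ← mul_assoc, hyy, one_mul]

/-- The key computation for Lemma J. -/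
theorem pigeon (C : Config h) {T : Subgroup G} (hT : T ≤ normalizer (h.B : Set G)) (hBT : h.B ≤ T)
    {g : G} (hg : g ∈ normalizer (T : Set G)) (x₁ p q s : W) (hx₁ : x₁ * x₁ = 1)
    (hp : p * p = 1) (hq : q * q = 1) (hs : s * s = 1)
    (hp1 : p * x₁ = x₁ * p) (hq1 : q * x₁ = x₁ * q) (hs1 : s * x₁ = x₁ * s)
    (hpne : p ≠ 1) (hqne : q ≠ 1) (hsne : s ≠ 1) (hpx : p ≠ x₁) (hqx : q ≠ x₁) (hsx : s ≠ x₁)
    (hpq : p ≠ q) (hps : p ≠ s) (hqs : q ≠ s) : g * h.f x₁ * g⁻¹ ∈ h.B := by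
  by_contra hcon
  have hmem : ∀ w : W, g * h.f w * g⁻¹ ∈ T := fun w =>
    (mem_normalizer_iff.1 hg _).1 (hBT ⟨w, rfl⟩)
  set y := g * h.f x₁ * g⁻¹ with hy
  have hyN : y ∈ normalizer (h.B : Set G) := hT (hmem x₁)
  have key : ∀ w : W, w * w = 1 → w * x₁ = x₁ * w → w ≠ 1 → w ≠ x₁ →
      g * h.f w * g⁻¹ = h.f wz ∨ g * h.f w * g⁻¹ = y * h.f wz := by
    intro w hw hwx hw1 hwx1
    set u := g * h.f w * g⁻¹ with hu
    have huu : u * u = 1 := by
      have : u * u = g * h.f (w * w) * g⁻¹ := by rw [hu, map_mul]; group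
      rw [this, hw, map_one]; group
    have huy : u * y = y * u := by
      have h1 : u * y = g * h.f (w * x₁) * g⁻¹ := by rw [hu, hy, map_mul]; group
      have h2 : y * u = g * h.f (x₁ * w) * g⁻¹ := by rw [hu, hy, map_mul]; group
      rw [h1, h2, hwx]
    have hu1 : u ≠ 1 := by
      intro h1
      have h2 : h.f w = 1 := by
        have : h.f w = g⁻¹ * u * g := by rw [hu]; group
        rw [this, h1]; group
      rw [← map_one h.f] at h2
      exact hw1 (C.inj h2)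
    have huy1 : u ≠ y := by
      intro h1
      rw [hu, hy] at h1
      exact hwx1 (C.inj (mul_left_cancel (mul_right_cancel h1)))
    have hyy : y * y = 1 := by
      have : y * y = g * h.f (x₁ * x₁) * g⁻¹ := by rw [hy, map_mul]; group
      rw [this, hx₁, map_one]; group
    exact inv_cases_of_comm C hyN hcon hyy (hT (hmem w)) huu huy hu1 huy1
  have hinj : ∀ w w' : W, g * h.f w * g⁻¹ = g * h.f w' * g⁻¹ → w = w' := fun w w' h1 =>
    C.inj (mul_left_cancel (mul_right_cancel h1))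
  rcases key p hp hp1 hpne hpx with h1 | h1 <;> rcases key q hq hq1 hqne hqx with h2 | h2 <;>
    rcases key s hs hs1 hsne hsx with h3 | h3
  · exact hpq (hinj _ _ (h1.trans h2.symm))
  · exact hpq (hinj _ _ (h1.trans h2.symm))
  · exact hps (hinj _ _ (h1.trans h3.symm))
  · exact hqs (hinj _ _ (h2.trans h3.symm))
  · exact hqs (hinj _ _ (h2.trans h3.symm))
  · exact hps (hinj _ _ (h1.trans h3.symm))
  · exact hpq (hinj _ _ (h1.trans h2.symm))
  · exact hpq (hinj _ _ (h1.trans h2.symm))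

/-- Lemma J: `B` is characteristic in every subgroup `T` with `B ≤ T ≤ N(B)`. -/
theorem normalizer_le [Finite G] (C : Config h) {T : Subgroup G} (hT : T ≤ normalizer (h.B : Set G))
    (hBT : h.B ≤ T) : normalizer (T : Set G) ≤ normalizer (h.B : Set G) := by
  intro g hg
  have ha : g * h.f wa * g⁻¹ ∈ h.B := by
    apply pigeon C hT hBT hg wa wz wr (wr * wz) <;> decide +kernel
  have hb : g * h.f wb * g⁻¹ ∈ h.B := by
    apply pigeon C hT hBT hg wb wz wr (wr * wz) <;> decide +kernel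
  have hc : g * h.f wr * g⁻¹ ∈ h.B := by
    apply pigeon C hT hBT hg wr wz wa (wa * wz) <;> decide +kernel
  rw [h.f_wa] at ha
  rw [h.f_wb] at hb
  rw [h.f_wr] at hc
  have h1 : h.B ≤ h.B.comap (MulAut.conj g).toMonoidHom := by
    apply h.B_le
    · exact ha
    · exact hb
    · exact hc
  have h2 : h.B.map (MulAut.conj g).toMonoidHom = h.B := by
    apply Subgroup.eq_of_le_of_card_ge (map_le_iff_le_comap.2 h1)
    exact (Nat.card_congr (h.B.equivMapOfInjective _ (MulAut.conj g).injective).toEquiv).le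
  rw [mem_normalizer_iff]
  intro x
  constructor
  · intro hx; exact h1 hx
  · intro hx
    rw [← h2] at hx
    obtain ⟨x', hx', h3⟩ := hx
    have h4 : g * x' * g⁻¹ = g * x * g⁻¹ := h3
    rw [← mul_left_cancel (mul_right_cancel h4)]
    exact hx'

theorem isPGroup_B (h : Gens a b c) : IsPGroup 2 h.B := by
  rintro ⟨_, w, rfl⟩
  refine ⟨2, ?_⟩
  ext
  show (h.f w) ^ 4 = 1
  have : (h.f w) ^ 4 = h.f (w * w * (w * w)) := by
    simp only [map_mul, pow_succ, pow_zero, one_mul, mul_assoc]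
  rw [this, pow_four, map_one]

theorem B_le_cent (h : Gens a b c) : h.B ≤ centralizer ({c} : Set G) := by
  rintro _ ⟨w, rfl⟩
  rw [mem_centralizer_singleton_iff]
  have h1 := congrArg h.f (wr_cen w)
  rw [map_mul, map_mul, h.f_wr] at h1
  exact h1.symm

section sylow

variable [Finite G]

/-- `N_S(B) > B` if `S > B`. -/
theorem exists_y (S : Sylow 2 G) (hBS : h.B ≤ (S : Subgroup G)) (hne : (S : Subgroup G) ≠ h.B) :
    ∃ y ∈ (S : Subgroup G), y ∈ normalizer (h.B : Set G) ∧ y ∉ h.B := by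
  have h1 : h.B < (S : Subgroup G) := lt_of_le_of_ne hBS (Ne.symm hne)
  have h2 := SmallSimple.SylowMaxInter.lt_inf_normalizer S.isPGroup' h1
  obtain ⟨y, hy1, hy2⟩ := SetLike.exists_of_lt h2
  exact ⟨y, hy1.1, hy1.2, hy2⟩

theorem S_le_normalizer (C : Config h) (S : Sylow 2 G) (hBS : h.B ≤ (S : Subgroup G)) :
    (S : Subgroup G) ≤ normalizer (h.B : Set G) := by
  by_contra hcon
  set T : Subgroup G := (S : Subgroup G) ⊓ normalizer (h.B : Set G) with hT
  have h1 : T < (S : Subgroup G) := by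
    refine lt_of_le_of_ne inf_le_left ?_
    intro h2
    apply hcon
    rw [← h2]
    exact inf_le_right
  have h2 := SmallSimple.SylowMaxInter.lt_inf_normalizer S.isPGroup' h1
  obtain ⟨g, hg1, hg2⟩ := SetLike.exists_of_lt h2
  apply hg2
  exact ⟨hg1.1, normalizer_le C inf_le_right (le_inf hBS le_normalizer) hg1.2⟩

/-- `C_G(z) ≤ S` if `S > B`. -/
theorem cent_z_le (C : Config h)
    (hZ : ∀ S : Sylow 2 G,
      Subgroup.centralizer {z : G | z ∈ (S : Subgroup G) ∧ z ^ 2 = 1 ∧ ∀ s ∈ (S : Subgroup G), s * z = z * s} ≤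
        Subgroup.normalizer ((S : Subgroup G) : Set G))
    (S : Sylow 2 G) (hBS : h.B ≤ (S : Subgroup G)) (hne : (S : Subgroup G) ≠ h.B) :
    centralizer ({h.f wz} : Set G) ≤ (S : Subgroup G) := by
  obtain ⟨y, hyS, hyN, hyB⟩ := exists_y S hBS hne
  have hSN := S_le_normalizer C S hBS
  have h1 : normalizer (h.B : Set G) ≤ (S : Subgroup G) := by
    rw [S.is_maximal' (isPGroup_normalizer C) hSN]
  intro g hg
  apply h1
  apply normalizer_le C hSN hBS
  apply hZ S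
  rw [mem_centralizer_iff]
  rintro x ⟨hx1, hx2, hx3⟩
  have hcS : c ∈ (S : Subgroup G) := hBS ⟨wr, h.f_wr⟩
  have h2 : x ∈ h.B := C.fix x (hSN hx1) (hx3 c hcS).symm
  rw [mem_centralizer_singleton_iff] at hg
  rcases fixed_inv C hyN hyB h2 (hx3 y hyS) (by rw [← pow_two, hx2]) with h3 | h3
  · rw [h3]; simp
  · rw [h3]; exact hg.symm

/-- `B` is a Sylow 2-subgroup of `C_G(c)`. -/
theorem exists_conj_mem (C : Config h) {t : G} (ht : t ∈ centralizer ({c} : Set G))
    (ht4 : t * t * (t * t) = 1) : ∃ k ∈ centralizer ({c} : Set G), k * t * k⁻¹ ∈ h.B := by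
  set K := centralizer ({c} : Set G) with hK
  have hBK : h.B ≤ K := B_le_cent h
  have hB2 : IsPGroup 2 (h.B.subgroupOf K) := (isPGroup_B h).comap_subtype
  obtain ⟨P, hP⟩ := hB2.exists_le_sylow
  -- `B` is a Sylow subgroup of `K`
  have hR : (P : Subgroup K).map K.subtype = h.B := by
    by_contra hne
    have h1 : h.B ≤ (P : Subgroup K).map K.subtype := by
      intro x hx
      exact ⟨⟨x, hBK hx⟩, hP hx, rfl⟩
    have h2 : h.B < (P : Subgroup K).map K.subtype := lt_of_le_of_ne h1 (Ne.symm hne)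
    have h3 := SmallSimple.SylowMaxInter.lt_inf_normalizer (P.isPGroup'.map K.subtype) h2
    obtain ⟨y, hy1, hy2⟩ := SetLike.exists_of_lt h3
    apply hy2
    apply C.fix y hy1.2
    obtain ⟨y', -, rfl⟩ := hy1.1
    exact mem_centralizer_singleton_iff.1 y'.2
  have hQ2 : IsPGroup 2 (zpowers (⟨t, ht⟩ : K)) := by
    rintro ⟨x, k, rfl⟩
    refine ⟨2, ?_⟩
    ext
    show (t ^ k) ^ 4 = 1
    rw [← zpow_natCast, ← zpow_mul, mul_comm, zpow_mul]
    have : t ^ ((4 : ℕ) : ℤ) = t * t * (t * t) := by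
      rw [zpow_natCast]; simp only [pow_succ, pow_zero, one_mul, mul_assoc]
    rw [this, ht4, one_zpow]
  obtain ⟨Q, hQ⟩ := hQ2.exists_le_sylow
  obtain ⟨k, hk⟩ := MulAction.exists_smul_eq K Q P
  refine ⟨k, k.2, ?_⟩
  have h1 : (k * ⟨t, ht⟩ * k⁻¹ : K) ∈ (P : Subgroup K) := by
    rw [← hk, Sylow.coe_subgroup_smul]
    have h2 : (k * ⟨t, ht⟩ * k⁻¹ : K) = MulAut.conj k • (⟨t, ht⟩ : K) := rfl
    rw [h2, Subgroup.smul_mem_pointwise_smul_iff]
    exact hQ (mem_zpowers _)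
  rw [← hR]
  exact ⟨_, h1, rfl⟩

omit [Finite G] in
theorem c_mem_B (h : Gens a b c) : c ∈ h.B := ⟨wr, h.f_wr⟩

omit [Finite G] in
theorem c_not_mem_D (C : Config h) : c ∉ h.D := by
  intro h1
  obtain ⟨w, hw, hw2⟩ := h.mem_D.1 h1
  have h2 : w = wr := C.inj (hw2.trans h.f_wr.symm)
  subst h2
  revert hw; decide

omit [Finite G] in
/-- `c` is not conjugate to `z` if `S > B`. -/
theorem not_conj_z (C : Config h) (S : Sylow 2 G)
    (hz : centralizer ({h.f wz} : Set G) ≤ (S : Subgroup G)) (g : G) :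
    g * c * g⁻¹ ≠ h.f wz := by
  intro h1
  apply C.big
  have h2 : centralizer ({c} : Set G) ≤ (centralizer ({h.f wz} : Set G)).comap
      (MulAut.conj g).toMonoidHom := by
    intro x hx
    rw [mem_centralizer_singleton_iff] at hx
    show g * x * g⁻¹ ∈ centralizer ({h.f wz} : Set G)
    rw [mem_centralizer_singleton_iff, ← h1]
    calc g * x * g⁻¹ * (g * c * g⁻¹) = g * (x * c) * g⁻¹ := by group
      _ = g * (c * x) * g⁻¹ := by rw [hx]
      _ = g * c * g⁻¹ * (g * x * g⁻¹) := by group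
  refine IsPGroup.to_le ?_ h2
  exact (S.isPGroup'.to_le hz).comap_of_injective _ (MulAut.conj g).injective

/-- `c` is not conjugate to an involution of `S ∖ B`. -/
theorem not_conj_y (C : Config h) (S : Sylow 2 G) (hBS : h.B ≤ (S : Subgroup G))
    (hz : centralizer ({h.f wz} : Set G) ≤ (S : Subgroup G)) (g : G)
    (h1 : g * c * g⁻¹ ∈ (S : Subgroup G)) : g * c * g⁻¹ ∈ h.B := by
  by_contra h2
  have hSN := S_le_normalizer C S hBS
  obtain ⟨⟨e, he, hey, hee⟩, -⟩ := exists_e C (hSN h1) h2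
  set y := g * c * g⁻¹ with hy
  have h3 : g⁻¹ * e * g ∈ centralizer ({c} : Set G) := by
    rw [mem_centralizer_singleton_iff]
    have hc : c = g⁻¹ * y * g := by rw [hy]; group
    rw [hc]
    calc g⁻¹ * e * g * (g⁻¹ * y * g) = g⁻¹ * (e * y) * g := by group
      _ = g⁻¹ * (y * e) * g := by rw [hey]
      _ = g⁻¹ * y * g * (g⁻¹ * e * g) := by group
  have h4 : (g⁻¹ * e * g) * (g⁻¹ * e * g) = g⁻¹ * h.f wz * g := by
    rw [← hee]; group
  obtain ⟨k, hk, hkB⟩ := exists_conj_mem C h3 (by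
    rw [h4]
    calc g⁻¹ * h.f wz * g * (g⁻¹ * h.f wz * g) = g⁻¹ * (h.f wz * h.f wz) * g := by group
      _ = 1 := by rw [z_sq]; group)
  -- `k g⁻¹` centralizes `z`
  have h5 : (k * g⁻¹) * h.f wz * (k * g⁻¹)⁻¹ = h.f wz := by
    obtain ⟨w, hw⟩ := hkB
    have h6 : (k * g⁻¹) * h.f wz * (k * g⁻¹)⁻¹ = h.f (w * w) := by
      rw [map_mul, hw]
      calc (k * g⁻¹) * h.f wz * (k * g⁻¹)⁻¹ = k * (g⁻¹ * h.f wz * g) * k⁻¹ := by group
        _ = k * ((g⁻¹ * e * g) * (g⁻¹ * e * g)) * k⁻¹ := by rw [h4]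
        _ = _ := by group
    rcases sq_cases w with h7 | h7
    · exfalso
      rw [h7, map_one] at h6
      apply z_ne C
      calc h.f wz = (k * g⁻¹)⁻¹ * ((k * g⁻¹) * h.f wz * (k * g⁻¹)⁻¹) * (k * g⁻¹) := by group
        _ = 1 := by rw [h6]; group
    · rw [h6, h7]
  have h6 : k * g⁻¹ ∈ (S : Subgroup G) := by
    apply hz
    rw [mem_centralizer_singleton_iff]
    calc k * g⁻¹ * h.f wz = (k * g⁻¹) * h.f wz * (k * g⁻¹)⁻¹ * (k * g⁻¹) := by group
      _ = h.f wz * (k * g⁻¹) := by rw [h5]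
  apply h2
  have h7 : (k * g⁻¹) * y * (k * g⁻¹)⁻¹ ∈ h.B := by
    have h8 : (k * g⁻¹) * y * (k * g⁻¹)⁻¹ = k * c * k⁻¹ := by rw [hy]; group
    rw [h8]
    rw [mem_centralizer_singleton_iff] at hk
    rw [hk]
    simpa using c_mem_B h
  exact (mem_normalizer_iff.1 (hSN h6) y).2 h7

/-- The subgroup `D⟨y⟩`. -/
def Dy (C : Config h) {y : G} (hy : y ∈ normalizer (h.B : Set G)) (hyB : y ∉ h.B) :
    Subgroup G where
  carrier := {x | x ∈ h.D ∨ x * y⁻¹ ∈ h.D}
  one_mem' := Or.inl h.D.one_mem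
  mul_mem' := by
    rintro u v (hu | hu) (hv | hv)
    · exact Or.inl (mul_mem hu hv)
    · right
      rw [mul_assoc]
      exact mul_mem hu hv
    · right
      have h1 : u * v * y⁻¹ = u * y⁻¹ * (y * v * y⁻¹) := by group
      rw [h1]
      exact mul_mem hu (conj_D C hy hyB hv)
    · left
      have h1 : u * v = u * y⁻¹ * (y * (v * y⁻¹) * y⁻¹) * (y * y) := by group
      rw [h1]
      exact mul_mem (mul_mem hu (conj_D C hy hyB hv)) (exists_e C hy hyB).2
  inv_mem' := by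
    rintro u (hu | hu)
    · exact Or.inl (inv_mem hu)
    · right
      have hy' : y⁻¹ ∉ h.B := fun h2 => hyB (by simpa using inv_mem h2)
      have h1 : u⁻¹ * y⁻¹ = (y⁻¹ * (u * y⁻¹)⁻¹ * y⁻¹⁻¹) * (y * y)⁻¹ := by group
      rw [h1]
      exact mul_mem (conj_D C (inv_mem hy) hy' (inv_mem hu)) (inv_mem (exists_e C hy hyB).2)

theorem relIndex_Dy (C : Config h) (S : Sylow 2 G) (hBS : h.B ≤ (S : Subgroup G))
    {y : G} (hyS : y ∈ (S : Subgroup G)) (hyB : y ∉ h.B) :
    Dy C (S_le_normalizer C S hBS hyS) hyB ≤ (S : Subgroup G) ∧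
      (Dy C (S_le_normalizer C S hBS hyS) hyB).relIndex (S : Subgroup G) = 2 ∧
      Dy C (S_le_normalizer C S hBS hyS) hyB ⊓ h.B = h.D := by
  have hSN := S_le_normalizer C S hBS
  set M := Dy C (hSN hyS) hyB with hM
  have hle : M ≤ (S : Subgroup G) := by
    rintro x (hx | hx)
    · exact hBS (h.D_le hx)
    · have h1 := mul_mem (hBS (h.D_le hx)) hyS
      simpa using h1
  have hinf : M ⊓ h.B = h.D := by
    apply le_antisymm
    · rintro x ⟨hx | hx, hxB⟩
      · exact hx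
      · exfalso
        apply hyB
        have h1 := mul_mem (inv_mem (h.D_le hx)) hxB
        have h2 : (x * y⁻¹)⁻¹ * x = y := by group
        rwa [h2] at h1
    · exact fun x hx => ⟨Or.inl hx, h.D_le hx⟩
  have hcM : c ∉ M := fun h1 => c_not_mem_D C (hinf ▸ ⟨h1, c_mem_B h⟩)
  have hBc : ∀ x ∈ h.B, x ∈ h.D ∨ x * c ∈ h.D := by
    rintro _ ⟨w, rfl⟩
    rcases snd_cases w with h1 | h1
    · left; exact h.mem_D.2 ⟨w, h1, rfl⟩
    · right
      refine h.mem_D.2 ⟨w * wr, h1, ?_⟩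
      rw [map_mul, h.f_wr]
  refine ⟨hle, ?_, hinf⟩
  rw [relIndex, index_eq_two_iff]
  refine ⟨⟨c, hBS (c_mem_B h)⟩, ?_⟩
  rintro ⟨s, hs⟩
  have key : s * c ∈ M ∨ s ∈ M := by
    by_cases hsB : s ∈ h.B
    · rcases hBc s hsB with h1 | h1
      · exact Or.inr (Or.inl h1)
      · exact Or.inl (Or.inl h1)
    · have h1 : s * y⁻¹ ∈ h.B := by
        have hyi : y⁻¹ ∉ h.B := fun h2 => hyB (by simpa using inv_mem h2)
        exact mul_mem_B C (hSN hs) hsB (inv_mem (hSN hyS)) hyi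
      rcases hBc _ h1 with h2 | h2
      · exact Or.inr (Or.inr h2)
      · left; right
        -- `s c y⁻¹ = s y⁻¹ (y c y⁻¹) = s y⁻¹ c z`
        obtain ⟨φ, hb, hφ, h3, -, -⟩ := act C (hSN hyS) hyB
        have h4 : y * c * y⁻¹ = c * h.f wz := by
          nth_rewrite 1 [← h.f_wr]
          rw [← hφ, h3, map_mul, h.f_wr]
        have h5 : s * c * y⁻¹ = s * y⁻¹ * c * h.f wz := by
          calc s * c * y⁻¹ = s * y⁻¹ * (y * c * y⁻¹) := by group
            _ = _ := by rw [h4, ← mul_assoc]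
        rw [h5]
        exact mul_mem h2 (h.mem_D.2 ⟨wz, rfl, rfl⟩)
  have hnot : ¬ (s * c ∈ M ∧ s ∈ M) := by
    rintro ⟨h1, h2⟩
    apply hcM
    have h3 := mul_mem (inv_mem h2) h1
    simpa using h3
  simp only [mem_subgroupOf, Xor]
  have hsc : ((⟨s, hs⟩ : (S : Subgroup G)) * ⟨c, hBS (c_mem_B h)⟩ : (S : Subgroup G)) =
    ⟨s * c, mul_mem hs (hBS (c_mem_B h))⟩ := rfl
  tauto

omit [Finite G] in
theorem closure_le_of_index {M : Subgroup G} (hM : M.Normal) (hi : M.index = 2) :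
    closure {g : G | Odd (orderOf g)} ≤ M := by
  rw [closure_le]
  intro g hg
  have hg' : Odd (orderOf g) := hg
  have h1 : (QuotientGroup.mk' M g) ^ orderOf g = 1 := by
    rw [← map_pow, pow_orderOf_eq_one, map_one]
  have h2 : (QuotientGroup.mk' M g) ^ 2 = 1 := by
    have : Nat.card (G ⧸ M) = 2 := hi
    rw [← this]
    exact pow_card_eq_one'
  have h3 : QuotientGroup.mk' M g = 1 := by
    have h4 : orderOf (QuotientGroup.mk' M g) ∣ Nat.gcd (orderOf g) 2 :=
      Nat.dvd_gcd (orderOf_dvd_of_pow_eq_one h1) (orderOf_dvd_of_pow_eq_one h2)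
    rw [Nat.Coprime.gcd_eq_one (Nat.coprime_two_right.2 hg'), Nat.dvd_one, orderOf_eq_one_iff] at h4
    exact h4
  exact (QuotientGroup.eq_one_iff g).1 h3

omit [Finite G] in
theorem relIndex_D (C : Config h) : h.D.relIndex h.B = 2 := by
  have h1 := relIndex_mul_relIndex ⊥ h.D h.B bot_le h.D_le
  rw [relIndex_bot_left, relIndex_bot_left, h.card_B C.inj, h.card_D C.inj] at h1
  omega

/-- The transfer argument. -/
theorem c_not_mem (C : Config h)
    (hZ : ∀ S : Sylow 2 G,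
      Subgroup.centralizer {z : G | z ∈ (S : Subgroup G) ∧ z ^ 2 = 1 ∧ ∀ s ∈ (S : Subgroup G), s * z = z * s} ≤
        Subgroup.normalizer ((S : Subgroup G) : Set G)) :
    c ∉ closure {g : G | Odd (orderOf g)} := by
  obtain ⟨S, hBS⟩ := (isPGroup_B h).exists_le_sylow
  have hc2 : c ^ 2 = 1 := by rw [pow_two, h.cc]
  have hconj : ∀ g : G, g * c * g⁻¹ ∈ h.D → ∃ k : G, k * c * k⁻¹ = h.f wz := by
    intro g hg
    obtain ⟨k, hk⟩ := C.conj _ hg (by
      calc g * c * g⁻¹ * (g * c * g⁻¹) = g * (c * c) * g⁻¹ := by group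
        _ = 1 := by rw [h.cc]; group) (by
      intro h1
      have h2 : c = 1 := by
        calc c = g⁻¹ * (g * c * g⁻¹) * g := by group
          _ = 1 := by rw [h1]; group
      exact c_not_mem_D C (h2 ▸ h.D.one_mem))
    exact ⟨k * g, by rw [← hk]; group⟩
  by_cases hSB : (S : Subgroup G) = h.B
  · rcases Cfsg.Agent.Transfer.ThompsonTransfer.thompson_transfer S h.D (h.D_le.trans hBS)
      (by rw [hSB]; exact relIndex_D C) c hc2 with ⟨M, hM, hi, hcM⟩ | ⟨g, hg⟩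
    · exact fun h1 => hcM (closure_le_of_index hM hi h1)
    · exfalso
      obtain ⟨k, hk⟩ := hconj g hg
      have hcc : c ∈ centralizer ((S : Subgroup G) : Set G) := by
        rw [hSB, mem_centralizer_iff]
        intro x hx
        exact (mem_centralizer_singleton_iff.1 (B_le_cent h hx))
      have hzc : h.f wz ∈ centralizer ((S : Subgroup G) : Set G) := by
        rw [hSB, mem_centralizer_iff]
        rintro _ ⟨w, rfl⟩
        rw [← map_mul, ← map_mul, wz_cen]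
      obtain ⟨n, hn, hn2⟩ := S.conj_eq_normalizer_conj_of_mem_centralizer c k⁻¹ hcc
        (by rw [inv_inv, hk]; exact hzc)
      rw [inv_inv, hk] at hn2
      have hn' : n ∈ normalizer ((S : Subgroup G) : Set G) := hn
      rw [hSB] at hn'
      obtain ⟨φ, hb, hφ⟩ := h.exists_phi C.inj (inv_mem hn')
      have h1 : φ wr = wz := by
        apply C.inj
        rw [hφ, h.f_wr, inv_inv, hn2]
      rw [← phi_z hb] at h1
      exact wr_ne_wz (hb.1 h1)
  · obtain ⟨y, hyS, hyN, hyB⟩ := exists_y S hBS hSB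
    have hz := cent_z_le C hZ S hBS hSB
    obtain ⟨h1, h2, h3⟩ := relIndex_Dy C S hBS hyS hyB
    rcases Cfsg.Agent.Transfer.ThompsonTransfer.thompson_transfer S _ h1 h2 c hc2 with
      ⟨M, hM, hi, hcM⟩ | ⟨g, hg⟩
    · exact fun h1 => hcM (closure_le_of_index hM hi h1)
    · exfalso
      have h4 := not_conj_y C S hBS hz g (h1 hg)
      have h5 : g * c * g⁻¹ ∈ h.D := h3 ▸ ⟨hg, h4⟩
      obtain ⟨k, hk⟩ := hconj g h5
      exact not_conj_z C S hz k hk

end sylow

end Cfsg.Agent.ZN.EndCore
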