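import Cfsg.Statements.S0518
import Cfsg.Agent.ZN.EndCore

/-!
# S0518 [D2]: the transfer step
-/

set_option autoImplicit false
open Cfsg

namespace Cfsg.Agent.ZN.EndTransfer

open Subgroup DihedralGroup Cfsg.Agent.ZN.EndModel Cfsg.Agent.ZN.EndCore

section aux

variable {G : Type*} [Group G]

theorem exists_ne_ne [Finite G] {K : Subgroup G} (hK : Nat.card K = 4) (z : G) :
    ∃ a ∈ K, a ≠ 1 ∧ a ≠ z := by
  by_contra hcon
  push Not at hcon
  have h1 : (K : Set G) ⊆ {1, z} := by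
    intro x hx
    by_cases hx1 : x = 1
    · simp [hx1]
    · simp [hcon x hx hx1]
  have h2 : (K : Set G).ncard ≤ 2 := (Set.ncard_le_ncard h1 (Set.toFinite _)).trans
    ((Set.ncard_insert_le _ _).trans (by rw [Set.ncard_singleton]))
  have h3 : (K : Set G).ncard = 4 := hK
  omega

theorem mem_four [Finite G] {K : Subgroup G} (hK : Nat.card K = 4) {z a : G} (hz : z ∈ K) (ha : a ∈ K)
    (hz1 : z ≠ 1) (ha1 : a ≠ 1) (haz : a ≠ z) (haz1 : a * z ≠ 1) {x : G} (hx : x ∈ K) :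
    x = 1 ∨ x = z ∨ x = a ∨ x = a * z := by
  have h0 : a * z ≠ z := fun h => ha1 (mul_eq_right.1 h)
  have h0' : a * z ≠ a := fun h => hz1 (mul_eq_left.1 h)
  have h1 : ({1, z, a, a * z} : Set G) ⊆ (K : Set G) := by
    rintro y (rfl | rfl | rfl | rfl)
    · exact K.one_mem
    · exact hz
    · exact ha
    · exact K.mul_mem ha hz
  have h2 : ({1, z, a, a * z} : Set G).ncard = 4 := by
    rw [Set.ncard_insert_of_notMem, Set.ncard_insert_of_notMem, Set.ncard_pair]
    · exact fun h => h0' h.symm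
    · simp only [Set.mem_insert_iff, Set.mem_singleton_iff, not_or]
      exact ⟨fun h => haz h.symm, fun h => h0 h.symm⟩
    · simp only [Set.mem_insert_iff, Set.mem_singleton_iff, not_or]
      exact ⟨fun h => hz1 h.symm, fun h => ha1 h.symm, fun h => haz1 h.symm⟩
  have h3 : ({1, z, a, a * z} : Set G) = (K : Set G) := by
    apply Set.eq_of_subset_of_ncard_le h1
    rw [h2]
    exact (show (K : Set G).ncard = 4 from hK).le
  have h4 : x ∈ ({1, z, a, a * z} : Set G) := by rw [h3]; exact hx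
  simpa using h4

theorem index_two_mem {K L : Subgroup G} (hi : K.relIndex L = 2) {c x : G} (hc : c ∈ L) (hcK : c ∉ K)
    (hx : x ∈ L) : x ∈ K ∨ x * c ∈ K := by
  by_cases h : x ∈ K
  · exact Or.inl h
  · right
    have h1 := (mul_mem_iff_of_index_two (H := K.subgroupOf L) hi (a := ⟨x, hx⟩) (b := ⟨c, hc⟩)).2
      (by simp only [mem_subgroupOf]; tauto)
    exact h1

theorem not_two_group [Finite G] {K : Subgroup G} (hK : Nat.card K = 48) : ¬ IsPGroup 2 K := by
  intro h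
  obtain ⟨n, hn⟩ := IsPGroup.iff_card.1 h
  rw [hK] at hn
  have h3 : 3 ∣ 2 ^ n := by rw [← hn]; norm_num
  have := Nat.Prime.dvd_of_dvd_pow Nat.prime_three h3
  omega

theorem relIndex_of_card [Finite G] {K L : Subgroup G} (hle : K ≤ L) {m n k : ℕ} (hK : Nat.card K = m)
    (hL : Nat.card L = n) (hm : 0 < m) (h : m * k = n) : K.relIndex L = k := by
  have h1 := relIndex_mul_relIndex ⊥ K L bot_le hle
  rw [relIndex_bot_left, relIndex_bot_left, hK, hL, ← h] at h1
  exact Nat.eq_of_mul_eq_mul_left hm h1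

end aux

/-- One side of the configuration in terms of the model. -/
theorem eq_map {G : Type*} [Group G] [Finite G] {a b c : G} (h : Gens a b c)
    (hi : Function.Injective h.f) {U : Subgroup G} (hcard : Nat.card U = 8) {t : W}
    (ht : Fintype.card {x : W // x * t = t * x} = 8)
    (hU : ∀ w : W, w * t = t * w → h.f w ∈ U) (x : G) :
    x ∈ U ↔ ∃ w : W, w * t = t * w ∧ h.f w = x := by
  have h1 : (centralizer ({t} : Set W)).map h.f ≤ U := by
    rintro _ ⟨w, hw, rfl⟩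
    exact hU w (mem_centralizer_singleton_iff.1 hw)
  have h2 : Nat.card (centralizer ({t} : Set W)) = 8 := by
    rw [← ht, ← Nat.card_eq_fintype_card]
    exact Nat.card_congr (Equiv.subtypeEquivRight fun x => mem_centralizer_singleton_iff)
  have h3 : (centralizer ({t} : Set W)).map h.f = U := by
    apply Subgroup.eq_of_le_of_card_ge h1
    rw [hcard, ← h2]
    exact (Nat.card_congr ((centralizer ({t} : Set W)).equivMapOfInjective _ hi).toEquiv).le
  rw [← h3]
  constructor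
  · rintro ⟨w, hw, rfl⟩
    exact ⟨w, mem_centralizer_singleton_iff.1 hw, rfl⟩
  · rintro ⟨w, hw, rfl⟩
    exact ⟨w, mem_centralizer_singleton_iff.2 hw, rfl⟩

theorem D_cases : ∀ w : W, w.2 = 1 → w ∈ [1, wz, wa, wa*wz, wb, wb*wz] ∨ w * w = wz := by
  decide +kernel

theorem comm_LA : ∀ x ∈ L8, x * wa = wa * x → ∃ t ∈ [1, wz, wr, wr * wz], x = wa * t ∧ t * t = 1 := by
  decide +kernel

theorem cent_a_eq : ∀ x : W, x * wa = wa * x →
    ∃ i j k : Fin 2, x = wa ^ (i : ℕ) * wz ^ (j : ℕ) * wr ^ (k : ℕ) := by decide +kernel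

theorem cent_b_eq : ∀ x : W, x * wb = wb * x →
    ∃ i : Fin 2, ∃ t ∈ [1, wz, wr, wr * wz], x = wb ^ (i : ℕ) * t ∧ t * t = 1 := by decide +kernel

theorem comm_of_sq {G : Type*} [Group G] {U : Subgroup G} (hU : ∀ x ∈ U, x * x = 1) {x y : G}
    (hx : x ∈ U) (hy : y ∈ U) : x * y = y * x := by
  have h1 : x⁻¹ = x := by rw [inv_eq_iff_mul_eq_one, hU x hx]
  have h2 : y⁻¹ = y := by rw [inv_eq_iff_mul_eq_one, hU y hy]
  have h3 : (x * y)⁻¹ = x * y := by rw [inv_eq_iff_mul_eq_one, hU _ (U.mul_mem hx hy)]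
  rw [← h3, mul_inv_rev, h1, h2]

theorem mem_normalizer_of {G : Type*} [Group G] [Finite G] {K : Subgroup G} {y : G}
    (h : ∀ x ∈ K, y * x * y⁻¹ ∈ K) : y ∈ normalizer (K : Set G) :=
  mem_normalizer_fintype (S := (K : Set G)) h

theorem map_conj_eq {G : Type*} [Group G] [Finite G] {K L : Subgroup G} {y : G}
    (hc : Nat.card K = Nat.card L) (h : ∀ x ∈ K, y * x * y⁻¹ ∈ L) :
    K.map (MulAut.conj y).toMonoidHom = L := by
  apply Subgroup.eq_of_le_of_card_ge
  · rintro _ ⟨x, hx, rfl⟩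
    exact h x hx
  · rw [← hc]
    exact (Nat.card_congr (K.equivMapOfInjective _ (MulAut.conj y).injective).toEquiv).le

theorem transfer_step {G : Type*} [Group G] [Finite G]
    (hZ : ∀ S : Sylow 2 G,
      Subgroup.centralizer {z : G | z ∈ (S : Subgroup G) ∧ z ^ 2 = 1 ∧ ∀ s ∈ (S : Subgroup G), s * z = z * s} ≤
        Subgroup.normalizer ((S : Subgroup G) : Set G))
    (U₁ U₂ W₁ W₂ : Subgroup G)
    (hE₁ : ∀ a ∈ U₁, a * a = 1) (hE₂ : ∀ a ∈ U₂, a * a = 1)
    (hcard₁ : Nat.card U₁ = 8) (hcard₂ : Nat.card U₂ = 8)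
    (hC₁ : Subgroup.centralizer (U₁ : Set G) ≤ U₁) (hC₂ : Subgroup.centralizer (U₂ : Set G) ≤ U₂)
    (hN₁ : Nat.card (Subgroup.normalizer (U₁ : Set G)) = 48)
    (hN₂ : Nat.card (Subgroup.normalizer (U₂ : Set G)) = 48)
    (h12 : U₁ ≤ Subgroup.normalizer (U₂ : Set G)) (h21 : U₂ ≤ Subgroup.normalizer (U₁ : Set G))
    (hinf : Nat.card ↥(U₁ ⊓ U₂) = 4)
    (c₁ c₂ : G) (hc₁ : c₁ ∈ U₁) (hc₂ : c₂ ∈ U₂) (hc₁1 : c₁ ≠ 1) (hc₂1 : c₂ ≠ 1) (hne : c₁ ≠ c₂)
    (hcen₁ : ∀ x ∈ Subgroup.normalizer (U₁ : Set G), x * c₁ = c₁ * x)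
    (hcen₂ : ∀ x ∈ Subgroup.normalizer (U₂ : Set G), x * c₂ = c₂ * x)
    (hW₁ : W₁ ≤ U₁) (hW₂ : W₂ ≤ U₂) (hWc₁ : Nat.card W₁ = 4) (hWc₂ : Nat.card W₂ = 4)
    (hWN₁ : Subgroup.normalizer (U₁ : Set G) ≤ Subgroup.normalizer (W₁ : Set G))
    (hWN₂ : Subgroup.normalizer (U₂ : Set G) ≤ Subgroup.normalizer (W₂ : Set G))
    (hcW₁ : c₁ ∉ W₁) (hcW₂ : c₂ ∉ W₂) (hzW₁ : c₁ * c₂ ∈ W₁) (hzW₂ : c₁ * c₂ ∈ W₂)
    -- every w in W_i, w ≠ 1, is conjugate to z = c₁ c₂
    (hconj₁ : ∀ w ∈ W₁, w ≠ 1 → ∃ g : G, g * w * g⁻¹ = c₁ * c₂)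
    (hconj₂ : ∀ w ∈ W₂, w ≠ 1 → ∃ g : G, g * w * g⁻¹ = c₁ * c₂)
    -- W_i is the kernel of the norm map of an element of order 3, uniquely determined by U_i:
    (huniq : ∀ g : G, U₁.map (MulAut.conj g).toMonoidHom = U₂ → W₁.map (MulAut.conj g).toMonoidHom = W₂)
    (huniq' : ∀ g : G, U₂.map (MulAut.conj g).toMonoidHom = U₁ → W₂.map (MulAut.conj g).toMonoidHom = W₁) :
    c₁ ∉ Subgroup.closure {g : G | Odd (orderOf g)} := by
  have hc₁U₂ : c₁ ∈ U₂ := hC₂ (mem_centralizer_iff.2 fun x hx => hcen₁ x (h21 hx))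
  have hc₂U₁ : c₂ ∈ U₁ := hC₁ (mem_centralizer_iff.2 fun x hx => hcen₂ x (h12 hx))
  have hcc₁ := hE₁ c₁ hc₁
  have hcc₂ := hE₂ c₂ hc₂
  obtain ⟨z, hz⟩ : ∃ z, z = c₁ * c₂ := ⟨_, rfl⟩
  have hzW₁' : z ∈ W₁ := hz ▸ hzW₁
  have hzW₂' : z ∈ W₂ := hz ▸ hzW₂
  have hz1 : z ≠ 1 := by
    intro h1
    apply hne
    rw [h1] at hz
    rw [eq_inv_of_mul_eq_one_left hz.symm, inv_eq_iff_mul_eq_one, hcc₂]
  have hzz : z * z = 1 := hE₁ z (hW₁ hzW₁')
  have hc₂z : c₂ = c₁ * z := by rw [hz, ← mul_assoc, hcc₁, one_mul]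
  have hc₁z : c₁ = c₂ * z := by
    rw [hz, comm_of_sq hE₁ hc₁ hc₂U₁, ← mul_assoc, hcc₂, one_mul]
  have hcW₂' : c₁ ∉ W₂ := fun h1 => hcW₂ (by rw [hc₂z]; exact mul_mem h1 hzW₂')
  have hcW₁' : c₂ ∉ W₁ := fun h1 => hcW₁ (by rw [hc₁z]; exact mul_mem h1 hzW₁')
  obtain ⟨a, haW, ha1, haz⟩ := exists_ne_ne hWc₁ z
  obtain ⟨b, hbW, hb1, hbz⟩ := exists_ne_ne hWc₂ z
  have haa := hE₁ a (hW₁ haW)
  have hbb := hE₂ b (hW₂ hbW)
  have haz1 : a * z ≠ 1 := fun h1 => haz (by
    rw [eq_inv_of_mul_eq_one_left h1, inv_eq_iff_mul_eq_one, hzz])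
  have hbz1 : b * z ≠ 1 := fun h1 => hbz (by
    rw [eq_inv_of_mul_eq_one_left h1, inv_eq_iff_mul_eq_one, hzz])
  have hW₁e := fun {x : G} (hx : x ∈ W₁) => mem_four hWc₁ hzW₁' haW hz1 ha1 haz haz1 hx
  have hW₂e := fun {x : G} (hx : x ∈ W₂) => mem_four hWc₂ hzW₂' hbW hz1 hb1 hbz hbz1 hx
  have hi₁ : W₁.relIndex U₁ = 2 := relIndex_of_card hW₁ hWc₁ hcard₁ (by norm_num) (by norm_num)
  -- `b ∉ U₁`
  have hbU₁ : b ∉ U₁ := by
    intro hbU
    have h1 : b ∈ U₁ ⊓ U₂ := ⟨hbU, hW₂ hbW⟩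
    rcases mem_four hinf (z := z) (a := c₁) ⟨hW₁ hzW₁', hW₂ hzW₂'⟩ ⟨hc₁, hc₁U₂⟩ hz1 hc₁1
      (fun h2 => hcW₁ (h2 ▸ hzW₁')) (fun h2 => hc₂1 (by rw [hc₂z, h2])) h1 with h2 | h2 | h2 | h2
    · exact hb1 h2
    · exact hbz h2
    · exact hcW₂' (h2 ▸ hbW)
    · exact hcW₂ (by rw [hc₂z, ← h2]; exact hbW)
  -- `b a b⁻¹ = a z`
  have hbN : b ∈ normalizer (U₁ : Set G) := h21 (hW₂ hbW)
  have hbzc : b * z = z * b := comm_of_sq hE₂ (hW₂ hbW) (hW₂ hzW₂')
  have hbc : b * c₁ = c₁ * b := comm_of_sq hE₂ (hW₂ hbW) hc₁U₂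
  have hazc : a * z = z * a := comm_of_sq hE₁ (hW₁ haW) (hW₁ hzW₁')
  have hac : a * c₁ = c₁ * a := comm_of_sq hE₁ (hW₁ haW) hc₁
  have hbab : b * a * b⁻¹ = a * z := by
    have h1 : b * a * b⁻¹ ∈ W₁ := (mem_normalizer_iff.1 (hWN₁ hbN) a).1 haW
    rcases hW₁e h1 with h2 | h2 | h2 | h2
    · exfalso; apply ha1
      calc a = b⁻¹ * (b * a * b⁻¹) * b := by group
        _ = 1 := by rw [h2]; group
    · exfalso; apply haz
      calc a = b⁻¹ * (b * a * b⁻¹) * b := by group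
        _ = b⁻¹ * (z * b) := by rw [h2, mul_assoc]
        _ = z := by rw [← hbzc]; group
    · exfalso; apply hbU₁
      have hba : b * a = a * b := by
        calc b * a = (b * a * b⁻¹) * b := by group
          _ = a * b := by rw [h2]
      apply hC₁
      have hbW₁ : ∀ x ∈ W₁, x * b = b * x := by
        intro x hx
        rcases hW₁e hx with rfl | rfl | rfl | rfl
        · simp
        · exact hbzc.symm
        · exact hba.symm
        · rw [mul_assoc, ← hbzc, ← mul_assoc, ← hba, mul_assoc]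
      rw [mem_centralizer_iff]
      intro x hx
      rcases index_two_mem hi₁ hc₁ hcW₁ hx with h3 | h3
      · exact hbW₁ x h3
      · have h4 := hbW₁ _ h3
        have h5 : x * b * c₁ = b * x * c₁ := by
          rw [mul_assoc, hbc, ← mul_assoc, h4, mul_assoc]
        exact mul_right_cancel h5
    · exact h2
  have hbi : b⁻¹ = b := by rw [inv_eq_iff_mul_eq_one, hbb]
  have hzab : a * b * (a * b) = z := by
    have h1 : b * a = a * z * b := by rw [← hbab]; group
    calc a * b * (a * b) = a * (b * a) * b := by group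
      _ = (a * a) * z * (b * b) := by rw [h1]; group
      _ = z := by rw [haa, hbb]; group
  have h : Gens a b c₁ :=
    { aa := haa, bb := hbb, cc := hcc₁
      four := by
        have : (a * b) ^ 4 = a * b * (a * b) * (a * b * (a * b)) := by
          simp only [pow_succ, pow_zero, one_mul, mul_assoc]
        rw [this, hzab, hzz]
      ca := hac.symm, cb := hbc.symm }
  have hfz : h.f wz = z := by rw [h.f_wz, hzab]
  have hcD : c₁ ∉ h.D := by
    intro h1
    obtain ⟨w, hw, hwc⟩ := h.mem_D.1 h1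
    rcases D_cases w hw with h2 | h2
    · simp only [List.mem_cons, List.not_mem_nil, or_false] at h2
      rcases h2 with rfl | rfl | rfl | rfl | rfl | rfl
      · rw [map_one] at hwc; exact hc₁1 hwc.symm
      · rw [hfz] at hwc; exact hcW₁ (hwc ▸ hzW₁')
      · rw [h.f_wa] at hwc; exact hcW₁ (by rw [← hwc]; exact haW)
      · rw [map_mul, h.f_wa, hfz] at hwc; exact hcW₁ (by rw [← hwc]; exact mul_mem haW hzW₁')
      · rw [h.f_wb] at hwc; exact hcW₂' (by rw [← hwc]; exact hbW)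
      · rw [map_mul, h.f_wb, hfz] at hwc; exact hcW₂' (by rw [← hwc]; exact mul_mem hbW hzW₂')
    · have h3 := congrArg h.f h2
      rw [map_mul, hwc, hcc₁, hfz] at h3
      exact hz1 h3.symm
  have hi : Function.Injective h.f := h.inj (by rw [hzab]; exact hz1) hcD
  -- descriptions of `U₁` and `U₂`
  have hU₁ := eq_map h hi hcard₁ card_cent_a (by
    intro w hw
    have h1 := cent_a w hw
    simp only [List.mem_cons, List.not_mem_nil, or_false] at h1
    rcases h1 with rfl | rfl | rfl | rfl | rfl | rfl | rfl | rfl <;>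
      simp only [map_one, map_mul, h.f_wa, hfz, h.f_wr]
    · exact U₁.one_mem
    · exact hW₁ hzW₁'
    · exact hW₁ haW
    · exact mul_mem (hW₁ haW) (hW₁ hzW₁')
    · exact hc₁
    · exact mul_mem hc₁ (hW₁ hzW₁')
    · exact mul_mem (hW₁ haW) hc₁
    · exact mul_mem (mul_mem (hW₁ haW) hc₁) (hW₁ hzW₁'))
  have hU₂ := eq_map h hi hcard₂ card_cent_b (by
    intro w hw
    have h1 := cent_b w hw
    simp only [List.mem_cons, List.not_mem_nil, or_false] at h1
    rcases h1 with rfl | rfl | rfl | rfl | rfl | rfl | rfl | rfl <;>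
      simp only [map_one, map_mul, h.f_wb, hfz, h.f_wr]
    · exact U₂.one_mem
    · exact hW₂ hzW₂'
    · exact hW₂ hbW
    · exact mul_mem (hW₂ hbW) (hW₂ hzW₂')
    · exact hc₁U₂
    · exact mul_mem hc₁U₂ (hW₂ hzW₂')
    · exact mul_mem (hW₂ hbW) hc₁U₂
    · exact mul_mem (mul_mem (hW₂ hbW) hc₁U₂) (hW₂ hzW₂'))
  have hac₁U : a ∈ normalizer (U₁ : Set G) := le_normalizer (hW₁ haW)
  have hBN : h.B ≤ normalizer (U₁ : Set G) := h.B_le hac₁U hbN (le_normalizer hc₁)
  -- elements preserving the type of `a`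
  have hLA : ∀ y : G, ∀ φ : W →* W, (∀ x, h.f (φ x) = y * h.f x * y⁻¹) → φ wa ∈ LA →
      y ∈ normalizer (U₁ : Set G) := by
    intro y φ hφ h1
    apply mem_normalizer_of
    intro x hx
    obtain ⟨w, hw, rfl⟩ := (hU₁ x).1 hx
    rw [← hφ]
    refine (hU₁ _).2 ⟨φ w, cent_LA _ h1 _ ?_, rfl⟩
    rw [← map_mul, ← map_mul, hw]
  have hLB : ∀ y : G, ∀ φ : W →* W, (∀ x, h.f (φ x) = y * h.f x * y⁻¹) → φ wa ∈ LB →
      ∀ x ∈ U₁, y * x * y⁻¹ ∈ U₂ := by
    intro y φ hφ h1 x hx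
    obtain ⟨w, hw, rfl⟩ := (hU₁ x).1 hx
    rw [← hφ]
    refine (hU₂ _).2 ⟨φ w, cent_LB _ h1 _ ?_, rfl⟩
    rw [← map_mul, ← map_mul, hw]
  have hLA' : ∀ y : G, ∀ φ : W →* W, (∀ x, h.f (φ x) = y * h.f x * y⁻¹) → φ wb ∈ LA →
      ∀ x ∈ U₂, y * x * y⁻¹ ∈ U₁ := by
    intro y φ hφ h1 x hx
    obtain ⟨w, hw, rfl⟩ := (hU₂ x).1 hx
    rw [← hφ]
    refine (hU₁ _).2 ⟨φ w, cent_LA _ h1 _ ?_, rfl⟩
    rw [← map_mul, ← map_mul, hw]
  -- `N(U₁) ∩ N(B)` is a 2-group
  have hK2 : IsPGroup 2 (normalizer (U₁ : Set G) ⊓ normalizer (h.B : Set G) : Subgroup G) := by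
    rintro ⟨y, hy1, hy2⟩
    obtain ⟨φ, hb, hφ⟩ := h.exists_phi hi hy2
    have h1 : φ wr = wr := by
      apply hi
      rw [hφ, h.f_wr, hcen₁ y hy1]; group
    have h2 : φ wa * wa = wa * φ wa := by
      have h3 : h.f (φ wa) ∈ U₁ := by
        rw [hφ, h.f_wa]
        exact (mem_normalizer_iff.1 hy1 a).1 (hW₁ haW)
      obtain ⟨w, hw, hw2⟩ := (hU₁ _).1 h3
      rw [hi hw2] at hw
      exact hw
    obtain ⟨t, ht, htw, htt⟩ := comm_LA _ (phi_a hb) h2
    have h3 : φ t = t := by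
      simp only [List.mem_cons, List.not_mem_nil, or_false] at ht
      rcases ht with rfl | rfl | rfl | rfl
      · rw [map_one]
      · exact phi_z hb
      · exact h1
      · rw [map_mul, h1, phi_z hb]
    have h4 : φ (φ wa) = wa := by
      rw [htw, map_mul, h3, htw, mul_assoc, htt, mul_one]
    have h5 : y * y ∈ U₁ := by
      apply hC₁
      rw [mem_centralizer_iff]
      intro x hx
      obtain ⟨w, hw, rfl⟩ := (hU₁ x).1 hx
      obtain ⟨i, j, k, rfl⟩ := cent_a_eq w hw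
      have h6 : φ (φ (wa ^ (i : ℕ) * wz ^ (j : ℕ) * wr ^ (k : ℕ))) =
          wa ^ (i : ℕ) * wz ^ (j : ℕ) * wr ^ (k : ℕ) := by
        simp only [map_mul, map_pow, h4, h1, phi_z hb]
      have h7 := hφ (φ (wa ^ (i : ℕ) * wz ^ (j : ℕ) * wr ^ (k : ℕ)))
      rw [h6, hφ] at h7
      calc h.f (wa ^ (i : ℕ) * wz ^ (j : ℕ) * wr ^ (k : ℕ)) * (y * y) =
          y * (y * h.f (wa ^ (i : ℕ) * wz ^ (j : ℕ) * wr ^ (k : ℕ)) * y⁻¹) * y⁻¹ * (y * y) := by
            rw [← h7]
        _ = y * y * h.f (wa ^ (i : ℕ) * wz ^ (j : ℕ) * wr ^ (k : ℕ)) := by group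
    refine ⟨2, ?_⟩
    ext
    show y ^ 4 = 1
    have h8 : y ^ 4 = y * y * (y * y) := by
      simp only [pow_succ, pow_zero, one_mul, mul_assoc]
    rw [h8, hE₁ _ h5]
  have hK : ∀ y ∈ normalizer (U₁ : Set G), y ∈ normalizer (h.B : Set G) → y ∈ h.B := by
    have hle : h.B ≤ (normalizer (U₁ : Set G) ⊓ normalizer (h.B : Set G) : Subgroup G) :=
      le_inf hBN le_normalizer
    have h1 : h.B = (normalizer (U₁ : Set G) ⊓ normalizer (h.B : Set G) : Subgroup G) := by
      apply Subgroup.eq_of_le_of_card_ge hle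
      rw [h.card_B hi]
      obtain ⟨n, hn⟩ := IsPGroup.iff_card.1 hK2
      have h2 : Nat.card (normalizer (U₁ : Set G) ⊓ normalizer (h.B : Set G) : Subgroup G) ∣ 48 := by
        rw [← hN₁]
        exact card_dvd_of_le inf_le_left
      rw [hn] at h2 ⊢
      by_contra hcon
      have h3 : 5 ≤ n := by
        by_contra h4
        have h5 : n ≤ 4 := by omega
        have h6 : 2 ^ n ≤ 2 ^ 4 := Nat.pow_le_pow_right (by norm_num) h5
        omega
      have h4 : 2 ^ 5 ∣ 48 := (pow_dvd_pow 2 h3).trans h2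
      omega
    intro y hy1 hy2
    rw [h1]
    exact ⟨hy1, hy2⟩
  have hfix : ∀ y ∈ normalizer (h.B : Set G), y * c₁ = c₁ * y → y ∈ h.B := by
    intro y hy hyc
    obtain ⟨φ, hb, hφ⟩ := h.exists_phi hi hy
    rcases mem_LA_or _ (phi_a hb) with h1 | h1
    · exact hK y (hLA y φ hφ h1) hy
    · exfalso
      apply not_two_group hN₂
      have h2 := hLB y φ hφ h1
      have h3 : U₁.map (MulAut.conj y).toMonoidHom = U₂ := map_conj_eq (hcard₁.trans hcard₂.symm) h2
      have h4 : ∀ u ∈ U₂, y⁻¹ * u * y ∈ U₁ := by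
        intro u hu
        rw [← h3] at hu
        obtain ⟨x, hx, rfl⟩ := hu
        have h5 : y⁻¹ * (y * x * y⁻¹) * y = x := by group
        show y⁻¹ * (y * x * y⁻¹) * y ∈ U₁
        rw [h5]; exact hx
      have hnc : ∀ n ∈ normalizer (U₂ : Set G), n * c₁ = c₁ * n := by
        intro n hn
        have h5 : y⁻¹ * n * y ∈ normalizer (U₁ : Set G) := by
          apply mem_normalizer_of
          intro x hx
          have h6 := h4 _ ((mem_normalizer_iff.1 hn _).1 (h2 x hx))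
          have h7 : y⁻¹ * n * y * x * (y⁻¹ * n * y)⁻¹ = y⁻¹ * (n * (y * x * y⁻¹) * n⁻¹) * y := by
            group
          rw [h7]; exact h6
        have h8 := hcen₁ _ h5
        have h9 : y * c₁ * y⁻¹ = c₁ := by rw [hyc]; group
        calc n * c₁ = n * (y * c₁ * y⁻¹) := by rw [h9]
          _ = y * (y⁻¹ * n * y * c₁) * y⁻¹ := by group
          _ = y * (c₁ * (y⁻¹ * n * y)) * y⁻¹ := by rw [h8]
          _ = (y * c₁ * y⁻¹) * n := by group
          _ = c₁ * n := by rw [h9]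
      have hnz : ∀ n ∈ normalizer (U₂ : Set G), n * z = z * n := by
        intro n hn
        rw [hz, ← mul_assoc, hnc n hn, mul_assoc, hcen₂ n hn, mul_assoc]
      rintro ⟨n, hn⟩
      have htc : ∀ t ∈ ([1, wz, wr, wr * wz] : List W), n * h.f t = h.f t * n := by
        intro t ht
        simp only [List.mem_cons, List.not_mem_nil, or_false] at ht
        rcases ht with rfl | rfl | rfl | rfl
        · rw [map_one, one_mul, mul_one]
        · rw [hfz]; exact hnz n hn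
        · rw [h.f_wr]; exact hnc n hn
        · rw [map_mul, h.f_wr, hfz, ← mul_assoc, hnc n hn, mul_assoc, hnz n hn, mul_assoc]
      have hnnb : n * (n * b * n⁻¹) * n⁻¹ = b := by
        have h5 : n * b * n⁻¹ ∈ U₂ := (mem_normalizer_iff.1 hn b).1 (hW₂ hbW)
        obtain ⟨w, hw, hw2⟩ := (hU₂ _).1 h5
        obtain ⟨i, t, ht, rfl, htt⟩ := cent_b_eq w hw
        rw [map_mul, map_pow, h.f_wb] at hw2
        have hti : n * h.f t * n⁻¹ = h.f t := by rw [htc t ht]; group
        have hi' : (i : ℕ) = 0 ∨ (i : ℕ) = 1 := by omega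
        rcases hi' with h6 | h6
        · exfalso
          rw [h6, pow_zero, one_mul] at hw2
          apply hbU₁
          have h7 : b = h.f t := by
            have h8 : n * b * n⁻¹ = n * h.f t * n⁻¹ := by rw [hti, hw2]
            exact mul_left_cancel (mul_right_cancel h8)
          rw [h7]
          simp only [List.mem_cons, List.not_mem_nil, or_false] at ht
          rcases ht with rfl | rfl | rfl | rfl
          · rw [map_one]; exact U₁.one_mem
          · rw [hfz]; exact hW₁ hzW₁'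
          · rw [h.f_wr]; exact hc₁
          · rw [map_mul, h.f_wr, hfz]; exact mul_mem hc₁ (hW₁ hzW₁')
        · rw [h6, pow_one] at hw2
          calc n * (n * b * n⁻¹) * n⁻¹ = n * (b * h.f t) * n⁻¹ := by rw [hw2]
            _ = (n * b * n⁻¹) * (n * h.f t * n⁻¹) := by group
            _ = b * h.f t * h.f t := by rw [hti, ← hw2]
            _ = b := by rw [mul_assoc, ← map_mul, htt, map_one, mul_one]
      have h5 : n * n ∈ U₂ := by
        apply hC₂
        rw [mem_centralizer_iff]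
        intro x hx
        obtain ⟨w, hw, rfl⟩ := (hU₂ x).1 hx
        obtain ⟨i, t, ht, rfl, htt⟩ := cent_b_eq w hw
        have hbn : Commute b (n * n) := by
          show b * (n * n) = n * n * b
          calc b * (n * n) = n * (n * b * n⁻¹) * n⁻¹ * (n * n) := by rw [hnnb]
            _ = n * n * b := by group
        have htn : Commute (h.f t) (n * n) := by
          have h6 : Commute (h.f t) n := (htc t ht).symm
          exact h6.mul_right h6
        rw [map_mul, map_pow, h.f_wb]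
        exact ((hbn.pow_left _).mul_left htn).eq
      refine ⟨2, ?_⟩
      ext
      show n ^ 4 = 1
      have h8 : n ^ 4 = n * n * (n * n) := by
        simp only [pow_succ, pow_zero, one_mul, mul_assoc]
      rw [h8, hE₂ _ h5]
  have hLBof : ∀ y ∈ normalizer (h.B : Set G), y ∉ h.B → ∀ φ : W →* W, Function.Bijective φ →
      (∀ x, h.f (φ x) = y * h.f x * y⁻¹) → φ wa ∈ LB := by
    intro y hy hyB φ hb hφ
    rcases mem_LA_or _ (phi_a hb) with h1 | h1
    · exact absurd (hK y (hLA y φ hφ h1) hy) hyB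
    · exact h1
  have hyz : ∀ y : G, ∀ φ : W →* W, Function.Bijective φ → (∀ x, h.f (φ x) = y * h.f x * y⁻¹) →
      y * z * y⁻¹ = z := by
    intro y φ hb hφ
    have := hφ wz
    rw [phi_z hb, hfz] at this
    exact this.symm
  have C : Config h :=
    { inj := hi
      fix := hfix
      swap := by
        intro y hy hyB
        obtain ⟨φ, hb, hφ⟩ := h.exists_phi hi hy
        have h1 := hLB y φ hφ (hLBof y hy hyB φ hb hφ)
        have h2 := huniq y (map_conj_eq (hcard₁.trans hcard₂.symm) h1)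
        have h3 : y * a * y⁻¹ ∈ W₂ := by rw [← h2]; exact ⟨a, haW, rfl⟩
        rw [map_mul, h.f_wb, hfz]
        rcases hW₂e h3 with h4 | h4 | h4 | h4
        · exfalso; apply ha1
          calc a = y⁻¹ * (y * a * y⁻¹) * y := by group
            _ = 1 := by rw [h4]; group
        · exfalso; apply haz
          have h5 := hyz y φ hb hφ
          exact mul_left_cancel (mul_right_cancel (h4.trans h5.symm))
        · exact Or.inl h4
        · exact Or.inr h4
      swap' := by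
        intro y hy hyB
        obtain ⟨φ, hb, hφ⟩ := h.exists_phi hi hy
        have h1 := hLA' y φ hφ (phi_b_of_a hb (hLBof y hy hyB φ hb hφ))
        have h2 := huniq' y (map_conj_eq (hcard₂.trans hcard₁.symm) h1)
        have h3 : y * b * y⁻¹ ∈ W₁ := by rw [← h2]; exact ⟨b, hbW, rfl⟩
        rw [map_mul, h.f_wa, hfz]
        rcases hW₁e h3 with h4 | h4 | h4 | h4
        · exfalso; apply hb1
          calc b = y⁻¹ * (y * b * y⁻¹) * y := by group
            _ = 1 := by rw [h4]; group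
        · exfalso; apply hbz
          have h5 := hyz y φ hb hφ
          exact mul_left_cancel (mul_right_cancel (h4.trans h5.symm))
        · exact Or.inl h4
        · exact Or.inr h4
      conj := by
        intro x hx hxx hx1
        obtain ⟨w, hw, rfl⟩ := h.mem_D.1 hx
        have h1 : w * w = 1 := hi (by rw [map_mul, hxx, map_one])
        have h2 : w ≠ 1 := fun h3 => hx1 (by rw [h3, map_one])
        have h3 := inv_cases w hw h1 h2
        rw [hfz]
        simp only [List.mem_cons, List.not_mem_nil, or_false] at h3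
        rw [hz]
        rcases h3 with rfl | rfl | rfl | rfl | rfl
        · rw [hfz]; exact hconj₁ _ hzW₁' hz1
        · rw [h.f_wa]; exact hconj₁ _ haW ha1
        · rw [map_mul, h.f_wa, hfz]; exact hconj₁ _ (mul_mem haW hzW₁') haz1
        · rw [h.f_wb]; exact hconj₂ _ hbW hb1
        · rw [map_mul, h.f_wb, hfz]; exact hconj₂ _ (mul_mem hbW hzW₂') hbz1
      big := by
        intro h1
        apply not_two_group hN₁
        apply h1.to_le
        intro x hx
        exact mem_centralizer_singleton_iff.2 (hcen₁ x hx) }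
  exact c_not_mem C hZ

end Cfsg.Agent.ZN.EndTransfer
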