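import Cfsg.Agent.ZN.Defs
import Cfsg.Agent.ZN.StrDefs
import Cfsg.Agent.Lib.LocalCore

/-!
# ZN-groups (S0518): basic facts

* transport of `o2`, `zc`, `jj`, `zj`, `bau`, `zl`, `rl`, `vl`, `IsBlk`, `StrData` along injective
  homomorphisms, of `Ctx` along isomorphisms (in particular conjugations);
* elementary facts on `o2`, `zc`, `jj`, `zj`, `bau`.
-/

set_option autoImplicit false

namespace Cfsg.Agent.ZN

open Subgroup Cfsg
open Cfsg.Agent.PLocal.ThompsonJ Cfsg.Agent.Lib

universe u v

/-! ### Transport -/

section Map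

variable {K : Type v} {G : Type u} [Group K] [Group G]

theorem centralizer_map_inf (f : K →* G) (hf : Function.Injective f) (A B : Subgroup K) :
    A.map f ⊓ centralizer (B.map f : Set G) = (A ⊓ centralizer (B : Set K)).map f := by
  ext x
  constructor
  · rintro ⟨⟨a, ha, rfl⟩, hx⟩
    refine ⟨a, ⟨ha, mem_centralizer_iff.2 ?_⟩, rfl⟩
    have hx' := mem_centralizer_iff.1 hx
    intro b hb
    apply hf
    rw [map_mul, map_mul]
    exact hx' (f b) ⟨b, hb, rfl⟩
  · rintro ⟨a, ⟨ha, hx⟩, rfl⟩
    refine ⟨⟨a, ha, rfl⟩, mem_centralizer_iff.2 ?_⟩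
    have hx' := mem_centralizer_iff.1 hx
    rintro _ ⟨b, hb, rfl⟩
    rw [← map_mul, ← map_mul, hx' b hb]

theorem le_centralizer_map_iff (f : K →* G) (hf : Function.Injective f) (A B : Subgroup K) :
    A.map f ≤ centralizer (B.map f : Set G) ↔ A ≤ centralizer (B : Set K) := by
  rw [← inf_eq_left, centralizer_map_inf f hf, (map_injective hf).eq_iff, inf_eq_left]

theorem normalizer_map_inf (f : K →* G) (hf : Function.Injective f) (A B : Subgroup K) :
    A.map f ⊓ normalizer (B.map f : Set G) = (A ⊓ normalizer (B : Set K)).map f := by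
  ext x
  constructor
  · rintro ⟨⟨a, ha, rfl⟩, hx⟩
    refine ⟨a, ⟨ha, mem_normalizer_iff.2 ?_⟩, rfl⟩
    have hx' := mem_normalizer_iff.1 hx
    intro b
    have := hx' (f b)
    rw [← map_inv, ← map_mul, ← map_mul, mem_map_iff_mem hf, mem_map_iff_mem hf] at this
    exact this
  · rintro ⟨a, ⟨ha, hx⟩, rfl⟩
    refine ⟨⟨a, ha, rfl⟩, ?_⟩
    exact le_normalizer_map f ⟨a, hx, rfl⟩

theorem le_normalizer_map_iff (f : K →* G) (hf : Function.Injective f) (A B : Subgroup K) :
    A.map f ≤ normalizer (B.map f : Set G) ↔ A ≤ normalizer (B : Set K) := by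
  rw [← inf_eq_left, normalizer_map_inf f hf, (map_injective hf).eq_iff, inf_eq_left]

theorem pCore_map_equiv (p : ℕ) {A : Type v} {B : Type u} [Group A] [Group B] (e : A ≃* B) :
    (pCore p A).map e.toMonoidHom = pCore p B := by
  apply le_antisymm
  · refine Cores.le_pCore (Subgroup.Normal.map (Cores.pCore_normal p) _ e.surjective)
      ((Cores.pCore_isPGroup p).map _)
  · have h : (pCore p B).comap e.toMonoidHom ≤ pCore p A := by
      refine Cores.le_pCore ((Cores.pCore_normal p).comap _) ?_
      exact (Cores.pCore_isPGroup p).comap_of_injective _ e.injective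
    calc pCore p B = ((pCore p B).comap e.toMonoidHom).map e.toMonoidHom :=
          (map_comap_eq_self_of_surjective e.surjective _).symm
      _ ≤ _ := Subgroup.map_mono h

theorem o2_map (f : K →* G) (hf : Function.Injective f) (L : Subgroup K) :
    o2 (L.map f) = (o2 L).map f := by
  rw [o2, o2, ← pCore_map_equiv 2 (L.equivMapOfInjective f hf), Subgroup.map_map,
    Subgroup.map_map]
  rfl

theorem omegaOne_map (p : ℕ) (f : K →* G) (hf : Function.Injective f) (L : Subgroup K) :
    omegaOne p (L.map f) = (omegaOne p L).map f := by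
  rw [omegaOne, omegaOne, MonoidHom.map_closure]
  congr 1
  ext x
  constructor
  · rintro ⟨⟨a, ha, rfl⟩, hx⟩
    refine ⟨a, ⟨ha, ?_⟩, rfl⟩
    apply hf
    rw [map_pow, hx, map_one]
  · rintro ⟨a, ⟨ha, hx⟩, rfl⟩
    exact ⟨⟨a, ha, rfl⟩, by rw [← map_pow, hx, map_one]⟩

theorem zc_map (f : K →* G) (hf : Function.Injective f) (B : Subgroup K) :
    zc (B.map f) = (zc B).map f := by
  rw [zc, zc, centralizer_map_inf f hf, omegaOne_map 2 f hf]

theorem zj_eq_zc (T : Subgroup G) : zj T = zc (jj T) := rfl

end Map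

section MapSame

/-! The Thompson subgroup of the library is defined with a universe-monomorphic
`maxElementaryAbelianSubgroups`, but the transport below is universe polymorphic. -/

variable {K : Type v} {G : Type u} [Group K] [Group G]

theorem map_max_equiv (p : ℕ) (e : K ≃* G) {A : Subgroup K}
    (hA : A ∈ maxElementaryAbelianSubgroups p K) :
    A.map e.toMonoidHom ∈ maxElementaryAbelianSubgroups p G := by
  refine ⟨isElementaryAbelian_map hA.1 _, fun B hB => ?_⟩
  have h1 := hA.2 (B.comap e.toMonoidHom) (isElementaryAbelian_comap hB e.injective)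
  have h2 : (B.comap e.toMonoidHom).map e.toMonoidHom = B :=
    Subgroup.map_comap_eq_self_of_surjective e.surjective B
  rw [card_map_injective (f := e.toMonoidHom) _ e.injective]
  rw [← card_map_injective (f := e.toMonoidHom) (B.comap e.toMonoidHom) e.injective, h2] at h1
  exact h1

theorem thompsonSubgroup_map_equiv (p : ℕ) (e : K ≃* G) :
    (thompsonSubgroup p K).map e.toMonoidHom = thompsonSubgroup p G := by
  apply le_antisymm
  · rw [Subgroup.map_le_iff_le_comap]
    refine thompsonSubgroup_le fun A hA => ?_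
    rw [← Subgroup.map_le_iff_le_comap]
    exact le_thompsonSubgroup (map_max_equiv p e hA)
  · refine thompsonSubgroup_le fun B hB => ?_
    have h2 : (B.comap e.toMonoidHom).map e.toMonoidHom = B :=
      Subgroup.map_comap_eq_self_of_surjective e.surjective B
    rw [← h2]
    refine Subgroup.map_mono (le_thompsonSubgroup ?_)
    have h3 := map_max_equiv p e.symm hB
    have h4 : B.map e.symm.toMonoidHom = B.comap e.toMonoidHom :=
      Subgroup.map_equiv_eq_comap_symm' e.symm B
    rwa [h4] at h3

theorem jj_map (f : K →* G) (hf : Function.Injective f) (T : Subgroup K) :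
    jj (T.map f) = (jj T).map f := by
  rw [jj, jj, thompsonSubgroupOf_def, thompsonSubgroupOf_def,
    ← thompsonSubgroup_map_equiv 2 (T.equivMapOfInjective f hf), Subgroup.map_map,
    Subgroup.map_map]
  rfl

theorem zj_map (f : K →* G) (hf : Function.Injective f) (T : Subgroup K) :
    zj (T.map f) = (zj T).map f := by
  rw [zj_eq_zc, zj_eq_zc, jj_map f hf, zc_map f hf]

theorem bau_map (f : K →* G) (hf : Function.Injective f) (T : Subgroup K) :
    bau (T.map f) = (bau T).map f := by
  rw [bau, bau, zj_map f hf, centralizer_map_inf f hf]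

theorem zl_map (f : K →* G) (hf : Function.Injective f) (B L : Subgroup K) :
    zl (B.map f) (L.map f) = (zl B L).map f := by
  rw [zl, zl, Subgroup.map_iSup, zc_map f hf]
  have key : ∀ g : K, ((zc B).map f).map (MulAut.conj (f g)).toMonoidHom =
      ((zc B).map (MulAut.conj g).toMonoidHom).map f := by
    intro g
    rw [Subgroup.map_map, Subgroup.map_map]
    congr 1
    ext x
    simp
  apply le_antisymm
  · refine iSup_le ?_
    rintro ⟨_, g, hg, rfl⟩
    refine le_trans (le_of_eq (key g)) ?_
    exact le_iSup (fun g : L => ((zc B).map (MulAut.conj (g : K)).toMonoidHom).map f) ⟨g, hg⟩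
  · refine iSup_le ?_
    rintro ⟨g, hg⟩
    refine le_trans (le_of_eq (key g).symm) ?_
    exact le_iSup (fun g : L.map f => ((zc B).map f).map (MulAut.conj (g : G)).toMonoidHom)
      ⟨f g, g, hg, rfl⟩

theorem rl_map (f : K →* G) (hf : Function.Injective f) (B L : Subgroup K) :
    rl (B.map f) (L.map f) = (rl B L).map f := by
  rw [rl, rl, zc_map f hf, centralizer_map_inf f hf]

theorem vl_map (f : K →* G) (hf : Function.Injective f) (B L : Subgroup K) :
    vl (B.map f) (L.map f) = (vl B L).map f := by
  rw [vl, vl, zl_map f hf, map_commutator]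

theorem IsBlk.map {B L : Subgroup K} (h : IsBlk B L) (f : K →* G) (hf : Function.Injective f) :
    IsBlk (B.map f) (L.map f) where
  le := Subgroup.map_mono h.le
  two := h.two.map f
  index := by rw [relIndex_map_map_of_injective _ _ hf, h.index]
  o2_le := by rw [o2_map f hf]; exact Subgroup.map_mono h.o2_le
  o2_index := by rw [o2_map f hf, relIndex_map_map_of_injective _ _ hf, h.o2_index]
  self_cent := by
    rw [o2_map f hf, centralizer_map_inf f hf]
    exact Subgroup.map_mono h.self_cent
  zl_comm := by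
    rw [zl_map f hf]
    rintro _ ⟨x, hx, rfl⟩ _ ⟨y, hy, rfl⟩
    rw [← map_mul, ← map_mul, h.zl_comm x hx y hy]
  zl_sq := by
    rw [zl_map f hf]
    rintro _ ⟨x, hx, rfl⟩
    rw [← map_pow, h.zl_sq x hx, map_one]
  cent_zl := by rw [zl_map f hf, o2_map f hf, centralizer_map_inf f hf, h.cent_zl]
  rl_index := by rw [zc_map f hf, rl_map f hf, relIndex_map_map_of_injective _ _ hf, h.rl_index]
  card_vl := by rw [vl_map f hf, card_map_of_injective hf, h.card_vl]
  sup_eq := by rw [vl_map f hf, zl_map f hf, rl_map f hf, ← Subgroup.map_sup, h.sup_eq]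
  disj := by rw [vl_map f hf, rl_map f hf, ← Subgroup.map_inf _ _ _ hf, h.disj, Subgroup.map_bot]
  jj_o2_le := by rw [o2_map f hf, jj_map f hf, jj_map f hf]; exact Subgroup.map_mono h.jj_o2_le
  not_jj_le := by
    rw [o2_map f hf, jj_map f hf, Subgroup.map_le_map_iff_of_injective hf]
    exact h.not_jj_le

theorem isBlk_map_iff (f : K →* G) (hf : Function.Injective f) {B L : Subgroup K} :
    IsBlk (B.map f) (L.map f) ↔ IsBlk B L := by
  refine ⟨fun h => ?_, fun h => h.map f hf⟩
  refine ⟨?_, ?_, ?_, ?_, ?_, ?_, ?_, ?_, ?_, ?_, ?_, ?_, ?_, ?_, ?_⟩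
  · exact (Subgroup.map_le_map_iff_of_injective hf).1 h.le
  · exact h.two.of_equiv (B.equivMapOfInjective f hf).symm
  · have := h.index
    rwa [relIndex_map_map_of_injective _ _ hf] at this
  · have := h.o2_le
    rwa [o2_map f hf, Subgroup.map_le_map_iff_of_injective hf] at this
  · have := h.o2_index
    rwa [o2_map f hf, relIndex_map_map_of_injective _ _ hf] at this
  · have := h.self_cent
    rwa [o2_map f hf, centralizer_map_inf f hf, Subgroup.map_le_map_iff_of_injective hf] at this
  · intro x hx y hy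
    apply hf
    rw [map_mul, map_mul]
    have := h.zl_comm
    rw [zl_map f hf] at this
    exact this _ ⟨x, hx, rfl⟩ _ ⟨y, hy, rfl⟩
  · intro x hx
    apply hf
    rw [map_pow, map_one]
    have := h.zl_sq
    rw [zl_map f hf] at this
    exact this _ ⟨x, hx, rfl⟩
  · have := h.cent_zl
    rwa [zl_map f hf, o2_map f hf, centralizer_map_inf f hf, (map_injective hf).eq_iff] at this
  · have := h.rl_index
    rwa [zc_map f hf, rl_map f hf, relIndex_map_map_of_injective _ _ hf] at this
  · have := h.card_vl
    rwa [vl_map f hf, card_map_of_injective hf] at this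
  · have := h.sup_eq
    rwa [vl_map f hf, zl_map f hf, rl_map f hf, ← Subgroup.map_sup,
      (map_injective hf).eq_iff] at this
  · have := h.disj
    rwa [vl_map f hf, rl_map f hf, ← Subgroup.map_inf _ _ _ hf,
      (map_eq_bot_iff_of_injective _ hf)] at this
  · have := h.jj_o2_le
    rwa [o2_map f hf, jj_map f hf, jj_map f hf, Subgroup.map_le_map_iff_of_injective hf] at this
  · have := h.not_jj_le
    rwa [o2_map f hf, jj_map f hf, Subgroup.map_le_map_iff_of_injective hf] at this

theorem sSup_image_map (f : K →* G) (𝓛 : Set (Subgroup K)) :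
    sSup ((Subgroup.map f) '' 𝓛) = (sSup 𝓛).map f := by
  rw [sSup_image, sSup_eq_iSup, Subgroup.map_iSup]
  congr 1
  ext1 L
  rw [Subgroup.map_iSup]

theorem StrData.map {X B : Subgroup K} {𝓛 : Set (Subgroup K)} (h : StrData X B 𝓛) (f : K →* G)
    (hf : Function.Injective f) : StrData (X.map f) (B.map f) ((Subgroup.map f) '' 𝓛) where
  blk := by
    rintro _ ⟨L, hL, rfl⟩
    exact (h.blk L hL).map f hf
  le := by
    rintro _ ⟨L, hL, rfl⟩
    exact Subgroup.map_mono (h.le L hL)
  ne := h.ne.image _
  norm := by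
    rw [sSup_image_map, le_normalizer_map_iff f hf]
    exact h.norm
  gen := by
    rw [sSup_image_map, normalizer_map_inf f hf, ← Subgroup.map_sup]
    exact Subgroup.map_mono h.gen
  inter := by
    rintro _ ⟨L, hL, rfl⟩ _ ⟨L', hL', rfl⟩
    rw [o2_map f hf, o2_map f hf, ← Subgroup.map_inf _ _ _ hf, le_normalizer_map_iff f hf]
    exact h.inter L hL L' hL'
  all := by
    intro L hBL hLX hi hn
    have hr : (L.comap f).map f = L := by
      rw [Subgroup.map_comap_eq, inf_eq_right]
      exact hLX.trans (Subgroup.map_le_range f X)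
    rw [← hr] at hBL hLX hi hn ⊢
    rw [Subgroup.map_le_map_iff_of_injective hf] at hBL hLX
    rw [relIndex_map_map_of_injective _ _ hf] at hi
    rw [le_normalizer_map_iff f hf] at hn
    exact ⟨_, h.all _ hBL hLX hi hn, rfl⟩
  inj := by
    rintro _ ⟨L, hL, rfl⟩ _ ⟨L', hL', rfl⟩ he
    rw [o2_map f hf, o2_map f hf, (map_injective hf).eq_iff] at he
    rw [h.inj L hL L' hL' he]
  card := by
    rw [sSup_image_map, zc_map f hf, centralizer_map_inf f hf, card_map_of_injective hf,
      card_map_of_injective hf, Set.ncard_image_of_injective _ (map_injective hf)]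
    exact h.card

theorem isTwoLocal_map_equiv (e : K ≃* G) {X : Subgroup K} (hX : IsTwoLocal X) :
    IsTwoLocal (X.map e.toMonoidHom) := by
  obtain ⟨T, hT, hT1, rfl⟩ := hX
  refine ⟨T.map e.toMonoidHom, hT.map _, ?_, ?_⟩
  · intro h
    exact hT1 ((map_eq_bot_iff_of_injective _ e.injective).1 h)
  · exact map_equiv_normalizer_eq T e

theorem map_symm_map (e : K ≃* G) (X : Subgroup G) :
    (X.map e.symm.toMonoidHom).map e.toMonoidHom = X := by
  rw [Subgroup.map_map]
  conv_rhs => rw [← Subgroup.map_id X]
  congr 1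
  ext x
  simp

theorem Ctx.map {N B P Q : Subgroup K} (h : Ctx N B P Q) (e : K ≃* G) :
    Ctx (N.map e.toMonoidHom) (B.map e.toMonoidHom) (P.map e.toMonoidHom)
      (Q.map e.toMonoidHom) where
  blkP := h.blkP.map _ e.injective
  blkQ := h.blkQ.map _ e.injective
  core := by
    intro U hU hP hQ
    rw [← map_symm_map e U] at hU hP hQ
    have hinj : Function.Injective e.toMonoidHom := e.injective
    rw [Subgroup.map_le_map_iff_of_injective hinj] at hU
    rw [le_normalizer_map_iff _ hinj] at hP hQ
    rw [← map_symm_map e U, h.core _ hU hP hQ, Subgroup.map_bot]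
  notP := by
    rw [Subgroup.map_le_map_iff_of_injective (f := e.toMonoidHom) e.injective]
    exact h.notP
  notQ := by
    rw [Subgroup.map_le_map_iff_of_injective (f := e.toMonoidHom) e.injective]
    exact h.notQ
  str := by
    intro X hX hBX hXN
    have hinj : Function.Injective e.toMonoidHom := e.injective
    have hX' := isTwoLocal_map_equiv e.symm hX
    rw [← map_symm_map e X] at hBX hXN
    rw [Subgroup.map_le_map_iff_of_injective hinj] at hBX hXN
    obtain ⟨⟨𝓛, h𝓛⟩, hT⟩ := h.str _ hX' hBX hXN
    refine ⟨⟨(Subgroup.map e.toMonoidHom) '' 𝓛, ?_⟩, ?_⟩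
    · have := h𝓛.map e.toMonoidHom hinj
      rwa [map_symm_map] at this
    · intro T hT2 hBT hTX
      have h1 := hT (T.map e.symm.toMonoidHom) (hT2.map _)
      rw [← map_symm_map e T] at hBT
      rw [Subgroup.map_le_map_iff_of_injective hinj] at hBT
      have h2 := h1 hBT (Subgroup.map_mono hTX)
      rw [← map_symm_map e T, zc_map _ hinj, centralizer_map_inf _ hinj, h2]
  alt := by
    have hinj : Function.Injective e.toMonoidHom := e.injective
    rcases h.alt with h1 | ⟨x, hx, hxB, hxn, hp⟩
    · left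
      rw [jj_map _ hinj, le_normalizer_map_iff _ hinj]
      exact h1
    · right
      refine ⟨e x, ⟨x, hx, rfl⟩, ?_, ?_, ?_⟩
      · intro h'
        exact hxB ((mem_map_iff_mem hinj).1 h')
      · exact Subgroup.le_normalizer_map e.toMonoidHom ⟨x, hxn, rfl⟩
      · have h2 : B.map e.toMonoidHom ⊔ zpowers (e x) =
            (B ⊔ zpowers x).map e.toMonoidHom := by
          rw [Subgroup.map_sup, MonoidHom.map_zpowers]
          rfl
        rw [h2]
        exact hp.map _

theorem Ctx.conj {N B P Q : Subgroup G} (h : Ctx N B P Q) (g : G) :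
    Ctx (N.map (MulAut.conj g).toMonoidHom) (B.map (MulAut.conj g).toMonoidHom)
      (P.map (MulAut.conj g).toMonoidHom) (Q.map (MulAut.conj g).toMonoidHom) :=
  h.map (MulAut.conj g)

theorem Ctx.symm {N B P Q : Subgroup G} (h : Ctx N B P Q) : Ctx N B Q P where
  blkP := h.blkQ
  blkQ := h.blkP
  core := fun U h1 h2 h3 => h.core U h1 h3 h2
  notP := h.notQ
  notQ := h.notP
  str := h.str
  alt := h.alt

end MapSame

end Cfsg.Agent.ZN
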