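import Cfsg.Agent.ZN.SecondCore
import Cfsg.Agent.Lib.NormalAbelian

/-!
# S0518, [B], the SECOND case of the amalgam analysis is impossible
-/

set_option autoImplicit false

namespace Cfsg.Agent.ZN.AmalgamSecond

open Subgroup Cfsg Cfsg.Agent.ZN Cfsg.Agent.ZN.SecondBasic Cfsg.Agent.ZN.SecondCore
open scoped commutatorElement

universe u

variable {G : Type u} [Group G]

/-! ### centralizers of involutions as 2-local subgroups -/

theorem mem_zpowers_iff_of_sq {f x : G} (hf : f * f = 1) : x ∈ zpowers f ↔ x = 1 ∨ x = f := by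
  constructor
  · intro hx
    obtain ⟨n, rfl⟩ := mem_zpowers_iff.1 hx
    rcases Int.even_or_odd' n with ⟨m, rfl | rfl⟩
    · left
      rw [zpow_mul, zpow_two, hf, one_zpow]
    · right
      rw [zpow_add, zpow_mul, zpow_two, hf, one_zpow, one_mul, zpow_one]
  · rintro (rfl | rfl)
    · exact one_mem _
    · exact mem_zpowers x

theorem mem_normalizer_zpowers {f g : G} (hf : f * f = 1) (hf1 : f ≠ 1) :
    g ∈ normalizer ((zpowers f : Subgroup G) : Set G) ↔ g * f = f * g := by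
  rw [mem_normalizer_iff]
  constructor
  · intro h
    have h1 := (h f).1 (mem_zpowers f)
    rcases (mem_zpowers_iff_of_sq hf).1 h1 with h2 | h2
    · exfalso
      apply hf1
      calc f = g⁻¹ * (g * f * g⁻¹) * g := by group
        _ = 1 := by rw [h2]; group
    · calc g * f = (g * f * g⁻¹) * g := by group
        _ = f * g := by rw [h2]
  · intro h x
    rw [mem_zpowers_iff_of_sq hf, mem_zpowers_iff_of_sq hf]
    constructor
    · rintro (rfl | rfl)
      · left; group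
      · right; rw [h]; group
    · rintro (h1 | h1)
      · left
        calc x = g⁻¹ * (g * x * g⁻¹) * g := by group
          _ = 1 := by rw [h1]; group
      · right
        calc x = g⁻¹ * (g * x * g⁻¹) * g := by group
          _ = g⁻¹ * (f * g) := by rw [h1]; group
          _ = f := by rw [← h]; group

theorem isPGroup_zpowers {f : G} (hf : f * f = 1) : IsPGroup 2 (zpowers f) := by
  intro x
  refine ⟨1, ?_⟩
  rw [pow_one]
  apply Subtype.ext
  rcases (mem_zpowers_iff_of_sq hf).1 x.2 with h | h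
  · rw [Subgroup.coe_pow, h, one_pow, Subgroup.coe_one]
  · rw [Subgroup.coe_pow, h, pow_two, hf, Subgroup.coe_one]

theorem isTwoLocal_normalizer_zpowers {f : G} (hf : f * f = 1) (hf1 : f ≠ 1) :
    IsTwoLocal (normalizer ((zpowers f : Subgroup G) : Set G)) :=
  ⟨zpowers f, isPGroup_zpowers hf, fun h => hf1 (zpowers_eq_bot.1 h), rfl⟩

theorem mem_centralizer_single {f g : G} (h : g * f = f * g) : g ∈ centralizer ({f} : Set G) := by
  rw [mem_centralizer_iff]
  intro x hx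
  rw [Set.mem_singleton_iff] at hx
  rw [hx, h]

variable {N B P Q : Subgroup G}

theorem sec_of_ctx (h : Ctx N B P Q) (h1 : zl B Q ≤ o2 P) (h2 : zl B P ≤ o2 Q)
    (hU : P ≤ normalizer ((zl B P ⊔ zl B Q : Subgroup G) : Set G)) : Sec B P Q :=
  ⟨h.blkP, h.blkQ, h.core, h1, h2, hU⟩

/-- If `f ∈ zc B` is an involution with `C_G(f) ≰ N` then `C_G(f)` has a single block. -/
theorem exists_single [Finite G] (h : Ctx N B P Q) (hc : Nat.card (zc B) = 4) {f : G}
    (hf : f ∈ zc B) (hf1 : f ≠ 1) (hN : ¬ normalizer ((zpowers f : Subgroup G) : Set G) ≤ N) :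
    ∃ k, StrData (normalizer ((zpowers f : Subgroup G) : Set G)) B {k} := by
  have hff := (mem_zc_iff.1 hf).2.1
  set X := normalizer ((zpowers f : Subgroup G) : Set G) with hX
  have hBX : B ≤ X := fun b hb =>
    (mem_normalizer_zpowers hff hf1).2 ((mem_zc_iff.1 hf).2.2 b hb)
  obtain ⟨⟨𝓛, hL⟩, -⟩ := h.str X (isTwoLocal_normalizer_zpowers hff hf1) hBX hN
  have h1 : f ∈ zc B ⊓ centralizer ((sSup 𝓛 : Subgroup G) : Set G) := by
    refine ⟨hf, mem_centralizer_iff.2 fun g hg => ?_⟩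
    have h2 : sSup 𝓛 ≤ X := sSup_le hL.le
    exact (mem_normalizer_zpowers hff hf1).1 (h2 hg)
  have h2 : 2 ≤ Nat.card ↥(zc B ⊓ centralizer ((sSup 𝓛 : Subgroup G) : Set G)) := by
    have : Nontrivial ↥(zc B ⊓ centralizer ((sSup 𝓛 : Subgroup G) : Set G)) :=
      ⟨⟨⟨f, h1⟩, 1, fun h3 => hf1 (congrArg Subtype.val h3)⟩⟩
    exact Finite.one_lt_card
  have h3 := hL.card
  rw [hc] at h3
  have h4 : 𝓛.ncard ≠ 0 := by
    rw [Ne, Set.ncard_eq_zero (Set.toFinite _)]
    exact hL.ne.ne_empty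
  have h5 : 𝓛.ncard = 1 := by
    by_contra h6
    have h7 : 2 ≤ 𝓛.ncard := by omega
    have h8 : 2 ^ 2 ≤ 2 ^ 𝓛.ncard := Nat.pow_le_pow_right (by norm_num) h7
    nlinarith
  obtain ⟨k, hk⟩ := Set.ncard_eq_one.1 h5
  exact ⟨k, hk ▸ hL⟩

/-- Case (i): `C_G(rs) ≰ N`. -/
theorem case_i [Finite G] (h : Ctx N B P Q) (hs : Sec B P Q) {r s : G} (g : Gens B P Q r s)
    (hN : ¬ normalizer ((zpowers (r * s) : Subgroup G) : Set G) ≤ N) : False := by
  have hrs1 : r * s ≠ 1 := by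
    intro h1
    apply s_notP hs g
    have h2 : s = r⁻¹ := eq_inv_of_mul_eq_one_right h1
    rw [h2]
    exact inv_mem g.r_mem
  have hrsz : r * s ∈ zc B := mul_mem (r_zc g) (s_zc g)
  have hrs2 := (mem_zc_iff.1 hrsz).2.1
  obtain ⟨k, hL⟩ := exists_single h (card_zc hs g) hrsz hrs1 hN
  set X := normalizer ((zpowers (r * s) : Subgroup G) : Set G) with hX
  have hk : IsBlk B k := hL.blk k rfl
  have hkn : X ≤ normalizer (k : Set G) := by
    have := hL.norm
    rwa [sSup_singleton] at this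
  obtain ⟨q, hq, hqB⟩ := exists_not_mem_B hs.blkQ
  have hqi : q⁻¹ ∈ Q := inv_mem hq
  have hqiB : q⁻¹ ∉ B := fun h1 => hqB (by simpa using inv_mem h1)
  obtain ⟨n, hn, hnB, hny⟩ := exists_n hs g hqi hqiB
  rw [inv_inv] at hny
  obtain ⟨t, htQ, htP⟩ := not_o2_le' hs
  have htB := hs.blkQ.o2_le htQ
  -- `s` is centralized by `Q`
  have hsQ : ∀ x ∈ Q, x * s = s * x := (mem_rl_iff.1 g.s_mem).2
  -- `x = q n q⁻¹ ∈ X`
  have hx : q * n * q⁻¹ ∈ X := by
    rw [hX, mem_normalizer_zpowers hrs2 hrs1]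
    have h1 : q * (q⁻¹ * r * q * s) * q⁻¹ = r * s := by
      have := hsQ q⁻¹ hqi
      calc q * (q⁻¹ * r * q * s) * q⁻¹ = r * q * (s * q⁻¹) := by group
        _ = r * q * (q⁻¹ * s) := by rw [this]
        _ = r * s := by group
    calc q * n * q⁻¹ * (r * s) = q * n * q⁻¹ * (q * (q⁻¹ * r * q * s) * q⁻¹) := by rw [h1]
      _ = q * (n * (q⁻¹ * r * q * s) * n⁻¹) * n * q⁻¹ := by group
      _ = q * (q⁻¹ * r * q * s) * n * q⁻¹ := by rw [hny]
      _ = q * (q⁻¹ * r * q * s) * q⁻¹ * (q * n * q⁻¹) := by group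
      _ = r * s * (q * n * q⁻¹) := by rw [h1]
  -- `t' = q t q⁻¹ ∈ B ≤ k`
  have ht'B : q * t * q⁻¹ ∈ B := hs.blkQ.o2_le (conj_o2_mem hq htQ)
  have ht'k : q * t * q⁻¹ ∈ k := hk.le ht'B
  have htx : (q * n * q⁻¹) * (q * t * q⁻¹) * (q * n * q⁻¹)⁻¹ ∈ k :=
    conj_mem_of_le_normalizer hkn hx ht'k
  have htx' : q * (n * t * n⁻¹) * q⁻¹ ∈ k := by
    have h1 : q * (n * t * n⁻¹) * q⁻¹ = (q * n * q⁻¹) * (q * t * q⁻¹) * (q * n * q⁻¹)⁻¹ := by group
    rw [h1]; exact htx
  set t2 := n * t * n⁻¹ with ht2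
  have ht2P : t2 ∈ P := mul_mem (mul_mem hn (hs.blkP.le htB)) (inv_mem hn)
  -- `e = [s, t2]`
  set e := s * t2 * s⁻¹ * t2⁻¹ with he
  have heP : e ∈ vl B P := comm_mem_vl (zc_le_zl B P (s_zc g)) ht2P
  have hek : q * e * q⁻¹ ∈ vl B k := by
    have h1 := comm_mem_vl (zc_le_zl B k (s_zc g)) htx'
    have h2 : q * e * q⁻¹ = s * (q * t2 * q⁻¹) * s⁻¹ * (q * t2 * q⁻¹)⁻¹ := by
      have h3 := hsQ q hq
      have h4 : q * s⁻¹ = s⁻¹ * q := by
        calc q * s⁻¹ = s⁻¹ * (s * q) * s⁻¹ := by group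
          _ = s⁻¹ * (q * s) * s⁻¹ := by rw [h3]
          _ = s⁻¹ * q := by group
      rw [he]
      calc q * (s * t2 * s⁻¹ * t2⁻¹) * q⁻¹ = (q * s) * t2 * s⁻¹ * t2⁻¹ * q⁻¹ := by group
        _ = s * q * t2 * s⁻¹ * t2⁻¹ * q⁻¹ := by rw [h3]
        _ = s * q * t2 * q⁻¹ * (q * s⁻¹) * t2⁻¹ * q⁻¹ := by group
        _ = s * q * t2 * q⁻¹ * (s⁻¹ * q) * t2⁻¹ * q⁻¹ := by rw [h4]
        _ = s * (q * t2 * q⁻¹) * s⁻¹ * (q * t2 * q⁻¹)⁻¹ := by group
    rw [h2]; exact h1
  have ht2B : t2 ∉ B := conj_not_mem hs.blkP hn hnB htB htP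
  have he1 : e ≠ 1 := by
    intro h1
    apply s_notP hs g
    refine mem_rl_of_comm hs.blkP (zc_le_zl B P (s_zc g)) ?_
    refine le_of_mem hs.blkP (K := centralizer {s}) ?_ ht2P ht2B ?_
    · intro b hb
      rw [mem_centralizer_iff]
      rintro x (rfl : x = s)
      exact ((mem_zc_iff.1 (s_zc g)).2.2 b hb).symm
    · rw [mem_centralizer_iff]
      rintro x (rfl : x = s)
      calc x * t2 = (x * t2 * x⁻¹ * t2⁻¹) * (t2 * x) := by group
        _ = t2 * x := by rw [← he, h1, one_mul]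
  have hel : e ∈ zl B P := vl_le_zl B P heP
  -- `t` moves `e`
  have het : t * e * t⁻¹ ≠ e := by
    intro h1
    apply he1
    refine eq_one_of_mem_rl_vl hs.blkP (mem_rl_of_comm hs.blkP hel ?_) heP
    refine le_of_conj_mem' hs.blkP (K := centralizer {e}) hn hnB htB htP ?_ ?_ ?_
    · intro b hb
      exact mem_centralizer_single (comm_of_mem_o2 hs.blkP hb hel)
    · refine mem_centralizer_single ?_
      calc t * e = (t * e * t⁻¹) * t := by group
        _ = e * t := by rw [h1]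
    · refine mem_centralizer_single ?_
      have hsl : s ∈ zl B P := zc_le_zl B P (s_zc g)
      have hst : t2 * s * t2⁻¹ ∈ zl B P := conj_zl_mem ht2P hsl
      have htt : t2 * t2 ∈ o2 P := by
        have h2 : t2 * t2 = n * (t * t) * n⁻¹ := by rw [ht2]; group
        rw [h2]
        exact conj_o2_mem hn (mul_mem_o2 hs.blkP htB htB htP htP)
      have h2 := comm_of_mem_o2 hs.blkP htt hsl
      have h3 : e = s * (t2 * s * t2⁻¹) := by
        rw [he, inv_zl hs.blkP hsl]; group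
      have h4 := hs.blkP.zl_comm _ hsl _ hst
      change t2 * e = e * t2
      rw [h3]
      calc t2 * (s * (t2 * s * t2⁻¹)) = (t2 * s * t2⁻¹) * ((t2 * t2) * s) * t2⁻¹ := by group
        _ = (t2 * s * t2⁻¹) * (s * (t2 * t2)) * t2⁻¹ := by rw [h2]
        _ = ((t2 * s * t2⁻¹) * s) * t2 := by group
        _ = s * (t2 * s * t2⁻¹) * t2 := by rw [← h4]
  -- hence `(vl B P)^(q⁻¹) ≤ vl B k`
  set W := vl B P ⊓ (vl B k).comap (MulAut.conj q).toMonoidHom with hW
  have heW : e ∈ W := mem_inf.2 ⟨heP, mem_comap.2 (by simpa using hek)⟩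
  have hetW : t * e * t⁻¹ ∈ W := by
    refine mem_inf.2 ⟨conj_vl_mem (hs.blkP.le htB) heP, ?_⟩
    rw [mem_comap]
    have h1 : (MulAut.conj q).toMonoidHom (t * e * t⁻¹) =
        (q * t * q⁻¹) * (q * e * q⁻¹) * (q * t * q⁻¹)⁻¹ := by
      simp [mul_assoc]
    rw [h1]
    exact conj_vl_mem ht'k hek
  have hWcard : Nat.card W = 4 := by
    have h1 : Nat.card W ∣ 4 := by
      rw [← hs.blkP.card_vl]
      exact card_dvd_of_le inf_le_left
    have h2 : 3 ≤ Nat.card W := by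
      have h3 : Set.ncard ({1, e, t * e * t⁻¹} : Set G) = 3 := by
        have : t * e * t⁻¹ ≠ 1 := by
          intro h4
          apply he1
          calc e = t⁻¹ * (t * e * t⁻¹) * t := by group
            _ = 1 := by rw [h4]; group
        exact Set.ncard_eq_three.2 ⟨_, _, _, he1.symm, this.symm, het.symm, rfl⟩
      have h4 : ({1, e, t * e * t⁻¹} : Set G) ⊆ (W : Set G) := by
        rintro x (rfl | rfl | rfl)
        · exact one_mem _
        · exact heW
        · exact hetW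
      have h5 := Set.ncard_le_ncard h4 (Set.toFinite _)
      rw [h3] at h5
      exact h5
    have h3 : Nat.card W ≤ 4 := Nat.le_of_dvd (by norm_num) h1
    interval_cases h4 : Nat.card W
    · omega
    · rfl
  have hWeq : W = vl B P := eq_of_le_of_card_ge inf_le_left (by rw [hWcard, hs.blkP.card_vl])
  have hmap : (vl B P).map (MulAut.conj q).toMonoidHom = vl B k := by
    refine eq_of_le_of_card_ge ?_ ?_
    · rw [map_le_iff_le_comap]
      rw [← hWeq]
      exact inf_le_right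
    · rw [card_map_of_injective (MulAut.conj q).injective, hs.blkP.card_vl, hk.card_vl]
  -- so `vl B P` is normalized by `Q`
  have hQn : Q ≤ normalizer ((vl B P : Subgroup G) : Set G) := by
    refine le_of_conj_mem hs.blkQ hqi hqiB
      (hs.blkP.le.trans (le_normalizer_vl B P)) ?_
    intro b hb
    apply mem_normalizer_of_conj_mem
    intro x hx
    have h1 : q * x * q⁻¹ ∈ vl B k := by
      rw [← hmap]
      exact ⟨x, hx, by simp⟩
    have h2 : b * (q * x * q⁻¹) * b⁻¹ ∈ vl B k := conj_vl_mem (hk.le hb) h1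
    rw [← hmap] at h2
    obtain ⟨y, hy, hyx⟩ := h2
    have h3 : q * y * q⁻¹ = b * (q * x * q⁻¹) * b⁻¹ := by simpa using hyx
    have h4 : q⁻¹ * b * q⁻¹⁻¹ * x * (q⁻¹ * b * q⁻¹⁻¹)⁻¹ = y := by
      calc q⁻¹ * b * q⁻¹⁻¹ * x * (q⁻¹ * b * q⁻¹⁻¹)⁻¹ = q⁻¹ * (b * (q * x * q⁻¹) * b⁻¹) * q := by group
        _ = q⁻¹ * (q * y * q⁻¹) * q := by rw [h3]
        _ = y := by group
    rw [h4]
    exact hy
  have h1 := hs.core _ ((vl_le_zl B P).trans (zl_le_B hs.blkP)) (le_normalizer_vl B P) hQn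
  exact vl_ne_bot hs.blkP h1

/-! ### Case (ii), `N` normalizes `J(B)` -/

theorem normalizer_le_normalizer_jj [Finite G] (H : Subgroup G) :
    normalizer (H : Set G) ≤ normalizer ((jj H : Subgroup G) : Set G) := by
  intro x hx
  apply mem_normalizer_of_conj_mem
  intro y hy
  have h1 : H.map (MulAut.conj x).toMonoidHom = H := by
    apply eq_of_le_of_card_ge
    · rintro _ ⟨z, hz, rfl⟩
      have := (mem_normalizer_iff.1 hx z).1 hz
      simpa using this
    · rw [card_map_of_injective (MulAut.conj x).injective]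
  have h2 := Cfsg.Agent.PLocal.ThompsonJ.thompsonSubgroupOf_map_conj 2 x H
  rw [h1] at h2
  have h3 : x * y * x⁻¹ ∈ (thompsonSubgroupOf 2 H).map (MulAut.conj x).toMonoidHom :=
    ⟨y, hy, by simp⟩
  rw [← h2] at h3
  exact h3

/-- `J(D) = J(U)` if `J(U) ≤ D ≤ U`. -/
theorem jj_eq_of_le [Finite G] {D U : Subgroup G} (h1 : jj U ≤ D) (h2 : D ≤ U) : jj D = jj U := by
  have h3 : thompsonSubgroup 2 ↥U ≤ D.subgroupOf U := by
    intro x hx
    rw [mem_subgroupOf]
    exact h1 ⟨x, hx, rfl⟩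
  have h4 := Cfsg.Agent.PLocal.ThompsonJ.thompsonSubgroupOf_eq_of_le h3
  have h5 := Cfsg.Agent.PLocal.ThompsonJ.thompsonSubgroupOf_map 2 U.subtype_injective
    (D.subgroupOf U)
  rw [subgroupOf_map_subtype, inf_eq_left.2 h2, h4] at h5
  exact h5

theorem exists_q_n [Finite G] (hs : Sec B P Q) {r s : G} (g : Gens B P Q r s) :
    ∃ q ∈ Q, q ∉ B ∧ ∃ n ∈ P, n ∉ B ∧
      q * n * q⁻¹ ∈ normalizer ((zpowers (r * s) : Subgroup G) : Set G) := by
  have hrs1 : r * s ≠ 1 := by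
    intro h1
    apply s_notP hs g
    have h2 : s = r⁻¹ := eq_inv_of_mul_eq_one_right h1
    rw [h2]
    exact inv_mem g.r_mem
  have hrsz : r * s ∈ zc B := mul_mem (r_zc g) (s_zc g)
  have hrs2 := (mem_zc_iff.1 hrsz).2.1
  obtain ⟨q, hq, hqB⟩ := exists_not_mem_B hs.blkQ
  have hqi : q⁻¹ ∈ Q := inv_mem hq
  have hqiB : q⁻¹ ∉ B := fun h1 => hqB (by simpa using inv_mem h1)
  obtain ⟨n, hn, hnB, hny⟩ := exists_n hs g hqi hqiB
  rw [inv_inv] at hny
  have hsQ : ∀ x ∈ Q, x * s = s * x := (mem_rl_iff.1 g.s_mem).2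
  refine ⟨q, hq, hqB, n, hn, hnB, ?_⟩
  rw [mem_normalizer_zpowers hrs2 hrs1]
  have h1 : q * (q⁻¹ * r * q * s) * q⁻¹ = r * s := by
    have := hsQ q⁻¹ hqi
    calc q * (q⁻¹ * r * q * s) * q⁻¹ = r * q * (s * q⁻¹) := by group
      _ = r * q * (q⁻¹ * s) := by rw [this]
      _ = r * s := by group
  calc q * n * q⁻¹ * (r * s) = q * n * q⁻¹ * (q * (q⁻¹ * r * q * s) * q⁻¹) := by rw [h1]
    _ = q * (n * (q⁻¹ * r * q * s) * n⁻¹) * n * q⁻¹ := by group
    _ = q * (q⁻¹ * r * q * s) * n * q⁻¹ := by rw [hny]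
    _ = q * (q⁻¹ * r * q * s) * q⁻¹ * (q * n * q⁻¹) := by group
    _ = r * s * (q * n * q⁻¹) := by rw [h1]

theorem not_isPGroup [Finite G] (h : IsBlk B P) : ¬ IsPGroup 2 P := by
  intro hP
  have h1 := Cfsg.Agent.Lib.SylowNormalInf.card_mul_relIndex B P h.le
  rw [h.index] at h1
  obtain ⟨n, hn⟩ := IsPGroup.iff_card.1 hP
  have h2 : 3 ∣ 2 ^ n := by
    rw [← hn]
    exact ⟨_, by rw [mul_comm]; exact h1.symm⟩
  have h3 := (Nat.Prime.dvd_of_dvd_pow (by norm_num) h2 : 3 ∣ 2)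
  omega

theorem case_left [Finite G] (hs : Sec B P Q) {r s : G} (g : Gens B P Q r s)
    (hN : normalizer ((zpowers (r * s) : Subgroup G) : Set G) ≤ normalizer (jj B : Set G)) :
    False := by
  obtain ⟨q, hq, hqB, n, hn, hnB, hx⟩ := exists_q_n hs g
  have hjB : jj B ≤ B := Cfsg.Agent.PLocal.ThompsonJ.thompsonSubgroupOf_le_self 2 B
  have hjQ : jj (o2 Q) ≤ o2 Q := Cfsg.Agent.PLocal.ThompsonJ.thompsonSubgroupOf_le_self 2 _
  have hQj : Q ≤ normalizer ((jj (o2 Q) : Subgroup G) : Set G) :=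
    (le_normalizer_o2 Q).trans (normalizer_le_normalizer_jj _)
  have hle : jj (o2 Q) ≤ o2 P := by
    by_contra hc
    obtain ⟨t, ht, htP⟩ := SetLike.not_le_iff_exists.1 hc
    have htB : t ∈ B := hs.blkQ.o2_le (hjQ ht)
    have ht' : q * t * q⁻¹ ∈ jj (o2 Q) := conj_mem_of_le_normalizer hQj hq ht
    have ht'' : q * t * q⁻¹ ∈ jj B := hs.blkQ.jj_o2_le ht'
    have htx : (q * n * q⁻¹) * (q * t * q⁻¹) * (q * n * q⁻¹)⁻¹ ∈ jj B :=
      (mem_normalizer_iff.1 (hN hx) _).1 ht''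
    have htx' : q * (n * t * n⁻¹) * q⁻¹ ∈ jj B := by
      have h1 : q * (n * t * n⁻¹) * q⁻¹ = (q * n * q⁻¹) * (q * t * q⁻¹) * (q * n * q⁻¹)⁻¹ := by
        group
      rw [h1]; exact htx
    set K := (jj B).comap (MulAut.conj q).toMonoidHom with hK
    have hKp : IsPGroup 2 K :=
      (hs.blkP.two.to_le hjB).comap_of_injective _ (MulAut.conj q).injective
    have htK : t ∈ K ⊓ P := mem_inf.2 ⟨mem_comap.2 (by simpa using ht''), hs.blkP.le htB⟩
    have htK' : n * t * n⁻¹ ∈ K ⊓ P :=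
      mem_inf.2 ⟨mem_comap.2 (by simpa [mul_assoc] using htx'),
        mul_mem (mul_mem hn (hs.blkP.le htB)) (inv_mem hn)⟩
    have hR : IsPGroup 2 ↥((K ⊓ P) ⊔ o2 P) :=
      IsPGroup.to_sup_of_normal_right' (hKp.to_le inf_le_left) (hs.blkP.two.to_le hs.blkP.o2_le)
        (inf_le_right.trans (le_normalizer_o2 P))
    have hPR : P ≤ (K ⊓ P) ⊔ o2 P :=
      le_of_conj_mem' hs.blkP hn hnB htB htP le_sup_right
        ((le_sup_left : K ⊓ P ≤ _) htK) ((le_sup_left : K ⊓ P ≤ _) htK')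
    exact not_isPGroup hs.blkP (hR.to_le hPR)
  have hjD : jj (o2 P ⊓ o2 Q) = jj (o2 Q) := jj_eq_of_le (le_inf hle hjQ) inf_le_right
  have hPD : P ≤ normalizer ((o2 P ⊓ o2 Q : Subgroup G) : Set G) := by
    refine le_normalizer_of_conj_mem fun p hp x hx => ?_
    have h1 : p * x * p⁻¹ ∈ o2 P := conj_o2_mem hp hx.1
    refine mem_inf.2 ⟨h1, mem_o2_of_comm hs.blkQ (hs.blkQ.le (hs.blkP.o2_le h1)) fun z hz => ?_⟩
    have h2 : p⁻¹ * z * p ∈ zl B P ⊔ zl B Q := by
      have := conj_mem_of_le_normalizer hs.nU (inv_mem hp)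
        ((le_sup_right : zl B Q ≤ zl B P ⊔ zl B Q) hz)
      simpa using this
    obtain ⟨a, ha, b, hb, hab⟩ := (mem_sup_iff hs).1 h2
    have h3 := comm_of_mem_o2 hs.blkP hx.1 ha
    have h4 := comm_of_mem_o2 hs.blkQ hx.2 hb
    have h5 : x * (p⁻¹ * z * p) = (p⁻¹ * z * p) * x := by
      rw [hab]
      calc x * (a * b) = (x * a) * b := by group
        _ = a * (x * b) := by rw [h3]; group
        _ = a * b * x := by rw [h4]; group
    calc p * x * p⁻¹ * z = p * (x * (p⁻¹ * z * p)) * p⁻¹ := by group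
      _ = p * ((p⁻¹ * z * p) * x) * p⁻¹ := by rw [h5]
      _ = z * (p * x * p⁻¹) := by group
  have hPj : P ≤ normalizer ((jj (o2 Q) : Subgroup G) : Set G) := by
    have := hPD.trans (normalizer_le_normalizer_jj _)
    rwa [hjD] at this
  have hbot := hs.core _ (hjQ.trans hs.blkQ.o2_le) hPj hQj
  have hQ2 : 2 ∣ Nat.card (o2 Q) := by
    have h1 : Nat.card (vl B Q) ∣ Nat.card (o2 Q) :=
      card_dvd_of_le ((vl_le_zl B Q).trans (zl_le_o2 hs.blkQ))
    rw [hs.blkQ.card_vl] at h1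
    exact (by norm_num : 2 ∣ 4).trans h1
  have h1 : thompsonSubgroup 2 ↥(o2 Q) ≠ ⊥ :=
    have : Fact (Nat.Prime 2) := ⟨Nat.prime_two⟩
    Cfsg.Agent.PLocal.ThompsonJ.thompsonSubgroup_ne_bot hQ2
  apply h1
  rw [eq_bot_iff]
  intro x hx
  have h2 : (x : G) ∈ jj (o2 Q) := ⟨x, hx, rfl⟩
  rw [hbot, mem_bot] at h2
  exact mem_bot.2 (Subtype.ext h2)

/-! ### Case (ii), the second alternative of the context -/

theorem conj_zc {B : Subgroup G} {x z : G} (hx : x ∈ normalizer (B : Set G)) (hz : z ∈ zc B) :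
    x * z * x⁻¹ ∈ zc B := by
  obtain ⟨h1, h2, h3⟩ := mem_zc_iff.1 hz
  refine mem_zc_iff.2 ⟨(mem_normalizer_iff.1 hx z).1 h1, ?_, fun b hb => ?_⟩
  · calc x * z * x⁻¹ * (x * z * x⁻¹) = x * (z * z) * x⁻¹ := by group
      _ = 1 := by rw [h2]; group
  · have h4 : x⁻¹ * b * x ∈ B := by
      have := (mem_normalizer_iff.1 (inv_mem hx) b).1 hb
      simpa using this
    have h5 := h3 _ h4
    calc b * (x * z * x⁻¹) = x * ((x⁻¹ * b * x) * z) * x⁻¹ := by group
      _ = x * (z * (x⁻¹ * b * x)) * x⁻¹ := by rw [h5]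
      _ = x * z * x⁻¹ * b := by group

theorem exists_fixed [Finite G] {B : Subgroup G} {x : G} (hx : x ∈ normalizer (B : Set G))
    (hp : IsPGroup 2 ↥(B ⊔ zpowers x)) (hne : zc B ≠ ⊥) :
    ∃ f ∈ zc B, f ≠ 1 ∧ x * f = f * x := by
  set T := B ⊔ zpowers x with hT
  have : Fact (Nat.Prime 2) := ⟨Nat.prime_two⟩
  have : Group.IsNilpotent ↥T := hp.isNilpotent
  have hzT : zc B ≤ T := (zc_le B).trans le_sup_left
  have hTn : T ≤ normalizer ((zc B : Subgroup G) : Set G) := by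
    refine sup_le ?_ ?_
    · exact le_normalizer_of_conj_mem fun g hg y hy => conj_zc (le_normalizer hg) hy
    · rw [zpowers_le]
      exact mem_normalizer_of_conj_mem fun y hy => conj_zc hx hy
  have : ((zc B).subgroupOf T).Normal := (normal_subgroupOf_iff_le_normalizer hzT).2 hTn
  have hne' : (zc B).subgroupOf T ≠ ⊥ := by
    intro h
    rw [subgroupOf_eq_bot] at h
    exact hne (disjoint_self.1 (h.mono_right hzT))
  have h1 := Cfsg.Agent.Lib.NormalAbelian.normal_inf_center_ne_bot ((zc B).subgroupOf T) hne'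
  obtain ⟨f, hf⟩ := Subgroup.ne_bot_iff_exists_ne_one.1 h1
  obtain ⟨⟨f, hfm⟩, hf1⟩ : ∃ f : ↥((zc B).subgroupOf T ⊓ center ↥T), f ≠ 1 := ⟨f, hf⟩
  refine ⟨f, mem_subgroupOf.1 hfm.1, fun h => hf1 (Subtype.ext (Subtype.ext h)), ?_⟩
  have hxT : x ∈ T := (le_sup_right : zpowers x ≤ T) (mem_zpowers x)
  have h2 := mem_center_iff.1 hfm.2 ⟨x, hxT⟩
  exact congrArg Subtype.val h2

theorem zpowers_conj_le {L : Subgroup G} (hL : ¬ L ≤ N) {x f f' : G}
    (hx : x ∈ N) (hf' : f' * f' = 1) (hf'1 : f' ≠ 1) (hLf : ∀ g ∈ L, g * f = f * g)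
    (hxf : x * f * x⁻¹ = f')
    (hN : normalizer ((zpowers f' : Subgroup G) : Set G) ≤ N) : False := by
  apply hL
  intro g hg
  have h1 : x * g * x⁻¹ ∈ normalizer ((zpowers f' : Subgroup G) : Set G) := by
    rw [mem_normalizer_zpowers hf' hf'1, ← hxf]
    calc x * g * x⁻¹ * (x * f * x⁻¹) = x * (g * f) * x⁻¹ := by group
      _ = x * (f * g) * x⁻¹ := by rw [hLf g hg]
      _ = x * f * x⁻¹ * (x * g * x⁻¹) := by group
  have h2 := hN h1
  have h3 : g = x⁻¹ * (x * g * x⁻¹) * x := by group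
  rw [h3]
  exact mul_mem (mul_mem (inv_mem hx) h2) hx

/-- The unique block of `C_G(f)`: if `L ≥ B`, `|L : B| = 3`, `L ≤ C_G(f)` and `L` does not normalize
`B` then `L` is the block. -/
theorem eq_of_single {f : G} {k : Subgroup G}
    (h : StrData (normalizer ((zpowers f : Subgroup G) : Set G)) B {k})
    (hf : f * f = 1) (hf1 : f ≠ 1) {L : Subgroup G} (hBL : B ≤ L) (hLf : ∀ g ∈ L, g * f = f * g)
    (hi : B.relIndex L = 3) (hn : ¬ L ≤ normalizer (B : Set G)) : L = k :=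
  h.all L hBL (fun g hg => (mem_normalizer_zpowers hf hf1).2 (hLf g hg)) hi hn

/-- conjugating a block by an element normalizing `B`. -/
theorem conj_block [Finite G] {B L : Subgroup G} (hL : IsBlk B L) {x : G}
    (hx : x ∈ normalizer (B : Set G)) :
    B ≤ L.map (MulAut.conj x).toMonoidHom ∧ B.relIndex (L.map (MulAut.conj x).toMonoidHom) = 3 ∧
      ¬ L.map (MulAut.conj x).toMonoidHom ≤ normalizer (B : Set G) := by
  have hB : B.map (MulAut.conj x).toMonoidHom = B := by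
    apply eq_of_le_of_card_ge
    · rintro _ ⟨z, hz, rfl⟩
      have := (mem_normalizer_iff.1 hx z).1 hz
      simpa using this
    · rw [card_map_of_injective (MulAut.conj x).injective]
  refine ⟨?_, ?_, ?_⟩
  · rw [← hB]
    exact map_mono hL.le
  · have h1 := relIndex_map_map_of_injective (f := (MulAut.conj x).toMonoidHom) B L
      (MulAut.conj x).injective
    rw [hB] at h1
    rw [h1, hL.index]
  · intro hc
    apply not_le_normalizer hL
    refine le_normalizer_of_conj_mem fun g hg b hb => ?_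
    have h1 : x * g * x⁻¹ ∈ L.map (MulAut.conj x).toMonoidHom := ⟨g, hg, by simp⟩
    have h2 := hc h1
    have h3 : x * b * x⁻¹ ∈ B := (mem_normalizer_iff.1 hx b).1 hb
    have h4 := (mem_normalizer_iff.1 h2 _).1 h3
    have h5 : x * g * x⁻¹ * (x * b * x⁻¹) * (x * g * x⁻¹)⁻¹ = x * (g * b * g⁻¹) * x⁻¹ := by group
    rw [h5] at h4
    exact (mem_normalizer_iff.1 hx _).2 h4

theorem case_right [Finite G] (h : Ctx N B P Q) (hs : Sec B P Q) {r s : G} (g : Gens B P Q r s)
    (hX : normalizer ((zpowers (r * s) : Subgroup G) : Set G) ≤ N) {x : G} (hxN : x ∈ N)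
    (hxB : x ∉ B) (hxn : x ∈ normalizer (B : Set G)) (hp : IsPGroup 2 ↥(B ⊔ zpowers x)) :
    False := by
  have hrs1 : r * s ≠ 1 := by
    intro h1
    apply s_notP hs g
    have h2 : s = r⁻¹ := eq_inv_of_mul_eq_one_right h1
    rw [h2]
    exact inv_mem g.r_mem
  have hrs2 : r * s * (r * s) = 1 := (mem_zc_iff.1 (mul_mem (r_zc g) (s_zc g))).2.1
  have hr2 := rr hs g
  have hs2 := ss hs g
  have hrP : ∀ p ∈ P, p * r = r * p := (mem_rl_iff.1 g.r_mem).2
  have hsQ : ∀ q ∈ Q, q * s = s * q := (mem_rl_iff.1 g.s_mem).2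
  have hrs : r ≠ s := by
    intro h1
    apply s_notP hs g
    rw [← h1]
    exact g.r_mem
  have hNr : ¬ normalizer ((zpowers r : Subgroup G) : Set G) ≤ N := fun h1 =>
    h.notP (fun p hp => h1 ((mem_normalizer_zpowers hr2 g.r_ne).2 (hrP p hp)))
  have hNs : ¬ normalizer ((zpowers s : Subgroup G) : Set G) ≤ N := fun h1 =>
    h.notQ (fun p hp => h1 ((mem_normalizer_zpowers hs2 g.s_ne).2 (hsQ p hp)))
  have hBr : B ≤ normalizer ((zpowers r : Subgroup G) : Set G) := fun b hb =>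
    (mem_normalizer_zpowers hr2 g.r_ne).2 (hrP b (hs.blkP.le hb))
  -- `x` does not centralize `zc B`
  have hcomm : x * r = r * x → x * s = s * x → False := by
    intro h1 h2
    have h3 := (h.str _ (isTwoLocal_normalizer_zpowers hr2 g.r_ne) hBr hNr).2
      (B ⊔ zpowers x) hp le_sup_left
      (sup_le hBr ((zpowers_le).2 ((mem_normalizer_zpowers hr2 g.r_ne).2 h1)))
    apply hxB
    rw [← h3]
    refine mem_inf.2 ⟨(le_sup_right : zpowers x ≤ _) (mem_zpowers x), ?_⟩
    rw [mem_centralizer_iff]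
    intro z hz
    rcases zc_cases hs g hz with rfl | rfl | rfl | rfl
    · group
    · exact h1.symm
    · exact h2.symm
    · calc r * s * x = r * (s * x) := by group
        _ = (r * x) * s := by rw [← h2]; group
        _ = x * (r * s) := by rw [← h1]; group
  have hne : zc B ≠ ⊥ := by
    intro h1
    have h2 := r_zc g
    rw [h1, mem_bot] at h2
    exact g.r_ne h2
  have hcr := conj_zc hxn (r_zc g)
  have hcs := conj_zc hxn (s_zc g)
  have toComm : ∀ {a : G}, x * a * x⁻¹ = a → x * a = a * x := by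
    intro a ha
    calc x * a = (x * a * x⁻¹) * x := by group
      _ = a * x := by rw [ha]
  have ofComm : ∀ {a : G}, x * a = a * x → x * a * x⁻¹ = a := by
    intro a ha
    rw [ha]; group
  have inj : ∀ {a b : G}, x * a * x⁻¹ = x * b * x⁻¹ → a = b := by
    intro a b hab
    calc a = x⁻¹ * (x * a * x⁻¹) * x := by group
      _ = x⁻¹ * (x * b * x⁻¹) * x := by rw [hab]
      _ = b := by group
  have hone : ∀ {a : G}, x * a * x⁻¹ = 1 → a = 1 := by
    intro a ha
    apply inj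
    rw [ha]; group
  obtain ⟨f, hfz, hf1, hxf⟩ := exists_fixed hxn hp hne
  rcases zc_cases hs g hfz with h1 | h1 | h1 | h1
  · exact hf1 h1
  · -- `f = r`
    rw [h1] at hxf
    rcases zc_cases hs g hcs with h2 | h2 | h2 | h2
    · exact g.s_ne (hone h2)
    · exact hrs (inj ((ofComm hxf).trans h2.symm))
    · exact hcomm hxf (toComm h2)
    · exact zpowers_conj_le h.notQ hxN hrs2 hrs1 hsQ h2 hX
  · -- `f = s`
    rw [h1] at hxf
    rcases zc_cases hs g hcr with h2 | h2 | h2 | h2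
    · exact g.r_ne (hone h2)
    · exact hcomm (toComm h2) hxf
    · exact hrs (inj (h2.trans (ofComm hxf).symm))
    · exact zpowers_conj_le h.notP hxN hrs2 hrs1 hrP h2 hX
  · -- `f = r s`
    rw [h1] at hxf
    have hsplit : x * (r * s) * x⁻¹ = (x * r * x⁻¹) * (x * s * x⁻¹) := by group
    have hfix := ofComm hxf
    rcases zc_cases hs g hcr with h2 | h2 | h2 | h2
    · exact g.r_ne (hone h2)
    · refine hcomm (toComm h2) (toComm ?_)
      rw [hsplit, h2] at hfix
      exact mul_left_cancel hfix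
    · -- `x` swaps `r` and `s`
      have hsr : x * s * x⁻¹ = r := by
        rw [hsplit, h2, rs_comm g] at hfix
        exact mul_left_cancel hfix
      obtain ⟨kr, hkr⟩ := exists_single h (card_zc hs g) (r_zc g) g.r_ne hNr
      obtain ⟨ks, hks⟩ := exists_single h (card_zc hs g) (s_zc g) g.s_ne hNs
      have hPk : P = kr := eq_of_single hkr hr2 g.r_ne hs.blkP.le hrP hs.blkP.index
        (not_le_normalizer hs.blkP)
      have hQk : Q = ks := eq_of_single hks hs2 g.s_ne hs.blkQ.le hsQ hs.blkQ.index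
        (not_le_normalizer hs.blkQ)
      obtain ⟨a1, a2, a3⟩ := conj_block hs.blkP hxn
      obtain ⟨b1, b2, b3⟩ := conj_block hs.blkQ hxn
      have hPQ : P.map (MulAut.conj x).toMonoidHom = Q := by
        rw [hQk]
        refine eq_of_single hks hs2 g.s_ne a1 ?_ a2 a3
        rintro _ ⟨p, hp, rfl⟩
        have h3 : (MulAut.conj x).toMonoidHom p = x * p * x⁻¹ := by simp
        rw [h3, ← h2]
        calc x * p * x⁻¹ * (x * r * x⁻¹) = x * (p * r) * x⁻¹ := by group
          _ = x * (r * p) * x⁻¹ := by rw [hrP p hp]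
          _ = x * r * x⁻¹ * (x * p * x⁻¹) := by group
      have hQP : Q.map (MulAut.conj x).toMonoidHom = P := by
        rw [hPk]
        refine eq_of_single hkr hr2 g.r_ne b1 ?_ b2 b3
        rintro _ ⟨p, hp, rfl⟩
        have h3 : (MulAut.conj x).toMonoidHom p = x * p * x⁻¹ := by simp
        rw [h3, ← hsr]
        calc x * p * x⁻¹ * (x * s * x⁻¹) = x * (p * s) * x⁻¹ := by group
          _ = x * (s * p) * x⁻¹ := by rw [hsQ p hp]
          _ = x * s * x⁻¹ * (x * p * x⁻¹) := by group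
      have hzl : ∀ {L L' : Subgroup G}, L.map (MulAut.conj x).toMonoidHom = L' →
          zl B L ≤ (zl B L').comap (MulAut.conj x).toMonoidHom := by
        intro L L' hLL
        refine zl_le fun p hp y hy => ?_
        rw [mem_comap]
        have h3 : (MulAut.conj x).toMonoidHom (p * y * p⁻¹) =
            (x * p * x⁻¹) * (x * y * x⁻¹) * (x * p * x⁻¹)⁻¹ := by
          simp [mul_assoc]
        rw [h3]
        refine conj_zc_mem_zl ?_ (conj_zc hxn hy)
        rw [← hLL]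
        exact ⟨p, hp, by simp⟩
      have hxU : x ∈ normalizer ((zl B P ⊔ zl B Q : Subgroup G) : Set G) := by
        apply mem_normalizer_of_conj_mem
        have h3 : zl B P ⊔ zl B Q ≤
            (zl B P ⊔ zl B Q : Subgroup G).comap (MulAut.conj x).toMonoidHom :=
          sup_le ((hzl hPQ).trans (comap_mono le_sup_right))
            ((hzl hQP).trans (comap_mono le_sup_left))
        intro u hu
        have h4 := h3 hu
        rw [mem_comap] at h4
        simpa using h4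
      have hQU : Q ≤ normalizer ((zl B P ⊔ zl B Q : Subgroup G) : Set G) := by
        intro q hq
        rw [← hPQ] at hq
        obtain ⟨p, hp, rfl⟩ := hq
        have h3 : (MulAut.conj x).toMonoidHom p = x * p * x⁻¹ := by simp
        rw [h3]
        exact mul_mem (mul_mem hxU (hs.nU hp)) (inv_mem hxU)
      have h3 := hs.core _ (sup_le_B hs) hs.nU hQU
      apply vl_ne_bot hs.blkP
      rw [eq_bot_iff, ← h3]
      exact (vl_le_zl B P).trans le_sup_left
    · apply g.s_ne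
      have h3 : r = r * s := inj (h2.trans hfix.symm)
      exact (mul_eq_left.1 h3.symm)

/-- **The SECOND case is impossible.** -/
theorem second_false [Finite G] (h : Ctx N B P Q) (h1 : zl B Q ≤ o2 P) (h2 : zl B P ≤ o2 Q)
    (hU : P ≤ normalizer ((zl B P ⊔ zl B Q : Subgroup G) : Set G)) : False := by
  have hs := sec_of_ctx h h1 h2 hU
  obtain ⟨r, s, g⟩ := exists_gens hs
  by_cases hX : normalizer ((zpowers (r * s) : Subgroup G) : Set G) ≤ N
  · rcases h.alt with h3 | ⟨x, hxN, hxB, hxn, hp⟩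
    · exact case_left hs g (hX.trans h3)
    · exact case_right h hs g hX hxN hxB hxn hp
  · exact case_i h hs g hX

end Cfsg.Agent.ZN.AmalgamSecond
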