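import Cfsg.Agent.ZN.Defs
import Cfsg.Agent.Lib.Cores
import Cfsg.Agent.Lib.ProductSet
import Cfsg.Agent.PLocal.StableClosure
import Mathlib.GroupTheory.Perm.Fin
import Mathlib.Data.Fintype.Perm

/-! # S0518, part [D]: from the amalgam conclusion to the self-centralising subgroups

From `Ctx N B P Q` with `O₂(P) = zl B P`, ... we show `N_G(O₂(P)) = P` and the numerical data used in the last
step of S0518. -/

set_option autoImplicit false

namespace Cfsg.Agent.ZN.FinalBridge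

open Subgroup Cfsg Cfsg.Agent.ZN
open scoped Pointwise

universe u

variable {G : Type u} [Group G]

/-! ### Elementary facts on the vocabulary -/

theorem mem_zc {B : Subgroup G} {x : G} :
    x ∈ zc B ↔ x ∈ B ∧ x ^ 2 = 1 ∧ ∀ b ∈ B, b * x = x * b := by
  unfold zc
  rw [Cfsg.Agent.PLocal.StableClosure.mem_omegaOne_iff_of_comm]
  · constructor
    · rintro ⟨⟨h1, h2⟩, h3⟩
      exact ⟨h1, h3, fun b hb => (mem_centralizer_iff.1 h2 b hb)⟩
    · rintro ⟨h1, h2, h3⟩
      exact ⟨⟨h1, mem_centralizer_iff.2 fun b hb => h3 b hb⟩, h2⟩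
  · intro x hx y hy
    exact (mem_centralizer_iff.1 hy.2 x hx.1)

theorem zc_le (B : Subgroup G) : zc B ≤ B := fun _ hx => (mem_zc.1 hx).1

theorem zc_conj {B : Subgroup G} {g x : G} (hg : g ∈ normalizer (B : Set G)) (hx : x ∈ zc B) :
    g * x * g⁻¹ ∈ zc B := by
  rw [mem_zc] at hx ⊢
  obtain ⟨h1, h2, h3⟩ := hx
  refine ⟨(mem_normalizer_iff.1 hg x).1 h1, ?_, fun b hb => ?_⟩
  · rw [conj_pow, h2]; group
  · have h4 : g⁻¹ * b * g ∈ B := (mem_normalizer_iff''.1 hg b).1 hb
    have h5 := h3 _ h4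
    calc b * (g * x * g⁻¹) = g * ((g⁻¹ * b * g) * x) * g⁻¹ := by group
      _ = g * (x * (g⁻¹ * b * g)) * g⁻¹ := by rw [h5]
      _ = g * x * g⁻¹ * b := by group

theorem conj_mem_zl {B L : Subgroup G} {y x : G} (hy : y ∈ L) (hx : x ∈ zc B) :
    y * x * y⁻¹ ∈ zl B L := by
  have h : (zc B).map (MulAut.conj ((⟨y, hy⟩ : L) : G)).toMonoidHom ≤ zl B L :=
    le_iSup (fun g : L => (zc B).map (MulAut.conj (g : G)).toMonoidHom) ⟨y, hy⟩
  exact h ⟨x, hx, rfl⟩

theorem zl_le_iff {B L K : Subgroup G} :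
    zl B L ≤ K ↔ ∀ y ∈ L, ∀ x ∈ zc B, y * x * y⁻¹ ∈ K := by
  constructor
  · intro h y hy x hx
    exact h (conj_mem_zl hy hx)
  · intro h
    unfold zl
    refine iSup_le fun g => ?_
    rintro _ ⟨x, hx, rfl⟩
    exact h g g.2 x hx

theorem zc_le_zl (B L : Subgroup G) : zc B ≤ zl B L := by
  intro x hx
  simpa using conj_mem_zl (one_mem L) hx

theorem zl_le {B L : Subgroup G} (h : B ≤ L) : zl B L ≤ L := by
  rw [zl_le_iff]
  intro y hy x hx
  exact mul_mem (mul_mem hy (h (zc_le B hx))) (inv_mem hy)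

theorem zl_conj {B L : Subgroup G} {g x : G} (hg : g ∈ normalizer (B : Set G))
    (hg' : g ∈ normalizer (L : Set G)) (hx : x ∈ zl B L) : g * x * g⁻¹ ∈ zl B L := by
  have : zl B L ≤ (zl B L).comap (MulAut.conj g).toMonoidHom := by
    rw [zl_le_iff]
    intro y hy x hx
    change g * (y * x * y⁻¹) * g⁻¹ ∈ zl B L
    have h1 : g * (y * x * y⁻¹) * g⁻¹ = (g * y * g⁻¹) * (g * x * g⁻¹) * (g * y * g⁻¹)⁻¹ := by group
    rw [h1]
    exact conj_mem_zl ((mem_normalizer_iff.1 hg' y).1 hy) (zc_conj hg hx)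
  exact this hx

theorem zl_conj_of_mem {B L : Subgroup G} {g x : G} (hg : g ∈ L) (hx : x ∈ zl B L) :
    g * x * g⁻¹ ∈ zl B L := by
  have : zl B L ≤ (zl B L).comap (MulAut.conj g).toMonoidHom := by
    rw [zl_le_iff]
    intro y hy x hx
    change g * (y * x * y⁻¹) * g⁻¹ ∈ zl B L
    have h1 : g * (y * x * y⁻¹) * g⁻¹ = (g * y) * x * (g * y)⁻¹ := by group
    rw [h1]
    exact conj_mem_zl (mul_mem hg hy) hx
  exact this hx

theorem le_normalizer_zl (B L : Subgroup G) : L ≤ normalizer (zl B L : Set G) :=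
  le_normalizer_iff.2 fun _ hg _ hx => zl_conj_of_mem hg hx

/-- `O₂(L)` is a subgroup of `L`. -/
theorem o2_le (L : Subgroup G) : o2 L ≤ L := Subgroup.map_subtype_le _

theorem o2_isPGroup (L : Subgroup G) : IsPGroup 2 (o2 L) :=
  (Cfsg.Agent.Lib.Cores.pCore_isPGroup 2).map _

theorem le_o2 {L U : Subgroup G} (hU : U ≤ L) (h2 : IsPGroup 2 U)
    (hn : L ≤ normalizer (U : Set G)) : U ≤ o2 L := by
  have h1 : (U.subgroupOf L).Normal := (normal_subgroupOf_iff_le_normalizer hU).2 hn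
  have h3 : U.subgroupOf L ≤ pCore 2 L := by
    apply Cfsg.Agent.Lib.Cores.le_pCore h1
    exact h2.comap_of_injective _ L.subtype_injective
  calc U = (U.subgroupOf L).map L.subtype := (map_subgroupOf_eq_of_le hU).symm
    _ ≤ o2 L := map_mono h3

theorem le_normalizer_o2 (L : Subgroup G) : L ≤ normalizer (o2 L : Set G) := by
  rw [← normal_subgroupOf_iff_le_normalizer (o2_le L)]
  have h : (o2 L).subgroupOf L = pCore 2 L := by
    unfold o2
    rw [subgroupOf, comap_map_eq_self_of_injective L.subtype_injective]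
  rw [h]
  exact Cfsg.Agent.Lib.Cores.pCore_normal 2

theorem o2_conj {L : Subgroup G} {g x : G} (hg : g ∈ normalizer (L : Set G)) (hx : x ∈ o2 L) :
    g * x * g⁻¹ ∈ o2 L := by
  have h : (o2 L).map (MulAut.conj g).toMonoidHom ≤ o2 L := by
    apply le_o2
    · rintro _ ⟨y, hy, rfl⟩
      exact (mem_normalizer_iff.1 hg y).1 (o2_le L hy)
    · exact (o2_isPGroup L).map _
    · rw [le_normalizer_iff]
      rintro y hy _ ⟨z, hz, rfl⟩
      have h1 : g⁻¹ * y * g ∈ L := (mem_normalizer_iff''.1 hg y).1 hy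
      refine ⟨(g⁻¹ * y * g) * z * (g⁻¹ * y * g)⁻¹, ?_, ?_⟩
      · exact (mem_normalizer_iff.1 (le_normalizer_o2 L h1) z).1 hz
      · change g * ((g⁻¹ * y * g) * z * (g⁻¹ * y * g)⁻¹) * g⁻¹ = y * (g * z * g⁻¹) * y⁻¹
        group
  exact h ⟨x, hx, rfl⟩

theorem normalizer_le_normalizer_o2 (L : Subgroup G) :
    normalizer (L : Set G) ≤ normalizer (o2 L : Set G) :=
  le_normalizer_iff.2 fun _ hg _ hx => o2_conj hg hx

theorem rl_conj {B L : Subgroup G} {g x : G} (hg : g ∈ normalizer (B : Set G))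
    (hg' : g ∈ normalizer (L : Set G)) (hx : x ∈ rl B L) : g * x * g⁻¹ ∈ rl B L := by
  refine ⟨zc_conj hg hx.1, mem_centralizer_iff.2 fun y hy => ?_⟩
  have h4 : g⁻¹ * y * g ∈ L := (mem_normalizer_iff''.1 hg' y).1 hy
  have h5 := mem_centralizer_iff.1 hx.2 _ h4
  calc y * (g * x * g⁻¹) = g * ((g⁻¹ * y * g) * x) * g⁻¹ := by group
    _ = g * (x * (g⁻¹ * y * g)) * g⁻¹ := by rw [h5]
    _ = g * x * g⁻¹ * y := by group

/-- If `g` normalises `A` and `C` then it normalises `⁅A, C⁆`. -/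
theorem commutator_conj {A C : Subgroup G} {g x : G} (hg : ∀ a ∈ A, g * a * g⁻¹ ∈ A)
    (hg' : ∀ a ∈ C, g * a * g⁻¹ ∈ C) (hx : x ∈ ⁅A, C⁆) : g * x * g⁻¹ ∈ ⁅A, C⁆ := by
  have h : ⁅A, C⁆ ≤ (⁅A, C⁆ : Subgroup G).comap (MulAut.conj g).toMonoidHom := by
    rw [commutator_le]
    intro a ha c hc
    change g * (a * c * a⁻¹ * c⁻¹) * g⁻¹ ∈ ⁅A, C⁆
    have h1 : g * (a * c * a⁻¹ * c⁻¹) * g⁻¹ = (g * a * g⁻¹) * (g * c * g⁻¹) * (g * a * g⁻¹)⁻¹ *
        (g * c * g⁻¹)⁻¹ := by group
    rw [h1]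
    exact commutator_mem_commutator (hg a ha) (hg' c hc)
  exact h hx

theorem vl_conj {B L : Subgroup G} {g x : G} (hz : ∀ a ∈ zl B L, g * a * g⁻¹ ∈ zl B L)
    (hg' : g ∈ normalizer (L : Set G)) (hx : x ∈ vl B L) : g * x * g⁻¹ ∈ vl B L :=
  commutator_conj hz (fun a ha => (mem_normalizer_iff.1 hg' a).1 ha) hx

/-- a subgroup of order at most two has only one nontrivial element. -/
theorem eq_of_card_le_two [Finite G] {K : Subgroup G} (h : Nat.card K ≤ 2) {x y : G} (hx : x ∈ K) (hy : y ∈ K)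
    (hx1 : x ≠ 1) (hy1 : y ≠ 1) : x = y := by
  classical
  by_contra hne
  have h3 : Nat.card (Fin 3) ≤ Nat.card K := by
    refine Nat.card_le_card_of_injective (![(⟨1, one_mem K⟩ : K), ⟨x, hx⟩, ⟨y, hy⟩]) ?_
    intro i j hij
    fin_cases i <;> fin_cases j <;> simp_all [Subtype.ext_iff, eq_comm]
  simp at h3
  omega

theorem comm_of_card_le_two [Finite G] {K : Subgroup G} (h : Nat.card K ≤ 2) {g x : G}
    (hg : ∀ a ∈ K, g * a * g⁻¹ ∈ K) (hx : x ∈ K) : g * x = x * g := by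
  by_cases hx1 : x = 1
  · rw [hx1, mul_one, one_mul]
  · have h1 : g * x * g⁻¹ ≠ 1 := by
      intro h2
      apply hx1
      have : x = g⁻¹ * (g * x * g⁻¹) * g := by group
      rw [this, h2]; group
    have := eq_of_card_le_two h (hg x hx) hx h1 hx1
    exact mul_inv_eq_iff_eq_mul.1 this

theorem card_mul_relIndex {H K : Subgroup G} (h : H ≤ K) :
    Nat.card H * H.relIndex K = Nat.card K := by
  have := relIndex_mul_relIndex (⊥ : Subgroup G) H K bot_le h
  simpa using this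

/-- the order of the join of two commuting disjoint subgroups. -/
theorem card_sup_of_comm {H K : Subgroup G} (hc : ∀ h ∈ H, ∀ k ∈ K, h * k = k * h)
    (hd : H ⊓ K = ⊥) : Nat.card ↥(H ⊔ K) = Nat.card H * Nat.card K := by
  have h1 : ((H ⊔ K : Subgroup G) : Set G) = (H : Set G) * (K : Set G) := by
    apply Subgroup.coe_mul_of_left_le_normalizer_right
    refine le_normalizer_iff.2 fun x hx y hy => ?_
    rw [hc x hx y hy, mul_inv_cancel_right]
    exact hy
  have h2 := Cfsg.Agent.Lib.ProductSet.card_mul_card_inf H K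
  rw [hd, card_bot, mul_one, ← h1] at h2
  exact h2

/-! ### Facts on a block -/

section Block

variable {B P : Subgroup G}

theorem zl_le_o2 (h : IsBlk B P) : zl B P ≤ o2 P := by
  rw [← h.cent_zl]
  exact le_inf (zl_le h.le) fun x hx => mem_centralizer_iff.2 fun y hy => h.zl_comm y hy x hx

theorem zc_le_o2 (h : IsBlk B P) : zc B ≤ o2 P := (zc_le_zl B P).trans (zl_le_o2 h)

theorem card_zc (h : IsBlk B P) : Nat.card (zc B) = 2 * Nat.card (rl B P) := by
  have h1 : rl B P ≤ zc B := inf_le_left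
  have := card_mul_relIndex h1
  rw [h.rl_index] at this
  omega

theorem card_zl (h : IsBlk B P) : Nat.card (zl B P) = 4 * Nat.card (rl B P) := by
  have h1 : (rl B P ⊔ vl B P : Subgroup G) = zl B P := h.sup_eq
  have h2 := card_sup_of_comm (H := rl B P) (K := vl B P)
    (fun x hx y hy => h.zl_comm _ (h1 ▸ le_sup_left (b := vl B P) hx) _
      (h1 ▸ le_sup_right (a := rl B P) hy)) h.disj
  rw [← h1, h2, h.card_vl, mul_comm]

theorem card_base (h : IsBlk B P) : Nat.card B = 2 * Nat.card (o2 P) := by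
  have := card_mul_relIndex h.o2_le
  rw [h.o2_index] at this
  omega

theorem card_blk (h : IsBlk B P) : Nat.card P = 3 * Nat.card B := by
  have := card_mul_relIndex h.le
  rw [h.index] at this
  omega

theorem not_le_normalizer (h : IsBlk B P) : ¬ P ≤ normalizer (B : Set G) := by
  intro hn
  have h1 : B ≤ o2 P := le_o2 h.le h.two hn
  have h2 : (o2 P).relIndex B = 1 := relIndex_eq_one.2 h1
  have h3 := h.o2_index
  omega

theorem rl_mul_mem (h : IsBlk B P) {x y : G} (hx : x ∈ zc B) (hy : y ∈ zc B) (hxr : x ∉ rl B P)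
    (hyr : y ∉ rl B P) : x * y ∈ rl B P := by
  obtain ⟨a, ha, h1⟩ := relIndex_eq_two_iff_exists_notMem_and.1 h.rl_index
  obtain ⟨h1, h2⟩ := h1
  have h3 : ∀ b ∈ zc B, b ∉ rl B P → b * a ∈ rl B P := fun b hb hbr => (h2 b hb).resolve_right hbr
  have h4 := mul_mem (h3 x hx hxr) (inv_mem (h3 y⁻¹ (inv_mem hy) (fun hh => hyr (by simpa using inv_mem hh))))
  have h5 : x * a * (y⁻¹ * a)⁻¹ = x * y := by group
  rwa [h5] at h4

theorem exists_w [Finite G] (h : IsBlk B P) : ∃ w ∈ vl B P, w ≠ 1 ∧ w ∈ zc B := by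
  classical
  have hvz : vl B P ≤ zl B P := by rw [← h.sup_eq]; exact le_sup_right
  have hBv : ∀ b ∈ B, ∀ v ∈ vl B P, b * v * b⁻¹ ∈ vl B P := fun b hb v hv =>
    vl_conj (fun a ha => zl_conj_of_mem (h.le hb) ha) (le_normalizer (h.le hb)) hv
  let act : MulAction B (vl B P) :=
    { smul := fun b v => ⟨(b : G) * v * (b : G)⁻¹, hBv b b.2 v v.2⟩
      one_smul := fun v => Subtype.ext (by change (1 : G) * v * (1 : G)⁻¹ = v; simp)
      mul_smul := fun b c v => Subtype.ext (by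
        change ((b : G) * c) * v * ((b : G) * c)⁻¹ = (b : G) * ((c : G) * v * (c : G)⁻¹) * (b : G)⁻¹
        group) }
  have hfix : (1 : vl B P) ∈ MulAction.fixedPoints B (vl B P) := by
    intro b
    exact Subtype.ext (by change (b : G) * 1 * (b : G)⁻¹ = 1; simp)
  have : Fact (Nat.Prime 2) := ⟨Nat.prime_two⟩
  obtain ⟨w, hw, hw1⟩ := h.two.exists_fixed_point_of_prime_dvd_card_of_fixed_point (vl B P)
    (by rw [h.card_vl]; norm_num) hfix
  refine ⟨w, w.2, fun h1 => hw1 (Subtype.ext h1.symm), ?_⟩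
  rw [mem_zc]
  refine ⟨h.o2_le (zl_le_o2 h (hvz w.2)), h.zl_sq _ (hvz w.2), fun b hb => ?_⟩
  have h2 := congrArg Subtype.val (hw ⟨b, hb⟩)
  change b * w * b⁻¹ = w at h2
  exact mul_inv_eq_iff_eq_mul.1 h2

theorem card_rl_le [Finite G] (h : IsBlk B P) (h4 : Nat.card (zc B) ≤ 4) : Nat.card (rl B P) ≤ 2 := by
  have := card_zc h
  omega

/-- If `|Ω₁(Z(B))| ≤ 4` then it is centralised by `N(B) ∩ N(P)`. -/
theorem comm_zc [Finite G] (h : IsBlk B P) (h4 : Nat.card (zc B) ≤ 4) {g x : G}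
    (hg : g ∈ normalizer (B : Set G)) (hg' : g ∈ normalizer (P : Set G)) (hx : x ∈ zc B) :
    g * x = x * g := by
  obtain ⟨w, hwv, hw1, hwz⟩ := exists_w h
  have hr := card_rl_le h h4
  have hrl : ∀ y ∈ rl B P, g * y = y * g := fun y hy =>
    comm_of_card_le_two hr (fun a ha => rl_conj hg hg' ha) hy
  have hdis : ∀ y ∈ vl B P, y ∈ rl B P → y = 1 := fun y hy hy' => by
    have : y ∈ rl B P ⊓ vl B P := ⟨hy', hy⟩
    rwa [h.disj, mem_bot] at this
  have hwr : w ∉ rl B P := fun hh => hw1 (hdis w hwv hh)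
  have hw : g * w = w * g := by
    have h1 : g * w * g⁻¹ ∈ vl B P := vl_conj (fun a ha => zl_conj hg hg' ha) hg' hwv
    have h2 : g * w * g⁻¹ ∈ zc B := zc_conj hg hwz
    have h3 : g * w * g⁻¹ ≠ 1 := by
      intro h2
      apply hw1
      have : w = g⁻¹ * (g * w * g⁻¹) * g := by group
      rw [this, h2]; group
    have h4 : g * w * g⁻¹ ∉ rl B P := fun hh => h3 (hdis _ h1 hh)
    have h5 : g * w * g⁻¹ * w ∈ rl B P := rl_mul_mem h h2 hwz h4 hwr
    have h6 := hdis _ (mul_mem h1 hwv) h5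
    have h7 : w * w = 1 := by have := (mem_zc.1 hwz).2.1; rwa [pow_two] at this
    have h8 : g * w * g⁻¹ = w := by
      calc g * w * g⁻¹ = (g * w * g⁻¹ * w) * w⁻¹ := by group
        _ = w⁻¹ := by rw [h6, one_mul]
        _ = w := (eq_inv_of_mul_eq_one_left h7).symm
    exact mul_inv_eq_iff_eq_mul.1 h8
  by_cases hxr : x ∈ rl B P
  · exact hrl x hxr
  · have h1 := hrl _ (rl_mul_mem h hx hwz hxr hwr)
    have h2 : g * x * w = x * g * w := by
      calc g * x * w = g * (x * w) := by group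
        _ = x * (w * g) := by rw [h1]; group
        _ = x * g * w := by rw [← hw]; group
    exact mul_right_cancel h2

/-- `C_{Z_L}(L) = rl`. -/
theorem mem_rl_of_mem_zl (h : IsBlk B P) {x : G} (hx : x ∈ zl B P) (hc : ∀ y ∈ P, y * x = x * y) :
    x ∈ rl B P := by
  refine ⟨mem_zc.2 ⟨h.o2_le (zl_le_o2 h hx), h.zl_sq _ hx, fun b hb => hc b (h.le hb)⟩, ?_⟩
  exact mem_centralizer_iff.2 fun y hy => hc y hy

end Block

/-! ### The normaliser of `O₂(P)` -/

section Main

variable [Finite G] {N B P Q : Subgroup G}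

omit [Finite G] in
theorem ctx_symm (h : Ctx N B P Q) : Ctx N B Q P :=
  { blkP := h.blkQ, blkQ := h.blkP, core := fun U h1 h2 h3 => h.core U h1 h3 h2, notP := h.notQ,
    notQ := h.notP, str := h.str, alt := h.alt }

/-- the elements normalising `P`, in a 2-local subgroup containing `P`. -/
theorem le_normalizer_of_isTwoLocal (h : Ctx N B P Q) (h1 : o2 P = zl B P)
    {X : Subgroup G} (hX : IsTwoLocal X) (hPX : P ≤ X) : X ≤ normalizer (P : Set G) := by
  have hBX : B ≤ X := h.blkP.le.trans hPX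
  have hXN : ¬ X ≤ N := fun hh => h.notP (hPX.trans hh)
  obtain ⟨⟨𝓛, hS⟩, -⟩ := h.str X hX hBX hXN
  have hP𝓛 : P ∈ 𝓛 := hS.all P h.blkP.le hPX h.blkP.index (not_le_normalizer h.blkP)
  have hall : ∀ L ∈ 𝓛, L = P := by
    intro L hL
    by_contra hne
    have hLb := hS.blk L hL
    have hne2 : o2 L ≠ o2 P := fun hh => hne (hS.inj L hL P hP𝓛 hh)
    have c1 := card_base h.blkP
    have c2 := card_base hLb
    have c3 : Nat.card (zl B P) = 4 * Nat.card (rl B P) := card_zl h.blkP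
    have c4 := card_zc h.blkP
    rw [← h1] at c3
    -- the order of the intersection
    have hD : zc B ≤ o2 P ⊓ o2 L := le_inf (zc_le_o2 h.blkP) (zc_le_o2 hLb)
    have hi : (o2 P ⊓ o2 L).relIndex (o2 P) ≠ 1 := by
      rw [Ne, relIndex_eq_one]
      intro hh
      have h3 : o2 P ≤ o2 L := hh.trans inf_le_right
      apply hne2
      symm
      apply Subgroup.eq_of_le_of_card_ge h3
      omega
    have hi2 : (o2 P ⊓ o2 L).relIndex (o2 P) ≤ 2 := by
      rw [inf_relIndex_left]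
      calc (o2 L).relIndex (o2 P) ≤ (o2 L).relIndex B := relIndex_le_of_le_right h.blkP.o2_le
            (by rw [hLb.o2_index]; norm_num)
        _ = 2 := hLb.o2_index
    have hi3 : (o2 P ⊓ o2 L).relIndex (o2 P) ≠ 0 :=
      index_ne_zero_of_finite (H := (o2 P ⊓ o2 L).subgroupOf (o2 P))
    have c5 := card_mul_relIndex (inf_le_left : o2 P ⊓ o2 L ≤ o2 P)
    have c6 : Nat.card ↥(o2 P ⊓ o2 L) = Nat.card (zc B) := by
      have : (o2 P ⊓ o2 L).relIndex (o2 P) = 2 := by omega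
      rw [this] at c5
      omega
    have c7 : zc B = o2 P ⊓ o2 L := Subgroup.eq_of_le_of_card_ge hD (by omega)
    have hn : P ≤ normalizer (zc B : Set G) := by
      rw [c7]; exact hS.inter P hP𝓛 L hL
    have h5 : zl B P ≤ zc B := by
      rw [zl_le_iff]
      intro y hy x hx
      exact (mem_normalizer_iff.1 (hn hy) x).1 hx
    have c8 := Subgroup.card_le_of_le h5
    rw [← h1] at c8
    have : 0 < Nat.card (rl B P) := Nat.card_pos
    omega
  have h𝓛 : sSup 𝓛 = P := by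
    apply le_antisymm
    · exact sSup_le fun L hL => (hall L hL).le
    · exact le_sSup hP𝓛
  have := hS.norm
  rwa [h𝓛] at this

/-- a 2-subgroup of a 2-local subgroup over `P` containing `B` is `B`. -/
theorem eq_base_of_isPGroup (h : Ctx N B P Q) (h1 : o2 P = zl B P) (h4 : Nat.card (zc B) ≤ 4)
    {X : Subgroup G} (hX : IsTwoLocal X) (hPX : P ≤ X) {T : Subgroup G} (hT : IsPGroup 2 T)
    (hBT : B ≤ T) (hTX : T ≤ X) : T = B := by
  have hBX : B ≤ X := h.blkP.le.trans hPX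
  have hXN : ¬ X ≤ N := fun hh => h.notP (hPX.trans hh)
  have hXP := le_normalizer_of_isTwoLocal h h1 hX hPX
  have hTP : T ≤ normalizer (P : Set G) := hTX.trans hXP
  -- `T ∩ P = B`
  have hTPB : T ⊓ P = B := by
    symm
    apply Subgroup.eq_of_le_of_card_ge (le_inf hBT h.blkP.le)
    have h2 : IsPGroup 2 ↥(T ⊓ P) := hT.to_le inf_le_left
    obtain ⟨k, hk⟩ := IsPGroup.iff_card.1 h2
    obtain ⟨l, hl⟩ := IsPGroup.iff_card.1 h.blkP.two
    have h3 := card_blk h.blkP
    have h5 : Nat.card ↥(T ⊓ P) ∣ Nat.card P := Subgroup.card_dvd_of_le inf_le_right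
    rw [h3, hk, hl] at h5
    have h6 : 2 ^ k ∣ 2 ^ l := by
      apply Nat.Coprime.dvd_of_dvd_mul_left _ h5
      exact Nat.Coprime.pow_left k (by norm_num)
    rw [hk, hl]
    exact Nat.le_of_dvd (by positivity) h6
  have hTB : T ≤ normalizer (B : Set G) := by
    rw [le_normalizer_iff]
    intro t ht b hb
    have : t * b * t⁻¹ ∈ T ⊓ P := by
      refine ⟨T.mul_mem (T.mul_mem ht (hBT hb)) (T.inv_mem ht), ?_⟩
      exact (mem_normalizer_iff.1 (hTP ht) b).1 (h.blkP.le hb)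
    rwa [hTPB] at this
  have hTc : T ≤ centralizer (zc B : Set G) := by
    intro t ht
    exact mem_centralizer_iff.2 fun x hx => (comm_zc h.blkP h4 (hTB ht) (hTP ht) hx).symm
  have h5 := (h.str X hX hBX hXN).2 T hT hBT hTX
  rwa [inf_eq_left.2 hTc] at h5

omit [Finite G] in
theorem isTwoLocal_normalizer_o2 (h : Ctx N B P Q) (h1 : o2 P = zl B P) :
    IsTwoLocal (normalizer (o2 P : Set G)) := by
  refine ⟨o2 P, o2_isPGroup P, ?_, rfl⟩
  intro hh
  have c3 : Nat.card (zl B P) = 4 * Nat.card (rl B P) := card_zl h.blkP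
  rw [← h1, hh, card_bot] at c3
  omega

theorem o2_normalizer_o2 (h : Ctx N B P Q) (h1 : o2 P = zl B P) (h4 : Nat.card (zc B) ≤ 4) :
    o2 (normalizer (o2 P : Set G)) = o2 P := by
  set X := normalizer (o2 P : Set G) with hXdef
  have hX : IsTwoLocal X := isTwoLocal_normalizer_o2 h h1
  have hPX : P ≤ X := le_normalizer_o2 P
  have hXP := le_normalizer_of_isTwoLocal h h1 hX hPX
  apply le_antisymm
  · -- `O₂(X) B` is a 2-group
    have h2 : IsPGroup 2 ↥(o2 X ⊔ B) := by
      have hB : B ≤ normalizer (o2 X : Set G) := (h.blkP.le.trans hPX).trans (le_normalizer_o2 X)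
      exact IsPGroup.to_sup_of_normal_left' (o2_isPGroup X) h.blkP.two hB
    have h3 := eq_base_of_isPGroup h h1 h4 hX hPX h2 le_sup_right
      (sup_le (o2_le X) (h.blkP.le.trans hPX))
    have h5 : o2 X ≤ B := h3 ▸ le_sup_left (b := B)
    exact le_o2 (h5.trans h.blkP.le) (o2_isPGroup X) (hPX.trans (le_normalizer_o2 X))
  · exact le_o2 ((o2_le P).trans hPX) (o2_isPGroup P) le_rfl

omit [Finite G] in
theorem inf_centralizer_o2_le (hL : IsCharacteristicTwoType G) {X : Subgroup G} (hX : IsTwoLocal X) :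
    X ⊓ centralizer (o2 X : Set G) ≤ o2 X := by
  obtain ⟨T, hT, hT1, rfl⟩ := hX
  have h2 := hL.2 T hT hT1
  rintro x ⟨hxX, hxc⟩
  have h3 : (⟨x, hxX⟩ : ↥(normalizer (T : Set G))) ∈
      centralizer (pCore 2 ↥(normalizer (T : Set G)) : Set ↥(normalizer (T : Set G))) := by
    rw [mem_centralizer_iff]
    intro y hy
    apply Subtype.ext
    exact mem_centralizer_iff.1 hxc y ⟨y, hy, rfl⟩
  exact ⟨_, h2 h3, rfl⟩

theorem centralizer_o2_le (hL : IsCharacteristicTwoType G) (h : Ctx N B P Q) (h1 : o2 P = zl B P)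
    (h4 : Nat.card (zc B) ≤ 4) : centralizer (o2 P : Set G) ≤ o2 P := by
  have h2 := inf_centralizer_o2_le hL (isTwoLocal_normalizer_o2 h h1)
  rw [o2_normalizer_o2 h h1 h4] at h2
  exact (le_inf (centralizer_le_normalizer _) le_rfl).trans h2

/-- A subgroup `X` acting on the subgroup `V` of order four: the kernel has index at most six. -/
theorem card_le_of_acts {X V U : Subgroup G} (hV : Nat.card V = 4)
    (hXV : ∀ x ∈ X, ∀ v ∈ V, x * v * x⁻¹ ∈ V) (hU : ∀ x ∈ X, (∀ v ∈ V, x * v = v * x) → x ∈ U) :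
    Nat.card X ≤ 6 * Nat.card U := by
  classical
  have hf1 : ∀ (x : X) (v : {v : G // v ∈ V ∧ v ≠ 1}), (x : G) * v * (x : G)⁻¹ ∈ V ∧
      (x : G) * v * (x : G)⁻¹ ≠ 1 := by
    intro x v
    refine ⟨hXV x x.2 v v.2.1, fun h2 => v.2.2 ?_⟩
    have : (v : G) = (x : G)⁻¹ * ((x : G) * v * (x : G)⁻¹) * x := by group
    rw [this, h2]; group
  let f : X →* Equiv.Perm {v : G // v ∈ V ∧ v ≠ 1} :=
    { toFun := fun x =>
        { toFun := fun v => ⟨(x : G) * v * (x : G)⁻¹, hf1 x v⟩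
          invFun := fun v => ⟨(x : G)⁻¹ * v * (x : G), by simpa using hf1 x⁻¹ v⟩
          left_inv := fun v => Subtype.ext (by change (x : G)⁻¹ * ((x : G) * v * (x : G)⁻¹) * x = v; group)
          right_inv := fun v => Subtype.ext (by change (x : G) * ((x : G)⁻¹ * v * (x : G)) * (x : G)⁻¹ = v; group) }
      map_one' := by
        ext v
        change (1 : G) * v * (1 : G)⁻¹ = v
        simp
      map_mul' := fun x y => by
        ext v
        change ((x : G) * y) * v * ((x : G) * y)⁻¹ = (x : G) * ((y : G) * v * (y : G)⁻¹) * (x : G)⁻¹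
        group }
  have h3 : Nat.card {v : G // v ∈ V ∧ v ≠ 1} = 3 := by
    have e : {v : G // v ∈ V ∧ v ≠ 1} ≃ {v : V // v ≠ 1} :=
      { toFun := fun v => ⟨⟨v, v.2.1⟩, fun hh => v.2.2 (congrArg Subtype.val hh)⟩
        invFun := fun v => ⟨v, v.1.2, fun hh => v.2 (Subtype.ext hh)⟩
        left_inv := fun v => rfl
        right_inv := fun v => rfl }
    rw [Nat.card_congr e]
    have : Fintype V := Fintype.ofFinite V
    rw [Nat.card_eq_fintype_card, Fintype.card_subtype_compl, ← Nat.card_eq_fintype_card, hV,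
      Fintype.card_subtype_eq]
  have h6 : Nat.card (Equiv.Perm {v : G // v ∈ V ∧ v ≠ 1}) = 6 := by
    rw [Nat.card_perm, h3]; rfl
  have hr : Nat.card f.range ≤ 6 := by
    rw [← h6]
    exact Nat.card_le_card_of_injective _ (Subtype.coe_injective)
  have hk : Nat.card f.ker ≤ Nat.card U := by
    refine Nat.card_le_card_of_injective (fun x : f.ker => (⟨(x : X), ?_⟩ : U)) ?_
    · apply hU _ (x : X).2
      intro v hv
      by_cases hv1 : v = 1
      · rw [hv1, mul_one, one_mul]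
      · have h7 : f x ⟨v, hv, hv1⟩ = ⟨v, hv, hv1⟩ := by
          have := x.2
          rw [MonoidHom.mem_ker] at this
          rw [this]; rfl
        have h8 := congrArg Subtype.val h7
        exact mul_inv_eq_iff_eq_mul.1 h8
    · intro x y hxy
      have := congrArg Subtype.val hxy
      exact Subtype.ext (Subtype.ext this)
  have hm : Nat.card X = Nat.card f.ker * Nat.card f.range := by
    rw [← card_mul_index f.ker, index_ker]
  rw [hm, mul_comm 6]
  exact Nat.mul_le_mul hk hr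

theorem normalizer_o2_eq (hL : IsCharacteristicTwoType G) (h : Ctx N B P Q) (h1 : o2 P = zl B P)
    (h4 : Nat.card (zc B) ≤ 4) : normalizer (o2 P : Set G) = P := by
  set X := normalizer (o2 P : Set G) with hXdef
  have hX : IsTwoLocal X := isTwoLocal_normalizer_o2 h h1
  have hPX : P ≤ X := le_normalizer_o2 P
  have hXP := le_normalizer_of_isTwoLocal h h1 hX hPX
  have hzl : ∀ x ∈ X, ∀ a ∈ zl B P, x * a * x⁻¹ ∈ zl B P := by
    intro x hx a ha
    rw [← h1] at ha ⊢
    exact (mem_normalizer_iff.1 hx a).1 ha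
  have hrlc : ∀ x ∈ X, ∀ a ∈ rl B P, x * a = a * x := by
    intro x hx a ha
    refine comm_of_card_le_two (card_rl_le h.blkP h4) (fun a ha => ?_) ha
    apply mem_rl_of_mem_zl h.blkP (hzl x hx a ((inf_le_left : rl B P ≤ zc B).trans (zc_le_zl B P) ha))
    intro y hy
    have h5 : x⁻¹ * y * x ∈ P := (mem_normalizer_iff''.1 (hXP hx) y).1 hy
    have h6 := mem_centralizer_iff.1 ha.2 _ h5
    calc y * (x * a * x⁻¹) = x * ((x⁻¹ * y * x) * a) * x⁻¹ := by group
      _ = x * (a * (x⁻¹ * y * x)) * x⁻¹ := by rw [h6]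
      _ = x * a * x⁻¹ * y := by group
  have hle : Nat.card X ≤ 6 * Nat.card (o2 P) := by
    apply card_le_of_acts h.blkP.card_vl (fun x hx v hv => vl_conj (hzl x hx) (hXP hx) hv)
    intro x hx hv
    apply centralizer_o2_le hL h h1 h4
    have h5 : rl B P ⊔ vl B P ≤ centralizer ({x} : Set G) := by
      apply sup_le
      · intro a ha
        exact mem_centralizer_singleton_iff.2 (hrlc x hx a ha).symm
      · intro a ha
        exact mem_centralizer_singleton_iff.2 (hv a ha).symm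
    rw [h.blkP.sup_eq, ← h1] at h5
    exact mem_centralizer_iff.2 fun a ha => mem_centralizer_singleton_iff.1 (h5 ha)
  symm
  apply Subgroup.eq_of_le_of_card_ge hPX
  have h2 := card_blk h.blkP
  have h3 := card_base h.blkP
  omega

omit [Finite G] in
theorem mem_centralizer_zpowers {x c : G} (h : x * c = c * x) : x ∈ centralizer (zpowers c : Set G) := by
  rw [mem_centralizer_iff]
  rintro _ ⟨k, rfl⟩
  exact ((Commute.zpow_right (show Commute x c from h) k).eq).symm

/-- All the data needed for the last step. -/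
theorem data (hL : IsCharacteristicTwoType G) (h : Ctx N B P Q) (h1 : o2 P = zl B P)
    (h2 : o2 Q = zl B Q) (h3 : o2 P ⊓ o2 Q = zc B) (h4 : Nat.card (zc B) ≤ 4) :
    ∃ e : ℕ, (e = 1 ∨ e = 2) ∧
      (∀ a ∈ o2 P, a * a = 1) ∧ (∀ a ∈ o2 Q, a * a = 1) ∧
      Nat.card (o2 P) = 4 * e ∧ Nat.card (o2 Q) = 4 * e ∧
      centralizer (o2 P : Set G) ≤ o2 P ∧ centralizer (o2 Q : Set G) ≤ o2 Q ∧
      Nat.card (normalizer (o2 P : Set G)) = 24 * e ∧ Nat.card (normalizer (o2 Q : Set G)) = 24 * e ∧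
      o2 P ≤ normalizer (o2 Q : Set G) ∧ o2 Q ≤ normalizer (o2 P : Set G) ∧
      Nat.card ↥(o2 P ⊓ o2 Q) = 2 * e ∧
      (e = 2 → ∃ c₁ ∈ o2 P, ∃ c₂ ∈ o2 Q, c₁ ≠ 1 ∧ c₂ ≠ 1 ∧ c₁ ≠ c₂ ∧
        (∀ x ∈ normalizer (o2 P : Set G), x * c₁ = c₁ * x) ∧
        (∀ x ∈ normalizer (o2 Q : Set G), x * c₂ = c₂ * x)) := by
  have hs := ctx_symm h
  have p1 := card_zc h.blkP
  have q1 := card_zc h.blkQ
  have p2 := card_zl h.blkP
  have q2 := card_zl h.blkQ
  rw [← h1] at p2
  rw [← h2] at q2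
  have p3 := card_blk h.blkP
  have q3 := card_blk h.blkQ
  have p4 := card_base h.blkP
  have q4 := card_base h.blkQ
  have p5 := card_rl_le h.blkP h4
  have p6 : 0 < Nat.card (rl B P) := Nat.card_pos
  have p7 := normalizer_o2_eq hL h h1 h4
  have q7 := normalizer_o2_eq hL hs h2 h4
  refine ⟨Nat.card (rl B P), by omega, ?_, ?_, p2, by omega, centralizer_o2_le hL h h1 h4,
    centralizer_o2_le hL hs h2 h4, by rw [p7]; omega, by rw [q7]; omega, ?_, ?_, by rw [h3]; omega, ?_⟩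
  · intro a ha
    rw [← pow_two]; exact h.blkP.zl_sq a (h1 ▸ ha)
  · intro a ha
    rw [← pow_two]; exact h.blkQ.zl_sq a (h2 ▸ ha)
  · exact (h.blkP.o2_le.trans h.blkQ.le).trans (le_normalizer_o2 Q)
  · exact (h.blkQ.o2_le.trans h.blkP.le).trans (le_normalizer_o2 P)
  · intro he
    have hP : rl B P ≠ ⊥ := fun hh => by rw [hh, card_bot] at he; omega
    have hQ : rl B Q ≠ ⊥ := fun hh => by rw [hh, card_bot] at q1; omega
    obtain ⟨c₁, hc₁, hc₁'⟩ := (rl B P).bot_or_exists_ne_one.resolve_left hP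
    obtain ⟨c₂, hc₂, hc₂'⟩ := (rl B Q).bot_or_exists_ne_one.resolve_left hQ
    refine ⟨c₁, zc_le_o2 h.blkP hc₁.1, c₂, zc_le_o2 h.blkQ hc₂.1, hc₁', hc₂', ?_, ?_, ?_⟩
    · rintro rfl
      apply hc₁'
      have h5 : zpowers c₁ = ⊥ := by
        apply h.core
        · rw [zpowers_le]
          exact zc_le B hc₁.1
        · intro x hx
          exact centralizer_le_normalizer _ (mem_centralizer_zpowers (mem_centralizer_iff.1 hc₁.2 x hx))
        · intro x hx
          exact centralizer_le_normalizer _ (mem_centralizer_zpowers (mem_centralizer_iff.1 hc₂.2 x hx))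
      exact zpowers_eq_bot.1 h5
    · intro x hx
      rw [p7] at hx
      exact mem_centralizer_iff.1 hc₁.2 x hx
    · intro x hx
      rw [q7] at hx
      exact mem_centralizer_iff.1 hc₂.2 x hx

end Main

end Cfsg.Agent.ZN.FinalBridge
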