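import Cfsg.Agent.ZN.BOne
import Cfsg.Agent.ZN.FinalBridge

set_option autoImplicit false

/-! # S0518, part [B], the case `b = 1`: from `Ctx` to the conclusion -/

namespace Cfsg.Agent.ZN.BOneBridge

open Subgroup Cfsg Cfsg.Agent.ZN Cfsg.Agent.ZN.BOne

universe u

variable {G : Type u} [Group G]

theorem mul_mem_of_relIndex_two {H K : Subgroup G} (h : H.relIndex K = 2) {x y : G} (hx : x ∈ K) (hy : y ∈ K)
    (hxH : x ∉ H) (hyH : y ∉ H) : x * y ∈ H := by
  have h1 : (H.subgroupOf K).index = 2 := h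
  have h2 := Subgroup.mul_mem_iff_of_index_two h1 (a := (⟨x, hx⟩ : K)) (b := ⟨y, hy⟩)
  simp only [Subgroup.mem_subgroupOf, Subgroup.coe_mul] at h2
  exact h2.2 ⟨fun h => absurd h hxH, fun h => absurd h hyH⟩

theorem zl_le_o2' {B P : Subgroup G} (h : IsBlk B P) : zl B P ≤ o2 P := by
  intro x hx
  rw [← h.cent_zl]
  exact ⟨FinalBridge.zl_le h.le hx, Subgroup.mem_centralizer_iff.2 fun y hy => h.zl_comm y hy x hx⟩

theorem raw {N B P Q : Subgroup G} (h : Ctx N B P Q) (hb : ¬ zl B Q ≤ o2 P) :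
    Raw B (zc B) ![P, Q] ![o2 P, o2 Q] ![zl B P, zl B Q] ![rl B P, rl B Q] where
  mem_ZJ x := by
    rw [FinalBridge.mem_zc, pow_two]
  Q_le := by
    rw [Fin.forall_fin_two]
    exact ⟨h.blkP.o2_le, h.blkQ.o2_le⟩
  Q_conj := by
    rw [Fin.forall_fin_two]
    exact ⟨fun g hg x hx => (Subgroup.mem_normalizer_iff.1 (FinalBridge.le_normalizer_o2 P hg) x).1 hx,
      fun g hg x hx => (Subgroup.mem_normalizer_iff.1 (FinalBridge.le_normalizer_o2 Q hg) x).1 hx⟩
  Q_two := by
    rw [Fin.forall_fin_two]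
    exact ⟨fun x hx y hy => mul_mem_of_relIndex_two h.blkP.o2_index hx hy,
      fun x hx y hy => mul_mem_of_relIndex_two h.blkQ.o2_index hx hy⟩
  Z_sq := by
    rw [Fin.forall_fin_two]
    exact ⟨fun z hz => by rw [← pow_two]; exact h.blkP.zl_sq z hz,
      fun z hz => by rw [← pow_two]; exact h.blkQ.zl_sq z hz⟩
  Z_le := by
    rw [Fin.forall_fin_two]
    exact ⟨zl_le_o2' h.blkP, zl_le_o2' h.blkQ⟩
  mem_Q := by
    rw [Fin.forall_fin_two]
    constructor
    · intro x hx hc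
      change x ∈ o2 P
      rw [← h.blkP.cent_zl]
      exact ⟨h.blkP.le hx, Subgroup.mem_centralizer_iff.2 fun z hz => (hc z hz).symm⟩
    · intro x hx hc
      change x ∈ o2 Q
      rw [← h.blkQ.cent_zl]
      exact ⟨h.blkQ.le hx, Subgroup.mem_centralizer_iff.2 fun z hz => (hc z hz).symm⟩
  Q_comm := by
    rw [Fin.forall_fin_two]
    constructor
    · intro x hx z hz
      change x ∈ o2 P at hx
      rw [← h.blkP.cent_zl] at hx
      exact (Subgroup.mem_centralizer_iff.1 hx.2 z hz).symm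
    · intro x hx z hz
      change x ∈ o2 Q at hx
      rw [← h.blkQ.cent_zl] at hx
      exact (Subgroup.mem_centralizer_iff.1 hx.2 z hz).symm
  ZJ_le := by
    rw [Fin.forall_fin_two]
    exact ⟨FinalBridge.zc_le_zl B P, FinalBridge.zc_le_zl B Q⟩
  R_le := by
    rw [Fin.forall_fin_two]
    exact ⟨inf_le_left, inf_le_left⟩
  R_two := by
    rw [Fin.forall_fin_two]
    exact ⟨fun x hx y hy => mul_mem_of_relIndex_two h.blkP.rl_index hx hy,
      fun x hx y hy => mul_mem_of_relIndex_two h.blkQ.rl_index hx hy⟩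
  R_comm := by
    rw [Fin.forall_fin_two]
    constructor
    · intro g hg x hx
      have h1 := Subgroup.mem_centralizer_iff.1 hx.2 g hg
      rw [h1]; group
    · intro g hg x hx
      have h1 := Subgroup.mem_centralizer_iff.1 hx.2 g hg
      rw [h1]; group
  core := by
    intro U hU hc
    rw [Fin.forall_fin_two] at hc
    apply h.core U hU
    · intro g hg
      rw [Subgroup.mem_normalizer_iff]
      intro x
      refine ⟨fun hx => hc.1 g hg x hx, fun hx => ?_⟩
      have h1 := hc.1 g⁻¹ (inv_mem hg) _ hx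
      simpa [mul_assoc] using h1
    · intro g hg
      rw [Subgroup.mem_normalizer_iff]
      intro x
      refine ⟨fun hx => hc.2 g hg x hx, fun hx => ?_⟩
      have h1 := hc.2 g⁻¹ (inv_mem hg) _ hx
      simpa [mul_assoc] using h1
  b_one := by
    obtain ⟨y, hy, hyP⟩ := SetLike.not_le_iff_exists.1 hb
    by_contra hne
    push Not at hne
    apply hyP
    rw [← h.blkP.cent_zl]
    have hyB : y ∈ B := h.blkQ.o2_le (zl_le_o2' h.blkQ hy)
    exact ⟨h.blkP.le hyB, Subgroup.mem_centralizer_iff.2 fun z hz => hne z hz y hy⟩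

/-- **[B], `b = 1`**. -/
theorem result [Finite G] {N B P Q : Subgroup G} (h : Ctx N B P Q) (hb : ¬ zl B Q ≤ o2 P) :
    o2 P = zl B P ∧ o2 Q = zl B Q ∧ o2 P ⊓ o2 Q = zc B ∧ Nat.card (zc B) ≤ 4 := by
  have hr := raw h hb
  exact ⟨hr.Q_eq_Z 0, hr.Q_eq_Z 1, hr.inf_eq, hr.card_ZJ_le⟩

end Cfsg.Agent.ZN.BOneBridge
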