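import Cfsg.Agent.ZN.AmalgamHyp
import Cfsg.Agent.ZN.AmalgamSecond
import Cfsg.Agent.ZN.BOneBridge

/-!
# ZN-groups (S0518), part [B]: amalgam analysis

Assembly of `AmalgamHyp.second` (first case of a critical pair), `AmalgamSecond.second_false` and
`BOneBridge.result` (`b = 1`).
-/

set_option autoImplicit false

namespace Cfsg.Agent.ZN.Amalgam

open Subgroup Cfsg

variable {G : Type*} [Group G]

/-- **Amalgam analysis.** Both `O₂(P)` and `O₂(Q)` are the vertex modules, and `|Ω₁(Z(B))| ≤ 4`. -/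
theorem result [Finite G] {N B P Q : Subgroup G} (h : Ctx N B P Q) :
    o2 P = zl B P ∧ o2 Q = zl B Q ∧ o2 P ⊓ o2 Q = zc B ∧ Nat.card (zc B) ≤ 4 := by
  by_cases h1 : zl B Q ≤ o2 P
  · by_cases h2 : zl B P ≤ o2 Q
    · exfalso
      rcases AmalgamHyp.second h h1 h2 with hU | hU
      · exact AmalgamSecond.second_false h h1 h2 hU
      · refine AmalgamSecond.second_false (AmalgamHyp.symm h) h2 h1 ?_
        rwa [sup_comm]
    · obtain ⟨a, b, c, d⟩ := BOneBridge.result (AmalgamHyp.symm h) h2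
      exact ⟨b, a, by rwa [inf_comm], d⟩
  · exact BOneBridge.result h h1

end Cfsg.Agent.ZN.Amalgam
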