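import Cfsg.Agent.ZN.StrDefs
import Cfsg.Agent.PLocal.ThompsonFrattini
import Cfsg.Agent.PLocal.FFBridge
import Cfsg.Agent.PLocal.FFFamily
import Cfsg.Agent.PLocal.FFTransport
import Cfsg.Agent.PLocal.FFCoprime
import Cfsg.Agent.Lib.Cores
import Cfsg.Agent.Lib.PSolvable

/-!
# ZN-groups (S0518), part [A1]: basic properties of `W = ⟨Ω₁(Z(T))^K⟩`
-/

set_option autoImplicit false

namespace Cfsg.Agent.ZN.FFBasic

open Subgroup Cfsg
open Cfsg.Agent.PLocal
open Cfsg.Agent.PLocal.ThompsonJ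
open Cfsg.Agent.PLocal.FFCoprime (omegaJoin omegaJoin_def)

universe u

variable {K : Type u} [Group K]

/-- A normal 2-subgroup-free statement: `O(K) = 1` if `C(O₂(K)) ≤ O₂(K)`. -/
theorem pPrimeCore_eq_bot [Finite K] (hc : centralizer (pCore 2 K : Set K) ≤ pCore 2 K) :
    pPrimeCore 2 K = ⊥ := by
  have h1 : (pPrimeCore 2 K).Normal := Lib.Cores.pPrimeCore_normal 2
  have h2 : (pCore 2 K).Normal := Lib.Cores.pCore_normal 2
  have hcop := Lib.Cores.pPrimeCore_coprime (G := K) 2
  have hp := Lib.Cores.pCore_isPGroup (G := K) 2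
  have h3 : Disjoint (pPrimeCore 2 K) (pCore 2 K) := by
    rw [disjoint_iff]
    haveI : Finite (pCore 2 K) := inferInstance
    obtain ⟨n, hn⟩ := IsPGroup.iff_card.1 hp
    apply Subgroup.inf_eq_bot_of_coprime
    rw [hn]
    exact hcop.pow_right n
  have h4 : pPrimeCore 2 K ≤ centralizer (pCore 2 K : Set K) := by
    intro x hx
    rw [mem_centralizer_iff]
    intro y hy
    exact (Subgroup.commute_of_normal_of_disjoint _ _ h1 h2 h3 x y hx hy).symm
  exact disjoint_self.1 (h3.mono_right (h4.trans hc))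

/-- A subgroup which is a 2-group of odd index, as a Sylow 2-subgroup. -/
theorem exists_sylow [Finite K] {T : Subgroup K} (hT : IsPGroup 2 T) (hTi : ¬ 2 ∣ T.index) :
    ∃ S : Sylow 2 K, (S : Subgroup K) = T := ⟨hT.toSylow hTi, rfl⟩

theorem zc_le (T : Subgroup K) : zc T ≤ T ⊓ centralizer (T : Set K) := by
  unfold zc omegaOne
  rw [closure_le]
  rintro x ⟨hx, -⟩
  exact hx

theorem mem_zc_of {T : Subgroup K} {x : K} (h1 : x ∈ T) (h2 : x ∈ centralizer (T : Set K))
    (h3 : x ^ 2 = 1) : x ∈ zc T := subset_closure ⟨⟨h1, h2⟩, h3⟩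

/-- Elements of `W`: `W` is elementary abelian and contains `Ω₁(Z(T))`. -/
theorem zc_le_omegaJoin (S : Sylow 2 K) : zc (S : Subgroup K) ≤ omegaJoin 2 K :=
  le_iSup (fun S : Sylow 2 K => omegaOne 2 ((S : Subgroup K) ⊓
    centralizer ((S : Subgroup K) : Set K))) S

theorem omegaJoin_le [Finite K] (hc : centralizer (pCore 2 K : Set K) ≤ pCore 2 K) :
    omegaJoin 2 K ≤ pCore 2 K := by
  rw [omegaJoin_def]
  refine iSup_le fun S => ?_
  refine (zc_le (S : Subgroup K)).trans (inf_le_right.trans ((centralizer_le ?_).trans hc))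
  exact Lib.Cores.pCore_le_sylow S

theorem pCore_le_centralizer : pCore 2 K ≤ centralizer (omegaJoin 2 K : Set K) := by
  rw [le_centralizer_iff, omegaJoin_def]
  refine iSup_le fun S => ?_
  refine (zc_le (S : Subgroup K)).trans (inf_le_right.trans (centralizer_le ?_))
  exact Lib.Cores.pCore_le_sylow S

/-- A 2-subgroup `D` of `T` equal to `T ∩ C` with `C` normal, `C ≤ N(T)`, is contained in `O₂`. -/
theorem inf_le_pCore [Finite K] {T C : Subgroup K} (hT : IsPGroup 2 T) (hTi : ¬ 2 ∣ T.index)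
    (hC : C.Normal) (hCT : C ≤ normalizer (T : Set K)) : T ⊓ C ≤ pCore 2 K := by
  obtain ⟨S, hS⟩ := exists_sylow hT hTi
  subst hS
  obtain ⟨P, hP⟩ := ThompsonFrattini.exists_sylow_subgroupOf S C
  -- `P` is normal in `C`, hence characteristic
  have hPn : (P : Subgroup C).Normal := by
    rw [hP]
    refine ⟨fun n hn g => ?_⟩
    rw [mem_subgroupOf] at hn ⊢
    exact (mem_normalizer_iff.1 (hCT g.2) n).1 hn
  have hPc : (P : Subgroup C).Characteristic := P.characteristic_of_normal hPn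
  have h1 : ((P : Subgroup C).map C.subtype).Normal := by
    rw [← normalizer_eq_top_iff, eq_top_iff]
    have h2 := FFBridge.normalizer_le_normalizer_map C _ hPc
    rwa [normalizer_eq_top_iff.2 hC] at h2
  have h3 : (P : Subgroup C).map C.subtype = (S : Subgroup K) ⊓ C := by
    rw [hP, subgroupOf_map_subtype]
  rw [← h3]
  refine Lib.Cores.le_pCore h1 ?_
  rw [h3]
  exact S.2.to_le inf_le_left

/-- `C_T(W) = O₂(K)`. -/
theorem inf_centralizer_eq [Finite K] {T : Subgroup K} (hT : IsPGroup 2 T) (hTi : ¬ 2 ∣ T.index)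
    (hZ : centralizer (zc T : Set K) ≤ normalizer (T : Set K)) :
    T ⊓ centralizer (omegaJoin 2 K : Set K) = pCore 2 K ∧
      centralizer (omegaJoin 2 K : Set K) ≤ normalizer (T : Set K) := by
  obtain ⟨S, hS⟩ := exists_sylow hT hTi
  have hWn : (omegaJoin 2 K).Normal :=
    haveI := FFCoprime.omegaJoin_characteristic 2 K; inferInstance
  have hCn : (centralizer (omegaJoin 2 K : Set K)).Normal := inferInstance
  have h1 : centralizer (omegaJoin 2 K : Set K) ≤ normalizer (T : Set K) := by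
    refine le_trans (centralizer_le ?_) hZ
    rw [← hS]
    exact zc_le_omegaJoin S
  refine ⟨le_antisymm (inf_le_pCore hT hTi hCn h1) (le_inf ?_ pCore_le_centralizer), h1⟩
  rw [← hS]
  exact Lib.Cores.pCore_le_sylow S

/-- `J(K)` does not centralize `W` if `J(T)` is not normal. -/
theorem not_le_centralizer [Finite K] {T : Subgroup K} (hT : IsPGroup 2 T) (hTi : ¬ 2 ∣ T.index)
    (hZ : centralizer (zc T : Set K) ≤ normalizer (T : Set K))
    (hJ : ¬ ⊤ ≤ normalizer (jj T : Set K)) :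
    ¬ thompsonSubgroup 2 K ≤ centralizer (omegaJoin 2 K : Set K) := by
  intro h
  apply hJ
  obtain ⟨S, hS⟩ := exists_sylow hT hTi
  obtain ⟨hT1, -⟩ := inf_centralizer_eq hT hTi hZ
  obtain ⟨A, hA, hAS⟩ := exists_max_le_sylow S
  rw [hS] at hAS
  have hAQ : A ≤ pCore 2 K := by
    rw [← hT1]
    exact le_inf hAS ((le_thompsonSubgroup hA).trans h)
  have h1 : jj T = jj (pCore 2 K) := by
    unfold jj
    rw [thompsonSubgroupOf_eq_sSup hA hAS, thompsonSubgroupOf_eq_sSup hA hAQ]
    congr 1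
    ext A'
    constructor
    · rintro ⟨h2, h3⟩
      refine ⟨h2, ?_⟩
      rw [← hT1]
      exact le_inf h3 ((le_thompsonSubgroup h2).trans h)
    · rintro ⟨h2, h3⟩
      refine ⟨h2, h3.trans ?_⟩
      rw [← hT1]; exact inf_le_left
  rw [h1]
  have h2 := ThompsonFrattini.normalizer_le_normalizer_thompson 2 (pCore 2 K)
  have h3 : (pCore 2 K).Normal := Lib.Cores.pCore_normal 2
  rwa [normalizer_eq_top_iff.2 h3] at h2

end Cfsg.Agent.ZN.FFBasic
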