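import Cfsg.Agent.ZN.StrDefs
import Cfsg.Agent.ZN.Plane
import Cfsg.Agent.ZN.FFBasic
import Cfsg.Agent.S0606

/-!
# ZN-groups (S0518), part [A1]: supports of maximal elementary abelian subgroups

For every plane `V i` moved by a maximal elementary abelian subgroup `A` there is an element of `A`
moving `V i` and centralizing all other planes.
-/

set_option autoImplicit false

namespace Cfsg.Agent.ZN.Support

open Subgroup Cfsg
open Cfsg.Agent.PLocal
open Cfsg.Agent.PLocal.ThompsonJ

universe u

variable {K : Type u} [Group K]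

theorem card_mul_relIndex {H L : Subgroup K} (h : H ≤ L) :
    Nat.card H * H.relIndex L = Nat.card L := by
  have h1 := relIndex_mul_relIndex ⊥ H L bot_le h
  rwa [relIndex_bot_left, relIndex_bot_left] at h1

/-- Elements of the join of two subgroups commuting elementwise are products. -/
theorem mem_sup_of_commute {H L : Subgroup K} (h : ∀ x ∈ H, ∀ y ∈ L, x * y = y * x) {z : K}
    (hz : z ∈ H ⊔ L) : ∃ x ∈ H, ∃ y ∈ L, z = x * y := by
  let S : Subgroup K :=
    { carrier := {z | ∃ x ∈ H, ∃ y ∈ L, z = x * y}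
      one_mem' := ⟨1, H.one_mem, 1, L.one_mem, by simp⟩
      mul_mem' := by
        rintro _ _ ⟨x, hx, y, hy, rfl⟩ ⟨x', hx', y', hy', rfl⟩
        refine ⟨x * x', H.mul_mem hx hx', y * y', L.mul_mem hy hy', ?_⟩
        calc x * y * (x' * y') = x * (y * x') * y' := by group
          _ = x * (x' * y) * y' := by rw [h x' hx' y hy]
          _ = x * x' * (y * y') := by group
      inv_mem' := by
        rintro _ ⟨x, hx, y, hy, rfl⟩
        refine ⟨x⁻¹, H.inv_mem hx, y⁻¹, L.inv_mem hy, ?_⟩
        rw [mul_inv_rev, h _ (H.inv_mem hx) _ (L.inv_mem hy)] }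
  have h1 : H ⊔ L ≤ S := sup_le (fun x hx => ⟨x, hx, 1, L.one_mem, by simp⟩)
    (fun y hy => ⟨1, H.one_mem, y, hy, by simp⟩)
  exact h1 hz

theorem mem_normalizer_conj {H : Subgroup K} {a x : K} (ha : a ∈ normalizer (H : Set K))
    (hx : x ∈ H) : a * x * a⁻¹ ∈ H := (mem_normalizer_iff.1 ha x).1 hx

/-- The join of a family normalized by `a` is normalized by `a`. -/
theorem mem_normalizer_iSup {ι : Sort*} {V : ι → Subgroup K} {a : K}
    (h : ∀ i, a ∈ normalizer ((V i : Subgroup K) : Set K)) :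
    a ∈ normalizer ((⨆ i, V i : Subgroup K) : Set K) := by
  rw [mem_normalizer_iff_map_conj_eq, Subgroup.map_iSup]
  congr 1
  funext i
  exact mem_normalizer_iff_map_conj_eq.1 (h i)

/-- Lower bound: if `A` moves the planes `V i`, `i ∈ s`, then `|W : C_W(A)| ≥ 2^|s|`. -/
theorem two_pow_le [Finite K] {W A : Subgroup K} {ι : Type} [DecidableEq ι]
    {V : ι → Subgroup K} (hVW : ∀ i, V i ≤ W)
    (Wcomm : ∀ x ∈ W, ∀ y ∈ W, x * y = y * x)
    (indep : iSupIndep V) (hA : ∀ i, A ≤ normalizer ((V i : Subgroup K) : Set K))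
    (s : Finset ι) (hs : ∀ i ∈ s, ∃ a ∈ A, ∃ v ∈ V i, a * v * a⁻¹ ≠ v) :
    2 ^ s.card * Nat.card ↥(W ⊓ centralizer (A : Set K)) ≤
      Nat.card ↥((W ⊓ centralizer (A : Set K)) ⊔ ⨆ i ∈ s, V i) := by
  induction s using Finset.induction_on with
  | empty => simp
  | insert i s hi ih =>
    have ih' := ih fun j hj => hs j (Finset.mem_insert_of_mem hj)
    rw [Finset.card_insert_of_notMem hi, pow_succ]
    set D := W ⊓ centralizer (A : Set K) with hD
    set U : Subgroup K := ⨆ j ∈ s, V j with hU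
    have hN' : D ⊔ (⨆ j ∈ insert i s, V j) = (D ⊔ U) ⊔ V i := by
      rw [Finset.iSup_insert, sup_comm (V i), sup_assoc]
    rw [hN']
    obtain ⟨a, ha, v, hv, hav⟩ := hs i (Finset.mem_insert_self i s)
    have hsW : U ≤ W := iSup₂_le fun j _ => hVW j
    have haU : a ∈ normalizer (U : Set K) :=
      mem_normalizer_iSup fun j => mem_normalizer_iSup fun _ => hA j ha
    have hdisj : Disjoint (V i) U := by
      refine (indep i).mono_right ?_
      refine iSup₂_le fun j hj => ?_
      have hji : j ≠ i := fun h => hi (h ▸ hj)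
      exact le_iSup₂ (f := fun (j : ι) (_ : j ≠ i) => V j) j hji
    have hvN : v ∉ D ⊔ U := by
      intro h
      obtain ⟨x, hx, y, hy, hxy⟩ := mem_sup_of_commute (H := D) (L := U)
        (fun x hx y hy => Wcomm x (mem_inf.1 hx).1 y (hsW hy)) h
      -- `a v a⁻¹ v⁻¹ = a y a⁻¹ y⁻¹`
      have hxa : a * x * a⁻¹ = x := by
        have := (mem_centralizer_iff.1 hx.2) a ha
        rw [this]; group
      have h1 : a * v * a⁻¹ * v⁻¹ = (a * y * a⁻¹) * y⁻¹ := by
        have h2 : a * v * a⁻¹ = x * (a * y * a⁻¹) := by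
          rw [hxy]
          calc a * (x * y) * a⁻¹ = (a * x * a⁻¹) * (a * y * a⁻¹) := by group
            _ = x * (a * y * a⁻¹) := by rw [hxa]
        have h3 := Wcomm x hx.1 _ (hsW (U.mul_mem (mem_normalizer_conj haU hy) (U.inv_mem hy)))
        rw [h2, hxy]
        calc x * (a * y * a⁻¹) * (x * y)⁻¹ = (x * (a * y * a⁻¹ * y⁻¹)) * x⁻¹ := by group
          _ = a * y * a⁻¹ * y⁻¹ := by rw [h3]; group
      have h4 : a * v * a⁻¹ * v⁻¹ ∈ V i :=
        (V i).mul_mem (mem_normalizer_conj (hA i ha) hv) ((V i).inv_mem hv)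
      have h5 : a * v * a⁻¹ * v⁻¹ ∈ U := by
        rw [h1]; exact U.mul_mem (mem_normalizer_conj haU hy) (U.inv_mem hy)
      have h6 := disjoint_def.1 hdisj h4 h5
      exact hav (mul_inv_eq_one.1 h6)
    have hlt : D ⊔ U < (D ⊔ U) ⊔ V i := by
      refine lt_of_le_of_ne le_sup_left fun h => hvN ?_
      rw [h]
      exact mem_sup_right hv
    have hdvd : Nat.card ↥(D ⊔ U) ∣ Nat.card ↥((D ⊔ U) ⊔ V i) := card_dvd_of_le hlt.le
    have hcard : Nat.card ↥(D ⊔ U) < Nat.card ↥((D ⊔ U) ⊔ V i) := by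
      refine lt_of_le_of_ne (Nat.le_of_dvd Nat.card_pos hdvd) fun h => hlt.ne ?_
      exact Subgroup.eq_of_le_of_card_ge hlt.le h.ge
    obtain ⟨c, hc⟩ := hdvd
    have hpos : 0 < Nat.card ↥(D ⊔ U) := Nat.card_pos
    have hc2 : 2 ≤ c := by
      by_contra h
      have : c ≤ 1 := by omega
      rw [hc] at hcard
      have : Nat.card ↥(D ⊔ U) * c ≤ Nat.card ↥(D ⊔ U) * 1 := Nat.mul_le_mul_left _ this
      omega
    rw [hc]
    calc 2 ^ s.card * 2 * Nat.card ↥D = (2 ^ s.card * Nat.card ↥D) * 2 := by ring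
      _ ≤ Nat.card ↥(D ⊔ U) * 2 := Nat.mul_le_mul_right _ ih'
      _ ≤ Nat.card ↥(D ⊔ U) * c := Nat.mul_le_mul_left _ hc2

/-- For a maximal elementary abelian subgroup `A` normalizing all planes and centralizing `C₀`, where
`W = C₀ ⊔ ⨆ V i`: if `A` moves `V i`, some element of `A` moves `V i` and centralizes all the
other planes. -/
theorem exists_single [Finite K] {W A C₀ : Subgroup K} [W.Normal] {ι : Type} [Finite ι]
    {V : ι → Subgroup K}
    (hWe : IsElementaryAbelian 2 W)
    (Wcomm : ∀ x ∈ W, ∀ y ∈ W, x * y = y * x)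
    (card : ∀ i, Nat.card (V i) = 4)
    (indep : iSupIndep V) (hsup : C₀ ⊔ (⨆ i, V i) = W)
    (hA : ∀ i, A ≤ normalizer ((V i : Subgroup K) : Set K))
    (hAC : C₀ ≤ centralizer (A : Set K))
    (hmax : A ∈ maxElementaryAbelianSubgroups 2 K)
    (i : ι) (hi : ∃ a ∈ A, ∃ v ∈ V i, a * v * a⁻¹ ≠ v) :
    ∃ a ∈ A, (∃ v ∈ V i, a * v * a⁻¹ ≠ v) ∧ ∀ j, j ≠ i → ∀ v ∈ V j, a * v = v * a := by
  classical
  have : Fintype ι := Fintype.ofFinite ι
  have hVW : ∀ i, V i ≤ W := fun i => by
    rw [← hsup]; exact (le_iSup V i).trans le_sup_right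
  have hA2 : IsPGroup 2 A := isPGroup_of_isElementaryAbelian hmax.1
  by_contra hcon
  push Not at hcon
  -- the set of moved planes
  set s : Finset ι := Finset.univ.filter fun i => ∃ a ∈ A, ∃ v ∈ V i, a * v * a⁻¹ ≠ v with hs
  have his : i ∈ s := by rw [hs, Finset.mem_filter]; exact ⟨Finset.mem_univ _, hi⟩
  have hlow := two_pow_le hVW Wcomm indep hA s (fun j hj => (Finset.mem_filter.1 hj).2)
  have hlow2 : 2 ^ s.card * Nat.card ↥(W ⊓ centralizer (A : Set K)) ≤ Nat.card W := by
    refine hlow.trans ?_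
    refine Nat.le_of_dvd Nat.card_pos (card_dvd_of_le ?_)
    exact sup_le inf_le_left (iSup₂_le fun j _ => hVW j)
  -- best offender
  have hbo := (S0606.result W hWe A hmax).1 (A ⊓ centralizer (W : Set K)) inf_le_left
  have hWC : W ⊓ centralizer ((A ⊓ centralizer (W : Set K) : Subgroup K) : Set K) = W := by
    rw [inf_eq_left]
    intro w hw
    rw [mem_centralizer_iff]
    intro a ha
    exact ((mem_centralizer_iff.1 (mem_inf.1 ha).2) w hw).symm
  rw [hWC] at hbo
  -- upper bound
  have hup : (A ⊓ centralizer (W : Set K)).relIndex A ≤ 2 ^ (s.card - 1) := by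
    have h1 : A ⊓ centralizer (W : Set K) =
        A ⊓ ⨅ j : {j : ι // j ∈ s.erase i}, centralizer ((V j : Subgroup K) : Set K) := by
      apply le_antisymm
      · refine le_inf inf_le_left (le_iInf fun j => inf_le_right.trans (centralizer_le ?_))
        exact hVW j
      · intro a ha
        obtain ⟨ha1, ha2⟩ := mem_inf.1 ha
        rw [mem_iInf] at ha2
        refine mem_inf.2 ⟨ha1, ?_⟩
        -- `a` centralizes every `V j`, `j ≠ i`
        have hj : ∀ j, j ≠ i → ∀ v ∈ V j, a * v = v * a := by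
          intro j hji v hv
          by_cases hjs : j ∈ s
          · exact ((mem_centralizer_iff.1 (ha2 ⟨j, Finset.mem_erase.2 ⟨hji, hjs⟩⟩)) v hv).symm
          · by_contra h
            apply hjs
            rw [hs, Finset.mem_filter]
            refine ⟨Finset.mem_univ _, a, ha1, v, hv, fun h' => h ?_⟩
            calc a * v = (a * v * a⁻¹) * a := by group
              _ = v * a := by rw [h']
        have hii : ∀ v ∈ V i, a * v = v * a := by
          intro v hv
          by_contra h
          obtain ⟨j, hji, v', hv', h'⟩ := hcon a ha1 ⟨v, hv, fun h' => h (by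
            calc a * v = (a * v * a⁻¹) * a := by group
              _ = v * a := by rw [h'])⟩
          exact h' (hj j hji v' hv')
        have hle : W ≤ centralizer ((zpowers a : Subgroup K) : Set K) := by
          rw [← hsup]
          refine sup_le ?_ (iSup_le fun j => ?_)
          · refine hAC.trans (centralizer_le ?_)
            exact (zpowers_le).2 ha1
          · rw [← le_centralizer_iff, zpowers_le, mem_centralizer_iff]
            intro v hv
            by_cases hji : j = i
            · subst hji; exact (hii v hv).symm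
            · exact (hj j hji v hv).symm
        rw [← le_centralizer_iff, zpowers_le] at hle
        exact hle
    rw [h1, inf_relIndex_left]
    have h2 := Subgroup.index_iInf_le (fun j : {j : ι // j ∈ s.erase i} =>
      (centralizer ((V j : Subgroup K) : Set K)).subgroupOf A)
    have h3 : (⨅ j : {j : ι // j ∈ s.erase i},
        (centralizer ((V j : Subgroup K) : Set K)).subgroupOf A) =
        (⨅ j : {j : ι // j ∈ s.erase i}, centralizer ((V j : Subgroup K) : Set K)).subgroupOf A := by
      ext x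
      simp only [mem_iInf, mem_subgroupOf]
    rw [h3] at h2
    refine h2.trans ?_
    have h4 : ∀ j : {j : ι // j ∈ s.erase i},
        ((centralizer ((V j : Subgroup K) : Set K)).subgroupOf A).index ≤ 2 := by
      intro j
      have h5 := Plane.relIndex_le_two (card j) (hA j) hA2
      change (centralizer ((V j : Subgroup K) : Set K)).relIndex A ≤ 2
      omega
    refine (Finset.prod_le_prod' (fun j _ => h4 j)).trans ?_
    rw [Finset.prod_const, Finset.card_univ, Fintype.card_coe, Finset.card_erase_of_mem his]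
  -- contradiction
  have hcardA : Nat.card A = Nat.card ↥(A ⊓ centralizer (W : Set K)) *
      (A ⊓ centralizer (W : Set K)).relIndex A :=
    (card_mul_relIndex inf_le_left).symm
  have hspos : 0 < s.card := Finset.card_pos.2 ⟨i, his⟩
  set a₀ := Nat.card ↥(A ⊓ centralizer (W : Set K)) with ha₀
  set w₀ := Nat.card ↥(W ⊓ centralizer (A : Set K)) with hw₀
  have ha₀p : 0 < a₀ := Nat.card_pos
  have hw₀p : 0 < w₀ := Nat.card_pos
  have h5 : 2 ^ s.card = 2 ^ (s.card - 1) * 2 := by
    rw [← pow_succ]; congr 1; omega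
  have h6 : a₀ * (2 ^ s.card * w₀) ≤ a₀ * 2 ^ (s.card - 1) * w₀ := by
    calc a₀ * (2 ^ s.card * w₀) ≤ a₀ * Nat.card W := Nat.mul_le_mul_left _ hlow2
      _ ≤ Nat.card A * w₀ := hbo
      _ = a₀ * (A ⊓ centralizer (W : Set K)).relIndex A * w₀ := by rw [hcardA]
      _ ≤ a₀ * 2 ^ (s.card - 1) * w₀ :=
          Nat.mul_le_mul_right _ (Nat.mul_le_mul_left _ hup)
  rw [h5] at h6
  have h7 : 0 < a₀ * 2 ^ (s.card - 1) * w₀ := by positivity
  nlinarith [h6, h7]

end Cfsg.Agent.ZN.Support
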