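import Cfsg.Agent.ZN.StrDefs
import Cfsg.Agent.ZN.Map
import Cfsg.Agent.ZN.ChoiceBase
import Cfsg.Agent.ZN.Plane
import Cfsg.Agent.ZN.Support
import Cfsg.Agent.ZN.FFBasic

/-!
# ZN-groups (S0518), part [A2]: the Baumann argument

From the data `FF` (structure theorem S0617) to `L0Data`. Everything except `L0Data.cY` is proved
from `FF0`, which is `FF` without the field `cJ`.
-/

set_option autoImplicit false

namespace Cfsg.Agent.ZN.Baumann

open Subgroup Cfsg
open Cfsg.Agent.PLocal.ThompsonJ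
open Cfsg.Agent.ZN.ChoiceBase

universe u

variable {K : Type u} [Group K]

/-! ### Planes -/

theorem plane_cases {V : Subgroup K} (hV : Nat.card V = 4) (hsq : ∀ v ∈ V, v ^ 2 = 1) {x y : K}
    (hx : x ∈ V) (hy : y ∈ V) (hx1 : x ≠ 1) (hy1 : y ≠ 1) (hxy : x ≠ y) {v : K} (hv : v ∈ V) :
    v = 1 ∨ v = x ∨ v = y ∨ v = x * y := by
  have hxx : x * x = 1 := by rw [← pow_two]; exact hsq x hx
  have h1 : x * y ≠ 1 := by
    intro h
    apply hxy
    have h2 : x * (x * y) = x * 1 := by rw [h]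
    rw [← mul_assoc, hxx, one_mul, mul_one] at h2
    exact h2.symm
  have h2 : x * y ≠ x := fun h => hy1 (mul_eq_left.1 h)
  have h3 : x * y ≠ y := fun h => hx1 (mul_eq_right.1 h)
  have hsub : ({1, x, y, x * y} : Set K) ⊆ (V : Set K) := by
    rintro z (rfl | rfl | rfl | rfl)
    · exact V.one_mem
    · exact hx
    · exact hy
    · exact V.mul_mem hx hy
  have hfin : (V : Set K).Finite := Nat.finite_of_card_ne_zero (by
    change Nat.card V ≠ 0
    omega)
  have hc : ({1, x, y, x * y} : Set K).ncard = 4 := by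
    rw [Set.ncard_insert_of_notMem, Set.ncard_insert_of_notMem, Set.ncard_pair h3.symm]
    · rintro (h | h)
      · exact hxy h
      · exact h2 h.symm
    · rintro (h | h | h)
      · exact hx1 h.symm
      · exact hy1 h.symm
      · exact h1 h.symm
  have heq : ({1, x, y, x * y} : Set K) = (V : Set K) := by
    refine Set.eq_of_subset_of_ncard_le hsub ?_ hfin
    rw [hc]
    change Nat.card V ≤ 4
    omega
  have h4 : v ∈ ({1, x, y, x * y} : Set K) := by rw [heq]; exact hv
  simpa using h4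

/-- An element acting as a 3-cycle has no nontrivial fixed point. -/
theorem three_cycle {V : Subgroup K} (hV : Nat.card V = 4) (hsq : ∀ v ∈ V, v ^ 2 = 1) {d : K}
    (hdn : ∀ v ∈ V, d * v * d⁻¹ ∈ V) (hd1 : ∃ v ∈ V, d * v * d⁻¹ ≠ v)
    (hd3 : ∀ v ∈ V, d ^ 3 * v * (d ^ 3)⁻¹ = v) {x : K} (hx : x ∈ V) (hx1 : x ≠ 1) :
    d * x * d⁻¹ ≠ x := by
  intro hf
  obtain ⟨v, hv, hv1⟩ := hd1
  have hvne : v ≠ 1 := by
    rintro rfl
    apply hv1; group
  have hxv : x ≠ v := by
    rintro rfl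
    exact hv1 hf
  have hdx : ∀ a b : K, d * a * d⁻¹ = d * b * d⁻¹ → a = b := by
    intro a b h
    have := congrArg (fun z => d⁻¹ * z * d) h
    simpa [mul_assoc] using this
  have h1 : d * v * d⁻¹ = x * v := by
    rcases plane_cases hV hsq hx hv hx1 hvne hxv (hdn v hv) with h | h | h | h
    · exfalso
      apply hvne
      apply hdx
      rw [h]; group
    · exfalso
      apply hxv
      apply hdx
      rw [h, hf]
    · exact absurd h hv1
    · exact h
  have hxx : x * x = 1 := by rw [← pow_two]; exact hsq x hx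
  have h2 : d * (d * v * d⁻¹) * d⁻¹ = v := by
    calc d * (d * v * d⁻¹) * d⁻¹ = d * (x * v) * d⁻¹ := by rw [h1]
      _ = (d * x * d⁻¹) * (d * v * d⁻¹) := by group
      _ = x * (x * v) := by rw [hf, h1]
      _ = v := by rw [← mul_assoc, hxx, one_mul]
  apply hv1
  have h3 := hd3 v hv
  have h4 : d ^ 3 * v * (d ^ 3)⁻¹ = d * (d * (d * v * d⁻¹) * d⁻¹) * d⁻¹ := by
    simp only [pow_succ, pow_zero, one_mul, mul_inv_rev, mul_assoc]
  rw [h4, h2] at h3
  exact h3

/-! ### The data without `cJ` -/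

/-- `FF` without the field `cJ`. -/
structure FF0 (T W : Subgroup K) {ι : Type} (V : ι → Subgroup K) : Prop where
  two : IsPGroup 2 T
  sylow : ¬ 2 ∣ T.index
  nonempty : Nonempty ι
  Wn : W.Normal
  Wcomm : ∀ x ∈ W, ∀ y ∈ W, x * y = y * x
  Wsq : ∀ x ∈ W, x ^ 2 = 1
  cQ : centralizer (pCore 2 K : Set K) ≤ pCore 2 K
  WQ : W ≤ pCore 2 K
  Wcent : pCore 2 K ≤ centralizer (W : Set K)
  cT : T ⊓ centralizer (W : Set K) = pCore 2 K
  card : ∀ i, Nat.card (V i) = 4
  indep : iSupIndep (fun o : Option ι =>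
    o.elim (W ⊓ centralizer (thompsonSubgroup 2 K : Set K)) V)
  sup : (W ⊓ centralizer (thompsonSubgroup 2 K : Set K)) ⊔ (⨆ i, V i) = W
  perm : ∀ (g : K) (i : ι), ∃ j, (V i).map (MulAut.conj g).toMonoidHom = V j
  nrm : ∀ i, thompsonSubgroup 2 K ≤ normalizer ((V i : Subgroup K) : Set K)
  d : ∀ i, ∃ d ∈ thompsonSubgroup 2 K, (∃ v ∈ V i, d * v * d⁻¹ ≠ v) ∧
    (∀ v ∈ V i, d ^ 3 * v * (d ^ 3)⁻¹ = v) ∧ ∀ j, j ≠ i → ∀ v ∈ V j, d * v = v * d
  t : ∀ i, ∃ t ∈ jj T, (∃ v ∈ V i, t * v * t⁻¹ ≠ v) ∧ ∀ j, j ≠ i → ∀ v ∈ V j, t * v = v * t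
  comm_le : ⁅zj (pCore 2 K), thompsonSubgroup 2 K⁆ ≤ W
  maxQ : ∃ A ∈ maxElementaryAbelianSubgroups 2 K, A ≤ pCore 2 K

theorem FF0.ofFF {T W : Subgroup K} {ι : Type} {V : ι → Subgroup K}
    (h : FF T W V) : FF0 T W V :=
  ⟨h.two, h.sylow, h.nonempty, h.Wn, h.Wcomm, h.Wsq, h.cQ, h.WQ, h.Wcent, h.cT, h.card, h.indep,
    h.sup, h.perm, h.nrm, h.d, h.t, h.comm_le, h.maxQ⟩

section Basic

variable {T W : Subgroup K} {ι : Type} {V : ι → Subgroup K}

theorem FF0.V_le (h : FF0 T W V) (i : ι) : V i ≤ W := by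
  rw [← h.sup]
  exact (le_iSup V i).trans le_sup_right

theorem FF0.indV (h : FF0 T W V) : iSupIndep V :=
  h.indep.comp (Option.some_injective ι)

theorem FF0.disj (h : FF0 T W V) {i j : ι} (hij : i ≠ j) : V i ⊓ V j = ⊥ :=
  disjoint_iff.1 (h.indV.pairwiseDisjoint hij)

theorem FF0.V_sq (h : FF0 T W V) (i : ι) : ∀ v ∈ V i, v ^ 2 = 1 :=
  fun v hv => h.Wsq v (h.V_le i hv)

theorem FF0.Vcomm (h : FF0 T W V) {i j : ι} {v w : K} (hv : v ∈ V i) (hw : w ∈ V j) :
    v * w = w * v := h.Wcomm v (h.V_le i hv) w (h.V_le j hw)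

theorem FF0.Q_le [Finite K] (h : FF0 T W V) : pCore 2 K ≤ T := by
  rw [← h.cT]; exact inf_le_left

/-- An element centralizing `C_W(J)` and all `V i` centralizes `W`. -/
theorem FF0.mem_centralizer (h : FF0 T W V) {g : K}
    (h0 : g ∈ centralizer ((W ⊓ centralizer (thompsonSubgroup 2 K : Set K) : Subgroup K) : Set K))
    (h1 : ∀ i, g ∈ centralizer ((V i : Subgroup K) : Set K)) :
    g ∈ centralizer (W : Set K) := by
  have h2 : W ≤ centralizer ({g} : Set K) := by
    rw [← h.sup]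
    refine sup_le ?_ (iSup_le fun i => ?_)
    · intro x hx
      rw [mem_centralizer_singleton_iff]
      exact mem_centralizer_iff.1 h0 x hx
    · intro x hx
      rw [mem_centralizer_singleton_iff]
      exact mem_centralizer_iff.1 (h1 i) x hx
  rw [mem_centralizer_iff]
  intro x hx
  exact mem_centralizer_singleton_iff.1 (h2 hx)

theorem FF0.J_le_centralizer :
    thompsonSubgroup 2 K ≤
      centralizer ((W ⊓ centralizer (thompsonSubgroup 2 K : Set K) : Subgroup K) : Set K) := by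
  rw [le_centralizer_iff]
  exact inf_le_right

theorem FF0.jj_le_J [Finite K] (h : FF0 T W V) : jj T ≤ thompsonSubgroup 2 K := by
  obtain ⟨A, hA, hAQ⟩ := h.maxQ
  exact thompsonSubgroupOf_le hA (hAQ.trans h.Q_le)

/-- Transvections `t i` with centre `x i` on `V i`. -/
structure TD (T : Subgroup K) (V : ι → Subgroup K) (t x : ι → K) : Prop where
  tmem : ∀ i, t i ∈ jj T
  xmem : ∀ i, x i ∈ V i
  xne : ∀ i, x i ≠ 1
  tx : ∀ i, t i * x i * (t i)⁻¹ = x i
  tv : ∀ i, ∀ v ∈ V i, v ≠ 1 → v ≠ x i → t i * v * (t i)⁻¹ = x i * v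
  tj : ∀ i j, j ≠ i → t i ∈ centralizer ((V j : Subgroup K) : Set K)
  tne : ∀ i, t i ∉ centralizer ((V i : Subgroup K) : Set K)

theorem FF0.exists_td [Finite K] (h : FF0 T W V) : ∃ t x : ι → K, TD T V t x := by
  have key : ∀ i, ∃ t x : K, t ∈ jj T ∧ x ∈ V i ∧ x ≠ 1 ∧ t * x * t⁻¹ = x ∧
      (∀ v ∈ V i, v ≠ 1 → v ≠ x → t * v * t⁻¹ = x * v) ∧
      (∀ j, j ≠ i → t ∈ centralizer ((V j : Subgroup K) : Set K)) ∧
      t ∉ centralizer ((V i : Subgroup K) : Set K) := by
    intro i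
    obtain ⟨t, ht, ⟨v, hv, hv1⟩, htj⟩ := h.t i
    have hn : jj T ≤ normalizer ((V i : Subgroup K) : Set K) := h.jj_le_J.trans (h.nrm i)
    have h2 : IsPGroup 2 (jj T) := h.two.to_le (thompsonSubgroupOf_le_self 2 T)
    have htn : t ∉ centralizer ((V i : Subgroup K) : Set K) := by
      intro hc
      apply hv1
      rw [← mem_centralizer_iff.1 hc v hv]; group
    have h3 : (centralizer ((V i : Subgroup K) : Set K)).relIndex (jj T) = 2 := by
      rcases Plane.relIndex_le_two (h.card i) hn h2 with h4 | h4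
      · rw [relIndex_eq_one] at h4
        exact absurd (h4 ht) htn
      · exact h4
    have h4 : t * t ∈ centralizer ((V i : Subgroup K) : Set K) := by
      have := Subgroup.mul_self_mem_of_index_two h3 ⟨t, ht⟩
      exact this
    have htv : t * v * t⁻¹ ∈ V i := Support.mem_normalizer_conj (hn ht) hv
    have hvv : v * v = 1 := by rw [← pow_two]; exact h.V_sq i v hv
    have htt : t * (t * v * t⁻¹) * t⁻¹ = v := by
      have h5 := mem_centralizer_iff.1 h4 v hv
      calc t * (t * v * t⁻¹) * t⁻¹ = (t * t * v) * (t * t)⁻¹ := by group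
        _ = (v * (t * t)) * (t * t)⁻¹ := by rw [← h5]
        _ = v := by group
    refine ⟨t, v * (t * v * t⁻¹), ht, (V i).mul_mem hv htv, ?_, ?_, ?_, ?_, htn⟩
    · intro h5
      apply hv1
      have h6 : v * (v * (t * v * t⁻¹)) = v * 1 := by rw [h5]
      rw [← mul_assoc, hvv, one_mul, mul_one] at h6
      exact h6
    · calc t * (v * (t * v * t⁻¹)) * t⁻¹ = (t * v * t⁻¹) * (t * (t * v * t⁻¹) * t⁻¹) := by group
        _ = (t * v * t⁻¹) * v := by rw [htt]
        _ = v * (t * v * t⁻¹) := h.Vcomm htv hv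
    · intro w hw hw1 hwx
      have hv1' : v ≠ 1 := by
        rintro rfl
        apply hv1; group
      have htv1 : t * v * t⁻¹ ≠ 1 := by
        intro h5
        apply hv1'
        rw [← htt, h5]; group
      rcases plane_cases (h.card i) (h.V_sq i) hv htv hv1' htv1 (fun h5 => hv1 h5.symm) hw with
        h5 | h5 | h5 | h5
      · exact absurd h5 hw1
      · rw [h5]
        calc t * v * t⁻¹ = (v * v) * (t * v * t⁻¹) := by rw [hvv, one_mul]
          _ = v * (v * (t * v * t⁻¹)) := by group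
          _ = v * ((t * v * t⁻¹) * v) := by rw [h.Vcomm hv htv]
          _ = v * (t * v * t⁻¹) * v := by group
      · have h6 : (t * v * t⁻¹) * (t * v * t⁻¹) = 1 := by
          rw [← pow_two]; exact h.V_sq i _ htv
        rw [h5, htt]
        calc v = v * ((t * v * t⁻¹) * (t * v * t⁻¹)) := by rw [h6, mul_one]
          _ = _ := by group
      · exact absurd h5 hwx
    · intro j hj
      rw [mem_centralizer_iff]
      intro w hw
      exact (htj j hj w hw).symm
  choose t x h1 h2 h3 h4 h5 h6 h7 using key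
  exact ⟨t, x, h1, h2, h3, h4, h5, h6, h7⟩

/-- A 2-subgroup `R` containing `t i` and normalizing `V i` fixes `x i`. -/
theorem FF0.fix [Finite K] (h : FF0 T W V) {t x : ι → K} (td : TD T V t x) {R : Subgroup K}
    (hR : IsPGroup 2 R) {i : ι} (hn : R ≤ normalizer ((V i : Subgroup K) : Set K))
    (ht : t i ∈ R) {r : K} (hr : r ∈ R) : r * x i * r⁻¹ = x i := by
  have h3 : (centralizer ((V i : Subgroup K) : Set K)).relIndex R = 2 := by
    rcases Plane.relIndex_le_two (h.card i) hn hR with h4 | h4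
    · rw [relIndex_eq_one] at h4
      exact absurd (h4 ht) (td.tne i)
    · exact h4
  by_cases hc : r ∈ centralizer ((V i : Subgroup K) : Set K)
  · rw [← mem_centralizer_iff.1 hc _ (td.xmem i)]; group
  · have h4 : r * t i ∈ centralizer ((V i : Subgroup K) : Set K) := by
      have h5 := Subgroup.mul_mem_iff_of_index_two h3 (a := ⟨r, hr⟩) (b := ⟨t i, ht⟩)
      rw [mem_subgroupOf, mem_subgroupOf, mem_subgroupOf] at h5
      refine h5.2 ⟨fun h6 => absurd h6 hc, fun h6 => absurd h6 (td.tne i)⟩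
    have h5 := mem_centralizer_iff.1 h4 _ (td.xmem i)
    calc r * x i * r⁻¹ = r * (t i * x i * (t i)⁻¹) * r⁻¹ := by rw [td.tx i]
      _ = (r * t i * x i) * (r * t i)⁻¹ := by group
      _ = (x i * (r * t i)) * (r * t i)⁻¹ := by rw [← h5]
      _ = x i := by group

theorem FF0.jj_nrm [Finite K] (h : FF0 T W V) (i : ι) :
    jj T ≤ normalizer ((V i : Subgroup K) : Set K) := h.jj_le_J.trans (h.nrm i)

theorem FF0.x_mem_zj [Finite K] (h : FF0 T W V) {t x : ι → K} (td : TD T V t x) (i : ι) :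
    x i ∈ zj T := by
  have h1 : ∀ y ∈ jj T, y * x i = x i * y := by
    intro y hy
    have h2 := h.fix td (h.two.to_le (thompsonSubgroupOf_le_self 2 T)) (h.jj_nrm i) (td.tmem i) hy
    calc y * x i = (y * x i * y⁻¹) * y := by group
      _ = x i * y := by rw [h2]
  have h3 : x i ^ 2 = 1 := h.V_sq i _ (td.xmem i)
  have h4 : x i ∈ T := h.Q_le (h.WQ (h.V_le i (td.xmem i)))
  exact mem_zj.2 ⟨mem_jj_of_comm h4 h3 h1, h3, h1⟩

/-- `C_W(J) ≤ Ω₁(Z(J(T)))`. -/
theorem FF0.CWJ_le_zj [Finite K] (h : FF0 T W V) :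
    W ⊓ centralizer (thompsonSubgroup 2 K : Set K) ≤ zj T := by
  intro w hw
  have h1 : ∀ y ∈ jj T, y * w = w * y := fun y hy =>
    mem_centralizer_iff.1 hw.2 y (h.jj_le_J hy)
  have h3 : w ^ 2 = 1 := h.Wsq w hw.1
  exact mem_zj.2 ⟨mem_jj_of_comm (h.Q_le (h.WQ hw.1)) h3 h1, h3, h1⟩

/-- An element normalizing all `V i` and fixing all `x i` acts on `⨆ V i` as an element of
`J(T)`. -/
theorem FF0.exists_corr [Finite K] (h : FF0 T W V) [Finite ι] {t x : ι → K} (td : TD T V t x)
    {g : K} (hg : ∀ i, g ∈ normalizer ((V i : Subgroup K) : Set K))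
    (hx : ∀ i, g * x i * g⁻¹ = x i) :
    ∃ u ∈ jj T, ∀ i, u * g ∈ centralizer ((V i : Subgroup K) : Set K) := by
  classical
  have key : ∀ s : Finset ι, ∃ u ∈ jj T,
      (∀ i ∈ s, u * g ∈ centralizer ((V i : Subgroup K) : Set K)) ∧
      (∀ i, i ∉ s → u ∈ centralizer ((V i : Subgroup K) : Set K)) := by
    intro s
    induction s using Finset.induction with
    | empty =>
      refine ⟨1, one_mem _, ?_, ?_⟩
      · intro i hi
        exact absurd hi (Finset.notMem_empty i)
      · intro i _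
        exact one_mem _
    | insert i s hi ih =>
      obtain ⟨u, hu, h1, h2⟩ := ih
      by_cases hgc : g ∈ centralizer ((V i : Subgroup K) : Set K)
      · refine ⟨u, hu, ?_, ?_⟩
        · intro j hj
          rcases Finset.mem_insert.1 hj with rfl | hj
          · exact mul_mem (h2 j hi) hgc
          · exact h1 j hj
        · intro j hj
          exact h2 j fun hj' => hj (Finset.mem_insert_of_mem hj')
      · refine ⟨t i * u, mul_mem (td.tmem i) hu, ?_, ?_⟩
        · intro j hj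
          rcases Finset.mem_insert.1 hj with rfl | hj2
          · -- the action on `V j`
            have hxx : x j * x j = 1 := by rw [← pow_two]; exact h.V_sq j _ (td.xmem j)
            have hmove : ∃ v ∈ V j, g * v * g⁻¹ ≠ v := by
              by_contra hcon
              push Not at hcon
              apply hgc
              rw [mem_centralizer_iff]
              intro v hv
              calc v * g = (g * v * g⁻¹) * g := by rw [hcon v hv]
                _ = g * v := by group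
            obtain ⟨v, hv, hv1⟩ := hmove
            have hv0 : v ≠ 1 := by
              rintro rfl
              apply hv1; group
            have hvx : x j ≠ v := by
              rintro rfl
              exact hv1 (hx j)
            have hgv : g * v * g⁻¹ = x j * v := by
              have hgi : ∀ a b : K, g * a * g⁻¹ = g * b * g⁻¹ → a = b := by
                intro a b hab
                have := congrArg (fun z => g⁻¹ * z * g) hab
                simpa [mul_assoc] using this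
              rcases plane_cases (h.card j) (h.V_sq j) (td.xmem j) hv (td.xne j) hv0 hvx
                (Support.mem_normalizer_conj (hg j) hv) with h5 | h5 | h5 | h5
              · exact absurd (hgi v 1 (by rw [h5]; group)) hv0
              · exact absurd (hgi v (x j) (by rw [h5, hx j])).symm hvx
              · exact absurd h5 hv1
              · exact h5
            have hu' : ∀ w ∈ V j, u * w * u⁻¹ = w := by
              intro w hw
              rw [← mem_centralizer_iff.1 (h2 j hi) w hw]; group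
            have htv := td.tv j
            have htx := td.tx j
            -- `t * g` fixes `v` and `x`
            have e1 : (t j * u * g) * v * (t j * u * g)⁻¹ = v := by
              have hxv1 : x j * v ≠ 1 := by
                intro h5
                apply hvx
                have h6 : x j * (x j * v) = x j * 1 := by rw [h5]
                rw [← mul_assoc, hxx, one_mul, mul_one] at h6
                exact h6.symm
              have hxv2 : x j * v ≠ x j := fun h5 => hv0 (mul_eq_left.1 h5)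
              have hxvm : x j * v ∈ V j := (V j).mul_mem (td.xmem j) hv
              calc (t j * u * g) * v * (t j * u * g)⁻¹
                  = t j * (u * (g * v * g⁻¹) * u⁻¹) * (t j)⁻¹ := by group
                _ = t j * (x j * v) * (t j)⁻¹ := by rw [hgv, hu' _ hxvm]
                _ = x j * (x j * v) := htv _ hxvm hxv1 hxv2
                _ = v := by rw [← mul_assoc, hxx, one_mul]
            have e2 : (t j * u * g) * x j * (t j * u * g)⁻¹ = x j := by
              calc (t j * u * g) * x j * (t j * u * g)⁻¹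
                  = t j * (u * (g * x j * g⁻¹) * u⁻¹) * (t j)⁻¹ := by group
                _ = x j := by rw [hx j, hu' _ (td.xmem j), htx]
            rw [mem_centralizer_iff]
            intro w hw
            have e3 : (t j * u * g) * w * (t j * u * g)⁻¹ = w := by
              rcases plane_cases (h.card j) (h.V_sq j) (td.xmem j) hv (td.xne j) hv0 hvx hw with
                rfl | rfl | rfl | rfl
              · group
              · exact e2
              · exact e1
              · calc (t j * u * g) * (x j * v) * (t j * u * g)⁻¹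
                    = ((t j * u * g) * x j * (t j * u * g)⁻¹) *
                      ((t j * u * g) * v * (t j * u * g)⁻¹) := by group
                  _ = x j * v := by rw [e1, e2]
            calc w * (t j * u * g) = ((t j * u * g) * w * (t j * u * g)⁻¹) * (t j * u * g) := by
                  rw [e3]
              _ = (t j * u * g) * w := by group
          · rw [mul_assoc]
            refine mul_mem (td.tj i j ?_) (h1 j hj2)
            rintro rfl
            exact hi hj2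
        · intro j hj
          refine mul_mem (td.tj i j ?_) (h2 j fun hj' => hj (Finset.mem_insert_of_mem hj'))
          rintro rfl
          exact hj (Finset.mem_insert_self _ _)
  have := Fintype.ofFinite ι
  obtain ⟨u, hu, h1, -⟩ := key Finset.univ
  exact ⟨u, hu, fun i => h1 i (Finset.mem_univ i)⟩

/-! ### `Ω₁(Z(J(T)))` -/

theorem max_le_jj {T A : Subgroup K}
    (hA : A ∈ maxElementaryAbelianSubgroups 2 K) (hAT : A ≤ T) : A ≤ jj T := by
  unfold jj
  rw [thompsonSubgroupOf_eq_sSup hA hAT]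
  exact le_sSup ⟨hA, hAT⟩

theorem zj_le_max [Finite K] {T A : Subgroup K}
    (hA : A ∈ maxElementaryAbelianSubgroups 2 K) (hAT : A ≤ T) : zj T ≤ A := by
  intro z hz
  have hz' := mem_zj.1 hz
  refine PLocal.ElemAbSup.mem_of_mem_centralizer_of_mem_max hA ?_ hz'.2.1
  rw [mem_centralizer_iff]
  intro a ha
  exact hz'.2.2 a (max_le_jj hA hAT ha)

theorem FF0.zj_le_Q [Finite K] (h : FF0 T W V) : zj T ≤ pCore 2 K := by
  obtain ⟨A, hA, hAQ⟩ := h.maxQ
  exact (zj_le_max hA (hAQ.trans h.Q_le)).trans hAQ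

theorem FF0.zj_le_zjQ [Finite K] (h : FF0 T W V) : zj T ≤ zj (pCore 2 K) := by
  obtain ⟨A, hA, hAQ⟩ := h.maxQ
  have hle : jj (pCore 2 K) ≤ jj T := by
    unfold jj
    rw [thompsonSubgroupOf_eq_sSup hA hAQ, thompsonSubgroupOf_eq_sSup hA (hAQ.trans h.Q_le)]
    exact sSup_le_sSup fun A' hA' => ⟨hA'.1, hA'.2.trans h.Q_le⟩
  have hAj : A ≤ jj (pCore 2 K) := by
    unfold jj
    rw [thompsonSubgroupOf_eq_sSup hA hAQ]
    exact le_sSup ⟨hA, hAQ⟩
  intro z hz
  have hz' := mem_zj.1 hz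
  exact mem_zj.2 ⟨hAj (zj_le_max hA (hAQ.trans h.Q_le) hz), hz'.2.1,
    fun y hy => hz'.2.2 y (hle hy)⟩

theorem FF0.comm_mem [Finite K] (h : FF0 T W V) {j z : K} (hj : j ∈ thompsonSubgroup 2 K)
    (hz : z ∈ zj T) : j * z * j⁻¹ * z⁻¹ ∈ W := by
  apply h.comm_le
  rw [commutator_comm]
  exact commutator_mem_commutator hj (h.zj_le_zjQ hz)

theorem FF0.WT [Finite K] (h : FF0 T W V) : W ≤ T := h.WQ.trans h.Q_le

/-- `W` centralizes `Ω₁(Z(J(T)))`. -/
theorem FF0.zj_W_comm [Finite K] (h : FF0 T W V) {z w : K} (hz : z ∈ zj T) (hw : w ∈ W) :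
    z * w = w * z :=
  (mem_centralizer_iff.1 (h.Wcent (h.zj_le_Q hz)) w hw).symm

theorem FF0.W_le_bau [Finite K] (h : FF0 T W V) : W ≤ bau T := by
  intro w hw
  exact mem_bau.2 ⟨h.WT hw, fun z hz => h.zj_W_comm hz hw⟩

theorem zj_comm {T : Subgroup K} {a b : K} (ha : a ∈ zj T) (hb : b ∈ zj T) : a * b = b * a :=
  (mem_zj.1 hb).2.2 a (mem_zj.1 ha).1

/-- `Y₀ = Ω₁(Z(J(T))) W` as a set of products. -/
theorem FF0.mem_Y [Finite K] (h : FF0 T W V) {y : K} (hy : y ∈ zj T ⊔ W) :
    ∃ z ∈ zj T, ∃ w ∈ W, y = z * w :=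
  Support.mem_sup_of_commute (fun _ hz _ hw => h.zj_W_comm hz hw) hy

theorem FF0.Y_comm [Finite K] (h : FF0 T W V) {a b : K} (ha : a ∈ zj T ⊔ W)
    (hb : b ∈ zj T ⊔ W) : a * b = b * a := by
  obtain ⟨z, hz, w, hw, rfl⟩ := h.mem_Y ha
  obtain ⟨z', hz', w', hw', rfl⟩ := h.mem_Y hb
  calc z * w * (z' * w') = z * (w * z') * w' := by group
    _ = z * (z' * w) * w' := by rw [h.zj_W_comm hz' hw]
    _ = (z * z') * (w * w') := by group
    _ = (z' * z) * (w' * w) := by rw [zj_comm hz hz', h.Wcomm w hw w' hw']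
    _ = z' * (z * w') * w := by group
    _ = z' * (w' * z) * w := by rw [h.zj_W_comm hz hw']
    _ = z' * w' * (z * w) := by group

theorem FF0.Y_sq [Finite K] (h : FF0 T W V) {a : K} (ha : a ∈ zj T ⊔ W) : a ^ 2 = 1 := by
  obtain ⟨z, hz, w, hw, rfl⟩ := h.mem_Y ha
  have hc : Commute z w := h.zj_W_comm hz hw
  rw [hc.mul_pow, (mem_zj.1 hz).2.1, h.Wsq w hw, one_mul]

/-- `J` normalizes `Y₀`. -/
theorem FF0.Y_conj [Finite K] (h : FF0 T W V) {j y : K} (hj : j ∈ thompsonSubgroup 2 K)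
    (hy : y ∈ zj T ⊔ W) : j * y * j⁻¹ ∈ zj T ⊔ W := by
  obtain ⟨z, hz, w, hw, rfl⟩ := h.mem_Y hy
  have hWn := h.Wn
  have e : j * (z * w) * j⁻¹ = (j * z * j⁻¹ * z⁻¹) * z * (j * w * j⁻¹) := by group
  rw [e]
  exact mul_mem (mul_mem (mem_sup_right (h.comm_mem hj hz)) (mem_sup_left hz))
    (mem_sup_right (hWn.conj_mem w hw j))

/-- `Y₀ = Ω₁(Z(J(T))) ∏ V i`. -/
theorem FF0.Y_eq [Finite K] (h : FF0 T W V) : zj T ⊔ W = zj T ⊔ ⨆ i, V i := by
  apply le_antisymm
  · refine sup_le le_sup_left ?_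
    have := h.sup
    calc W = (W ⊓ centralizer (thompsonSubgroup 2 K : Set K)) ⊔ (⨆ i, V i) := h.sup.symm
      _ ≤ zj T ⊔ ⨆ i, V i := sup_le_sup_right h.CWJ_le_zj _
  · exact sup_le_sup_left (iSup_le h.V_le) _

/-- `C_J(W) = C_J(Y₀) (J ∩ O₂(K))`, elementwise. -/
theorem FF0.exists_split [Finite K] (h : FF0 T W V) {c : K} (hc : c ∈ thompsonSubgroup 2 K)
    (hcW : c ∈ centralizer (W : Set K)) :
    ∃ a ∈ centralizer ((zj T ⊔ W : Subgroup K) : Set K), ∃ q ∈ pCore 2 K, c = a * q := by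
  have hWn := h.Wn
  have hQn : (pCore 2 K).Normal := Cfsg.Agent.Lib.Cores.pCore_normal 2
  -- `c ^ 2` centralizes `Y₀`
  have h1 : c ^ 2 ∈ centralizer ((zj T ⊔ W : Subgroup K) : Set K) := by
    rw [mem_centralizer_iff]
    intro y hy
    obtain ⟨z, hz, w, hw, rfl⟩ := h.mem_Y hy
    have hcw : ∀ w ∈ W, c * w * c⁻¹ = w := by
      intro w hw
      rw [← mem_centralizer_iff.1 hcW w hw]; group
    have hu : c * z * c⁻¹ * z⁻¹ ∈ W := h.comm_mem hc hz
    have hu2 : (c * z * c⁻¹ * z⁻¹) * (c * z * c⁻¹ * z⁻¹) = 1 := by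
      rw [← pow_two]; exact h.Wsq _ hu
    have e1 : c ^ 2 * z * (c ^ 2)⁻¹ = z := by
      calc c ^ 2 * z * (c ^ 2)⁻¹ = c * (c * z * c⁻¹ * z⁻¹) * c⁻¹ * (c * z * c⁻¹ * z⁻¹) * z := by
            simp only [pow_two]; group
        _ = (c * z * c⁻¹ * z⁻¹) * (c * z * c⁻¹ * z⁻¹) * z := by rw [hcw _ hu]
        _ = z := by rw [hu2, one_mul]
    have e2 : c ^ 2 * w * (c ^ 2)⁻¹ = w := by
      calc c ^ 2 * w * (c ^ 2)⁻¹ = c * (c * w * c⁻¹) * c⁻¹ := by
            simp only [pow_two]; group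
        _ = w := by rw [hcw _ hw, hcw _ hw]
    calc z * w * c ^ 2 = (c ^ 2 * z * (c ^ 2)⁻¹) * (c ^ 2 * w * (c ^ 2)⁻¹) * c ^ 2 := by
          rw [e1, e2]
      _ = c ^ 2 * (z * w) := by group
  -- an odd power of `c` lies in `Q`
  have h2 : ∃ n : ℕ, ¬ 2 ∣ n ∧ c ^ n ∈ pCore 2 K := by
    have hCn : (centralizer (W : Set K)).Normal := inferInstance
    refine ⟨(pCore 2 K).relIndex (centralizer (W : Set K)), ?_, ?_⟩
    · rw [← h.cT, inf_relIndex_right]
      intro h3
      obtain ⟨S, hS⟩ := FFBasic.exists_sylow h.two h.sylow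
      refine PLocal.ThompsonFrattini.not_dvd_relIndex_of_sylow_le S T
        (centralizer (W : Set K)) hS.le h3
    · have hn' : ((pCore 2 K).subgroupOf (centralizer (W : Set K))).Normal :=
        hQn.subgroupOf _
      have := Subgroup.pow_index_mem ((pCore 2 K).subgroupOf (centralizer (W : Set K)))
        (⟨c, hcW⟩ : centralizer (W : Set K))
      exact this
  obtain ⟨n, hn, hcn⟩ := h2
  obtain ⟨m, hm⟩ : ∃ m, n = 2 * m + 1 := ⟨n / 2, by omega⟩
  refine ⟨(c ^ 2) ^ (m + 1), pow_mem h1 _, (c ^ n)⁻¹, inv_mem hcn, ?_⟩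
  rw [← pow_mul, hm, eq_mul_inv_iff_mul_eq, ← pow_succ']
  congr 1

/-! ### A second Sylow-like subgroup -/

/-- An element `d` of `J` moving all `x i`. -/
theorem FF0.exists_d [Finite K] (h : FF0 T W V) [Finite ι] {x : ι → K}
    (hx : ∀ i, x i ∈ V i) (hx1 : ∀ i, x i ≠ 1) :
    ∃ d ∈ thompsonSubgroup 2 K, ∀ i, d * x i * d⁻¹ ≠ x i := by
  classical
  have key : ∀ s : Finset ι, ∃ d ∈ thompsonSubgroup 2 K, (∀ i ∈ s, d * x i * d⁻¹ ≠ x i) ∧
      (∀ i, i ∉ s → d ∈ centralizer ((V i : Subgroup K) : Set K)) := by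
    intro s
    induction s using Finset.induction with
    | empty =>
      refine ⟨1, one_mem _, ?_, ?_⟩
      · intro i hi
        exact absurd hi (Finset.notMem_empty i)
      · intro i _
        exact one_mem _
    | insert i s hi ih =>
      obtain ⟨d, hd, h1, h2⟩ := ih
      obtain ⟨e, he, he1, he3, hej⟩ := h.d i
      have hen : ∀ j, ∀ v ∈ V j, e * v * e⁻¹ ∈ V j := fun j v hv =>
        Support.mem_normalizer_conj (h.nrm j he) hv
      have hdn : ∀ j, ∀ v ∈ V j, d * v * d⁻¹ ∈ V j := fun j v hv =>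
        Support.mem_normalizer_conj (h.nrm j hd) hv
      refine ⟨e * d, mul_mem he hd, ?_, ?_⟩
      · intro j hj
        rcases Finset.mem_insert.1 hj with rfl | hj2
        · have e1 : d * x j * d⁻¹ = x j := by
            rw [← mem_centralizer_iff.1 (h2 j hi) _ (hx j)]; group
          have e2 : e * d * x j * (e * d)⁻¹ = e * (d * x j * d⁻¹) * e⁻¹ := by group
          rw [e2, e1]
          exact three_cycle (h.card j) (h.V_sq j) (hen j) he1 he3 (hx j) (hx1 j)
        · have hji : j ≠ i := by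
            rintro rfl
            exact hi hj2
          have e2 : e * d * x j * (e * d)⁻¹ = e * (d * x j * d⁻¹) * e⁻¹ := by group
          have e3 : e * (d * x j * d⁻¹) * e⁻¹ = d * x j * d⁻¹ := by
            rw [hej j hji _ (hdn j _ (hx j))]; group
          rw [e2, e3]
          exact h1 j hj2
      · intro j hj
        have hji : j ≠ i := by
          rintro rfl
          exact hj (Finset.mem_insert_self _ _)
        refine mul_mem ?_ (h2 j fun hj' => hj (Finset.mem_insert_of_mem hj'))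
        rw [mem_centralizer_iff]
        intro v hv
        exact (hej j hji v hv).symm
  have := Fintype.ofFinite ι
  obtain ⟨d, hd, h1, -⟩ := key Finset.univ
  exact ⟨d, hd, fun i => h1 i (Finset.mem_univ i)⟩

/-- The conjugates by `d` of the transvections. -/
structure SD (V : ι → Subgroup K) (t x s y : ι → K) (d : K) : Prop where
  yx : ∀ i, y i ≠ x i
  ymem : ∀ i, y i ∈ V i
  yne : ∀ i, y i ≠ 1
  y_def : ∀ i, y i = d * x i * d⁻¹
  s_def : ∀ i, s i = d * t i * d⁻¹
  sy : ∀ i, s i * y i * (s i)⁻¹ = y i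
  sv : ∀ i, ∀ v ∈ V i, v ≠ 1 → v ≠ y i → s i * v * (s i)⁻¹ = y i * v
  sj : ∀ i j, j ≠ i → s i ∈ centralizer ((V j : Subgroup K) : Set K)

theorem conj_mem_centralizer {U : Subgroup K} {a d : K} (hd : d ∈ normalizer (U : Set K))
    (ha : a ∈ centralizer (U : Set K)) : d * a * d⁻¹ ∈ centralizer (U : Set K) := by
  rw [mem_centralizer_iff] at ha ⊢
  intro v hv
  have h1 : d⁻¹ * v * d ∈ U := by
    have := (mem_normalizer_iff.1 (inv_mem hd) v).1 hv
    rwa [inv_inv] at this
  have h2 := ha _ h1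
  calc v * (d * a * d⁻¹) = d * ((d⁻¹ * v * d) * a) * d⁻¹ := by group
    _ = d * (a * (d⁻¹ * v * d)) * d⁻¹ := by rw [h2]
    _ = d * a * d⁻¹ * v := by group

theorem FF0.exists_sd [Finite K] (h : FF0 T W V) {t x : ι → K} (td : TD T V t x) {d : K}
    (hd : d ∈ thompsonSubgroup 2 K) (hdx : ∀ i, d * x i * d⁻¹ ≠ x i) :
    SD V t x (fun i => d * t i * d⁻¹) (fun i => d * x i * d⁻¹) d := by
  have hdn : ∀ j, ∀ v ∈ V j, d * v * d⁻¹ ∈ V j := fun j v hv =>
    Support.mem_normalizer_conj (h.nrm j hd) hv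
  refine ⟨hdx, fun i => hdn i _ (td.xmem i), ?_, fun _ => rfl, fun _ => rfl, ?_, ?_, ?_⟩
  · intro i h1
    apply td.xne i
    have := congrArg (fun z => d⁻¹ * z * d) h1
    simpa [mul_assoc] using this
  · intro i
    calc d * t i * d⁻¹ * (d * x i * d⁻¹) * (d * t i * d⁻¹)⁻¹
        = d * (t i * x i * (t i)⁻¹) * d⁻¹ := by group
      _ = d * x i * d⁻¹ := by rw [td.tx i]
  · intro i v hv hv1 hvy
    have h1 : d⁻¹ * v * d ∈ V i := by
      have := (mem_normalizer_iff.1 (inv_mem (h.nrm i hd)) v).1 hv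
      rwa [inv_inv] at this
    have h2 := td.tv i (d⁻¹ * v * d) h1 (by
      intro h3
      apply hv1
      calc v = d * (d⁻¹ * v * d) * d⁻¹ := by group
        _ = 1 := by rw [h3]; group) (by
      intro h3
      apply hvy
      calc v = d * (d⁻¹ * v * d) * d⁻¹ := by group
        _ = _ := by rw [h3])
    calc d * t i * d⁻¹ * v * (d * t i * d⁻¹)⁻¹
        = d * (t i * (d⁻¹ * v * d) * (t i)⁻¹) * d⁻¹ := by group
      _ = d * (x i * (d⁻¹ * v * d)) * d⁻¹ := by rw [h2]
      _ = d * x i * d⁻¹ * v := by group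
  · intro i j hj
    exact conj_mem_centralizer (h.nrm j hd) (td.tj i j hj)

/-- Elements of `⟨J(T), J(T)^d⟩` move the `x i` independently as elements of `J` do. -/
theorem FF0.exists_m [Finite K] (h : FF0 T W V) [Finite ι] {t x s y : ι → K} (td : TD T V t x)
    {d : K} (sd : SD V t x s y d) {M : Subgroup K} (htM : ∀ i, t i ∈ M) (hsM : ∀ i, s i ∈ M)
    {g : K} (hg : g ∈ thompsonSubgroup 2 K) :
    ∃ m ∈ M, ∀ i, m * x i * m⁻¹ = g * x i * g⁻¹ := by
  classical
  have single : ∀ i, ∃ m ∈ M, m * x i * m⁻¹ = g * x i * g⁻¹ ∧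
      ∀ j, j ≠ i → m ∈ centralizer ((V j : Subgroup K) : Set K) := by
    intro i
    have hgx : g * x i * g⁻¹ ∈ V i := Support.mem_normalizer_conj (h.nrm i hg) (td.xmem i)
    have hxx : x i * x i = 1 := by rw [← pow_two]; exact h.V_sq i _ (td.xmem i)
    have hyy : y i * y i = 1 := by rw [← pow_two]; exact h.V_sq i _ (sd.ymem i)
    have hsx : s i * x i * (s i)⁻¹ = y i * x i :=
      sd.sv i _ (td.xmem i) (td.xne i) (sd.yx i).symm
    rcases plane_cases (h.card i) (h.V_sq i) (td.xmem i) (sd.ymem i) (td.xne i) (sd.yne i)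
      (sd.yx i).symm hgx with h1 | h1 | h1 | h1
    · exfalso
      apply td.xne i
      have := congrArg (fun z => g⁻¹ * z * g) h1
      simpa [mul_assoc] using this
    · refine ⟨1, one_mem _, by rw [h1]; group, fun j _ => one_mem _⟩
    · refine ⟨t i * s i, mul_mem (htM i) (hsM i), ?_, fun j hj =>
        mul_mem (td.tj i j hj) (sd.sj i j hj)⟩
      have hyx1 : y i * x i ≠ 1 := by
        intro h5
        apply sd.yx i
        have h6 : y i * x i * x i = 1 * x i := by rw [h5]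
        rwa [mul_assoc, hxx, mul_one, one_mul] at h6
      have hyx2 : y i * x i ≠ x i := fun h5 => sd.yne i (mul_eq_right.1 h5)
      rw [h1]
      calc t i * s i * x i * (t i * s i)⁻¹ = t i * (s i * x i * (s i)⁻¹) * (t i)⁻¹ := by group
        _ = t i * (y i * x i) * (t i)⁻¹ := by rw [hsx]
        _ = x i * (y i * x i) := td.tv i _ ((V i).mul_mem (sd.ymem i) (td.xmem i)) hyx1 hyx2
        _ = x i * (x i * y i) := by rw [h.Vcomm (sd.ymem i) (td.xmem i)]
        _ = y i := by rw [← mul_assoc, hxx, one_mul]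
    · refine ⟨s i, hsM i, ?_, fun j hj => sd.sj i j hj⟩
      rw [hsx, h1, h.Vcomm (sd.ymem i) (td.xmem i)]
  have key : ∀ r : Finset ι, ∃ m ∈ M, (∀ i ∈ r, m * x i * m⁻¹ = g * x i * g⁻¹) ∧
      (∀ i, i ∉ r → m ∈ centralizer ((V i : Subgroup K) : Set K)) := by
    intro r
    induction r using Finset.induction with
    | empty =>
      refine ⟨1, one_mem _, ?_, ?_⟩
      · intro i hi
        exact absurd hi (Finset.notMem_empty i)
      · intro i _
        exact one_mem _
    | insert i r hi ih =>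
      obtain ⟨m, hm, h1, h2⟩ := ih
      obtain ⟨e, he, he1, he2⟩ := single i
      refine ⟨e * m, mul_mem he hm, ?_, ?_⟩
      · intro j hj
        rcases Finset.mem_insert.1 hj with rfl | hj2
        · have e1 : m * x j * m⁻¹ = x j := by
            rw [← mem_centralizer_iff.1 (h2 j hi) _ (td.xmem j)]; group
          calc e * m * x j * (e * m)⁻¹ = e * (m * x j * m⁻¹) * e⁻¹ := by group
            _ = g * x j * g⁻¹ := by rw [e1, he1]
        · have hji : j ≠ i := by
            rintro rfl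
            exact hi hj2
          calc e * m * x j * (e * m)⁻¹ = e * (m * x j * m⁻¹) * e⁻¹ := by group
            _ = e * (g * x j * g⁻¹) * e⁻¹ := by rw [h1 j hj2]
            _ = g * x j * g⁻¹ := by
                rw [← mem_centralizer_iff.1 (he2 j hji) _
                  (Support.mem_normalizer_conj (h.nrm j hg) (td.xmem j))]
                group
      · intro j hj
        have hji : j ≠ i := by
          rintro rfl
          exact hj (Finset.mem_insert_self _ _)
        exact mul_mem (he2 j hji) (h2 j fun hj' => hj (Finset.mem_insert_of_mem hj'))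
  have := Fintype.ofFinite ι
  obtain ⟨m, hm, h1, -⟩ := key Finset.univ
  exact ⟨m, hm, fun i => h1 i (Finset.mem_univ i)⟩

/-! ### The subgroup `H = J O₂(K)` -/

/-- `H = J O₂(K)`. -/
abbrev HH (K : Type u) [Group K] : Subgroup K := thompsonSubgroup 2 K ⊔ pCore 2 K

theorem HH_normal (K : Type u) [Group K] : (HH K).Normal := by
  have h1 : (thompsonSubgroup 2 K).Normal := thompsonSubgroup_normal 2 K
  have h2 : (pCore 2 K).Normal := Cfsg.Agent.Lib.Cores.pCore_normal 2
  exact sup_normal _ _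

theorem mem_HH {g : K} (hg : g ∈ HH K) :
    ∃ j ∈ thompsonSubgroup 2 K, ∃ q ∈ pCore 2 K, g = j * q := by
  have h2 : (pCore 2 K).Normal := Cfsg.Agent.Lib.Cores.pCore_normal 2
  obtain ⟨j, hj, q, hq, rfl⟩ := mem_sup_of_normal_right.1 hg
  exact ⟨j, hj, q, hq, rfl⟩

theorem FF0.HH_nrm (h : FF0 T W V) (i : ι) : HH K ≤ normalizer ((V i : Subgroup K) : Set K) := by
  refine sup_le (h.nrm i) ?_
  refine h.Wcent.trans (le_trans ?_ (centralizer_le_normalizer _))
  exact centralizer_le (h.V_le i)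

theorem FF0.HH_cent (h : FF0 T W V) : HH K ≤
    centralizer ((W ⊓ centralizer (thompsonSubgroup 2 K : Set K) : Subgroup K) : Set K) :=
  sup_le FF0.J_le_centralizer (h.Wcent.trans (centralizer_le inf_le_left))

/-- `T ∩ J O₂(K) = J(T) O₂(K)`. -/
theorem FF0.T_inf_HH [Finite K] (h : FF0 T W V) [Finite ι] {g : K} (hgT : g ∈ T)
    (hg : g ∈ HH K) : ∃ u ∈ jj T, u * g ∈ pCore 2 K := by
  obtain ⟨t, x, td⟩ := h.exists_td
  have hR : IsPGroup 2 ↥(T ⊓ HH K) := h.two.to_le inf_le_left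
  have h1 : ∀ i, g * x i * g⁻¹ = x i := fun i =>
    h.fix td hR (inf_le_right.trans (h.HH_nrm i))
      ⟨thompsonSubgroupOf_le_self 2 T (td.tmem i), le_sup_left (a := thompsonSubgroup 2 K)
        (h.jj_le_J (td.tmem i))⟩ ⟨hgT, hg⟩
  obtain ⟨u, hu, h2⟩ := h.exists_corr td (fun i => h.HH_nrm i hg) h1
  refine ⟨u, hu, ?_⟩
  rw [← h.cT]
  refine ⟨mul_mem (thompsonSubgroupOf_le_self 2 T hu) hgT, h.mem_centralizer ?_ h2⟩
  exact h.HH_cent (mul_mem (le_sup_left (a := thompsonSubgroup 2 K) (h.jj_le_J hu)) hg)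

/-- `B ≤ J(T) O₂(K)`, elementwise. -/
theorem FF0.bau_corr [Finite K] (h : FF0 T W V) [Finite ι] {b : K} (hb : b ∈ bau T) :
    ∃ u ∈ jj T, u * b ∈ pCore 2 K := by
  obtain ⟨t, x, td⟩ := h.exists_td
  have hb' := mem_bau.1 hb
  have h1 : ∀ i, b * x i * b⁻¹ = x i := by
    intro i
    rw [← hb'.2 _ (h.x_mem_zj td i)]; group
  have hn : ∀ i, b ∈ normalizer ((V i : Subgroup K) : Set K) := by
    intro i
    obtain ⟨j, hj⟩ := h.perm b i
    have h2 : x i ∈ V j := by
      rw [← hj]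
      refine ⟨x i, td.xmem i, ?_⟩
      exact h1 i
    have h3 : j = i := by
      by_contra hne
      have h4 := h.disj hne
      have h5 : x i ∈ V j ⊓ V i := ⟨h2, td.xmem i⟩
      rw [h4, mem_bot] at h5
      exact td.xne i h5
    rw [mem_normalizer_iff_map_conj_eq]
    exact hj.trans (by rw [h3])
  obtain ⟨u, hu, h2⟩ := h.exists_corr td hn h1
  refine ⟨u, hu, ?_⟩
  rw [← h.cT]
  refine ⟨mul_mem (thompsonSubgroupOf_le_self 2 T hu) hb'.1, h.mem_centralizer ?_ h2⟩
  refine mul_mem (FF0.J_le_centralizer (h.jj_le_J hu)) ?_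
  rw [mem_centralizer_iff]
  intro w hw
  exact hb'.2 w (h.CWJ_le_zj hw)

theorem FF0.bau_le [Finite K] (h : FF0 T W V) [Finite ι] : bau T ≤ jj T ⊔ pCore 2 K := by
  intro b hb
  obtain ⟨u, hu, hub⟩ := h.bau_corr hb
  have e : b = u⁻¹ * (u * b) := by group
  rw [e]
  exact mul_mem (mem_sup_left (inv_mem hu)) (mem_sup_right hub)

theorem FF0.bau_le_HH [Finite K] (h : FF0 T W V) [Finite ι] : bau T ≤ HH K :=
  h.bau_le.trans (sup_le_sup_right h.jj_le_J _)

/-! ### Normalizers of Baumann subgroups, Frattini -/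

theorem normalizer_le_bau (U : Subgroup K) :
    normalizer (U : Set K) ≤ normalizer ((bau U : Subgroup K) : Set K) := by
  intro g hg
  rw [mem_normalizer_iff_map_conj_eq] at hg ⊢
  have h1 := bau_map (MulAut.conj g).toMonoidHom (MulAut.conj g).injective U
  exact h1.symm.trans (congrArg bau hg)

theorem FF0.T_le_N [Finite K] : T ≤ normalizer ((bau T : Subgroup K) : Set K) :=
  le_normalizer.trans (normalizer_le_bau T)

/-- Frattini argument for `H`. -/
theorem FF0.frattini [Finite K] (h : FF0 T W V) [Finite ι] :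
    normalizer ((bau T : Subgroup K) : Set K) ⊔ HH K = ⊤ := by
  obtain ⟨S, hS⟩ := FFBasic.exists_sylow h.two h.sylow
  have hn := HH_normal K
  obtain ⟨P, hP⟩ := PLocal.ThompsonFrattini.exists_sylow_subgroupOf S (HH K)
  have h1 := P.normalizer_sup_eq_top
  rw [eq_top_iff, ← h1]
  refine sup_le_sup_right ?_ _
  have h2 : (P : Subgroup (HH K)).map (HH K).subtype = T ⊓ HH K := by
    rw [hP, subgroupOf_map_subtype, hS]
  rw [h2]
  have h3 : jj (T ⊓ HH K) = jj T :=
    jj_eq_of_jj_le (le_inf (thompsonSubgroupOf_le_self 2 T) (h.jj_le_J.trans le_sup_left))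
      inf_le_left
  have h4 : bau (T ⊓ HH K) = bau T := by
    apply le_antisymm
    · unfold bau
      rw [zj_congr h3]
      exact inf_le_inf_right _ inf_le_left
    · refine le_trans (le_inf le_rfl h.bau_le_HH) ?_
      unfold bau
      rw [zj_congr h3]
      exact le_inf (inf_le_inf_right _ inf_le_left) (inf_le_left.trans inf_le_right)
  rw [← h4]
  exact normalizer_le_bau _

/-! ### `L₀` and `Z₁` -/

/-- `Z₁ = Ω₁(Z(J(T))) ∩ Ω₁(Z(J(T)))^d`. -/
def Z1 (T : Subgroup K) (d : K) : Subgroup K := zj T ⊓ (zj T).map (MulAut.conj d).toMonoidHom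

theorem Z1_le (T : Subgroup K) (d : K) : Z1 T d ≤ zj T := inf_le_left

theorem jj_le_cent (T : Subgroup K) : jj T ≤ centralizer ((zj T : Subgroup K) : Set K) := by
  intro x hx
  rw [mem_centralizer_iff]
  intro z hz
  exact ((mem_zj.1 hz).2.2 x hx).symm

theorem jj_le_cent_Z1 (T : Subgroup K) (d : K) :
    jj T ≤ centralizer ((Z1 T d : Subgroup K) : Set K) :=
  (jj_le_cent T).trans (centralizer_le (Z1_le T d))

theorem jj_conj_le_cent_Z1 (T : Subgroup K) (d : K) :
    (jj T).map (MulAut.conj d).toMonoidHom ≤ centralizer ((Z1 T d : Subgroup K) : Set K) := by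
  rintro _ ⟨a, ha, rfl⟩
  rw [mem_centralizer_iff]
  rintro _ ⟨-, z, hz, rfl⟩
  have h1 := (mem_zj.1 hz).2.2 a ha
  rw [← map_mul, ← map_mul, h1]

/-- Every element of `K` is `m n` with `m` centralizing `Z₁` and `n` normalizing `B`. -/
theorem FF0.decomp [Finite K] (h : FF0 T W V) [Finite ι] {t x s y : ι → K} (td : TD T V t x)
    {d : K} (sd : SD V t x s y d) (k : K) :
    ∃ m ∈ centralizer ((Z1 T d : Subgroup K) : Set K),
      ∃ n ∈ normalizer ((bau T : Subgroup K) : Set K), k = m * n := by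
  have hHn := HH_normal K
  have hJn : (thompsonSubgroup 2 K).Normal := thompsonSubgroup_normal 2 K
  have hk : k ∈ HH K ⊔ normalizer ((bau T : Subgroup K) : Set K) := by
    rw [sup_comm, h.frattini]; exact mem_top k
  obtain ⟨g, hg, n, hn, rfl⟩ := mem_sup_of_normal_left.1 hk
  obtain ⟨j, hj, q, hq, rfl⟩ := mem_HH hg
  have hM1 : jj T ⊔ (jj T).map (MulAut.conj d).toMonoidHom ≤
      centralizer ((Z1 T d : Subgroup K) : Set K) :=
    sup_le (jj_le_cent_Z1 T d) (jj_conj_le_cent_Z1 T d)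
  have hM2 : jj T ⊔ (jj T).map (MulAut.conj d).toMonoidHom ≤ thompsonSubgroup 2 K := by
    refine sup_le h.jj_le_J ?_
    rintro _ ⟨a, ha, rfl⟩
    exact hJn.conj_mem a (h.jj_le_J ha) d
  obtain ⟨m, hm, hmx⟩ := h.exists_m td sd
    (M := jj T ⊔ (jj T).map (MulAut.conj d).toMonoidHom)
    (fun i => mem_sup_left (td.tmem i))
    (fun i => mem_sup_right ⟨t i, td.tmem i, by rw [sd.s_def i]; rfl⟩) hj
  have hgJ : m⁻¹ * j ∈ thompsonSubgroup 2 K := mul_mem (inv_mem (hM2 hm)) hj
  have hgx : ∀ i, m⁻¹ * j * x i * (m⁻¹ * j)⁻¹ = x i := by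
    intro i
    calc m⁻¹ * j * x i * (m⁻¹ * j)⁻¹ = m⁻¹ * (j * x i * j⁻¹) * m := by group
      _ = m⁻¹ * (m * x i * m⁻¹) * m := by rw [hmx i]
      _ = x i := by group
  obtain ⟨u, hu, hu1⟩ := h.exists_corr td (fun i => h.nrm i hgJ) hgx
  have hcJ : u * (m⁻¹ * j) ∈ thompsonSubgroup 2 K := mul_mem (h.jj_le_J hu) hgJ
  have hcW : u * (m⁻¹ * j) ∈ centralizer (W : Set K) :=
    h.mem_centralizer (FF0.J_le_centralizer hcJ) hu1
  obtain ⟨a, ha, q', hq', hc⟩ := h.exists_split hcJ hcW
  refine ⟨m * u⁻¹ * a, mul_mem (mul_mem (hM1 hm) (inv_mem (jj_le_cent_Z1 T d hu))) ?_,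
    q' * q * n, ?_, ?_⟩
  · exact centralizer_le ((Z1_le T d).trans le_sup_left) ha
  · refine mul_mem (FF0.T_le_N (h.Q_le (mul_mem hq' hq))) hn
  · calc j * q * n = m * u⁻¹ * (u * (m⁻¹ * j)) * q * n := by group
      _ = m * u⁻¹ * (a * q') * q * n := by rw [hc]
      _ = m * u⁻¹ * a * (q' * q * n) := by group

theorem FF0.L0_le_cent [Finite K] (h : FF0 T W V) [Finite ι] {t x s y : ι → K}
    (td : TD T V t x) {d : K} (sd : SD V t x s y d) :
    normalClosure ((bau T : Subgroup K) : Set K) ≤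
      centralizer ((Z1 T d : Subgroup K) : Set K) := by
  unfold normalClosure
  rw [closure_le]
  intro g hg
  obtain ⟨b, hb, hc⟩ := Group.mem_conjugatesOfSet_iff.1 hg
  obtain ⟨k, rfl⟩ := isConj_iff.1 hc
  obtain ⟨m, hm, n, hn, rfl⟩ := h.decomp td sd k
  have h1 : n * b * n⁻¹ ∈ bau T := Support.mem_normalizer_conj hn hb
  have h2 : n * b * n⁻¹ ∈ centralizer ((Z1 T d : Subgroup K) : Set K) :=
    centralizer_le (Z1_le T d) h1.2
  have e : m * n * b * (m * n)⁻¹ = m * (n * b * n⁻¹) * m⁻¹ := by group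
  rw [e]
  exact mul_mem (mul_mem hm h2) (inv_mem hm)

theorem FF0.L0_le_HH [Finite K] (h : FF0 T W V) [Finite ι] :
    normalClosure ((bau T : Subgroup K) : Set K) ≤ HH K :=
  have := HH_normal K
  normalClosure_le_normal h.bau_le_HH

theorem FF0.bau_le_L0 [Finite K] : bau T ≤ normalClosure ((bau T : Subgroup K) : Set K) :=
  subset_normalClosure

/-- `V i = ⟨x i, y i⟩`. -/
theorem FF0.V_eq (h : FF0 T W V) {t x s y : ι → K} (td : TD T V t x) {d : K}
    (sd : SD V t x s y d) {U : Subgroup K} {i : ι} (hx : x i ∈ U) (hy : y i ∈ U) : V i ≤ U := by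
  intro v hv
  rcases plane_cases (h.card i) (h.V_sq i) (td.xmem i) (sd.ymem i) (td.xne i) (sd.yne i)
    (sd.yx i).symm hv with rfl | rfl | rfl | rfl
  · exact one_mem _
  · exact hx
  · exact hy
  · exact mul_mem hx hy

/-- `Ω₁(Z(J(T))) = Z₁ ∏ (V i ∩ Ω₁(Z(J(T))))`. -/
theorem FF0.zj_eq [Finite K] (h : FF0 T W V) {t x s y : ι → K} (td : TD T V t x)
    {d : K} (hd : d ∈ thompsonSubgroup 2 K) (sd : SD V t x s y d) :
    zj T = Z1 T d ⊔ ⨆ i, (V i ⊓ zj T) := by
  have hVW : ⨆ i, V i ≤ W := iSup_le h.V_le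
  apply le_antisymm
  · intro z hz
    have hz1 : d⁻¹ * z * (d⁻¹)⁻¹ ∈ zj T ⊔ W := h.Y_conj (inv_mem hd) (mem_sup_left hz)
    rw [h.Y_eq] at hz1
    obtain ⟨z', hz', v, hv, he⟩ := Support.mem_sup_of_commute
      (fun _ ha _ hb => h.zj_W_comm ha (hVW hb)) hz1
    have hdv : d * v * d⁻¹ ∈ ⨆ i, V i :=
      Support.mem_normalizer_conj (Support.mem_normalizer_iSup fun i => h.nrm i hd) hv
    have hze : z = (d * z' * d⁻¹) * (d * v * d⁻¹) := by
      calc z = d * (d⁻¹ * z * (d⁻¹)⁻¹) * d⁻¹ := by group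
        _ = _ := by rw [he]; group
    -- split `d v d⁻¹`
    have hsplit : ⨆ i, V i ≤ (⨆ i, (V i ⊓ zj T)) ⊔
        ((⨆ i, V i) ⊓ (zj T).map (MulAut.conj d).toMonoidHom) := by
      refine iSup_le fun i => h.V_eq td sd ?_ ?_
      · refine mem_sup_left ?_
        exact (le_iSup (fun i => V i ⊓ zj T) i) ⟨td.xmem i, h.x_mem_zj td i⟩
      · refine mem_sup_right ⟨?_, ?_⟩
        · exact le_iSup V i (sd.ymem i)
        · rw [sd.y_def i]
          exact ⟨x i, h.x_mem_zj td i, rfl⟩
    have hX : ⨆ i, (V i ⊓ zj T) ≤ W := (iSup_mono fun i => inf_le_left).trans hVW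
    obtain ⟨a, ha, b, hb, hab⟩ := Support.mem_sup_of_commute
      (H := ⨆ i, (V i ⊓ zj T)) (L := (⨆ i, V i) ⊓ (zj T).map (MulAut.conj d).toMonoidHom)
      (fun a ha b hb => h.Wcomm a (hX ha) b (hVW hb.1)) (hsplit hdv)
    have haz : a ∈ zj T := (iSup_le (fun i => inf_le_right) : ⨆ i, (V i ⊓ zj T) ≤ zj T) ha
    have haW := hX ha
    have hbW := hVW hb.1
    have hza : z * a⁻¹ = (d * z' * d⁻¹) * b := by
      rw [hze, hab, h.Wcomm a haW b hbW]; group
    have h0 : z * a⁻¹ ∈ zj T := mul_mem hz (inv_mem haz)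
    have h1 : z * a⁻¹ ∈ Z1 T d := by
      refine ⟨h0, ?_⟩
      rw [hza]
      exact mul_mem ⟨z', hz', rfl⟩ hb.2
    have e : z = z * a⁻¹ * a := by group
    rw [e]
    exact mul_mem (mem_sup_left h1) (mem_sup_right ha)
  · exact sup_le (Z1_le T d) (iSup_le fun i => inf_le_right)

/-- `Z₁ ∩ ∏ V i = 1`. -/
theorem FF0.Z1_inf [Finite K] (h : FF0 T W V) [Finite ι] {t x s y : ι → K} (td : TD T V t x)
    {d : K} (sd : SD V t x s y d) : Z1 T d ⊓ ⨆ i, V i = ⊥ := by
  classical
  have key : ∀ r : Finset ι, ∀ v ∈ ⨆ i ∈ r, V i,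
      (∀ i ∈ r, t i * v = v * t i ∧ s i * v = v * s i) → v = 1 := by
    intro r
    induction r using Finset.induction with
    | empty =>
      intro v hv _
      simpa using hv
    | insert i r hi ih =>
      intro v hv hc
      rw [Finset.iSup_insert] at hv
      have hrW : ⨆ j ∈ r, V j ≤ W := iSup₂_le fun j _ => h.V_le j
      obtain ⟨a, ha, b, hb, rfl⟩ := Support.mem_sup_of_commute
        (H := V i) (L := ⨆ j ∈ r, V j)
        (fun a ha b hb => h.Wcomm a (h.V_le i ha) b (hrW hb)) hv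
      have htb : t i * b = b * t i := by
        have h1 : ⨆ j ∈ r, V j ≤ centralizer ({t i} : Set K) := by
          refine iSup₂_le fun j hj => ?_
          intro w hw
          rw [mem_centralizer_singleton_iff]
          refine mem_centralizer_iff.1 (td.tj i j ?_) w hw
          rintro rfl
          exact hi hj
        exact (mem_centralizer_singleton_iff.1 (h1 hb)).symm
      have hsb : s i * b = b * s i := by
        have h1 : ⨆ j ∈ r, V j ≤ centralizer ({s i} : Set K) := by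
          refine iSup₂_le fun j hj => ?_
          intro w hw
          rw [mem_centralizer_singleton_iff]
          refine mem_centralizer_iff.1 (sd.sj i j ?_) w hw
          rintro rfl
          exact hi hj
        exact (mem_centralizer_singleton_iff.1 (h1 hb)).symm
      obtain ⟨hc1, hc2⟩ := hc i (Finset.mem_insert_self _ _)
      have hta : t i * a * (t i)⁻¹ = a := by
        have h1 : t i * a * b = a * t i * b := by
          calc t i * a * b = t i * (a * b) := by group
            _ = a * b * t i := hc1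
            _ = a * (b * t i) := by group
            _ = a * (t i * b) := by rw [htb]
            _ = a * t i * b := by group
        have h2 := mul_right_cancel h1
        rw [h2]; group
      have hsa : s i * a * (s i)⁻¹ = a := by
        have h1 : s i * a * b = a * s i * b := by
          calc s i * a * b = s i * (a * b) := by group
            _ = a * b * s i := hc2
            _ = a * (b * s i) := by group
            _ = a * (s i * b) := by rw [hsb]
            _ = a * s i * b := by group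
        have h2 := mul_right_cancel h1
        rw [h2]; group
      have ha1 : a = 1 := by
        by_contra hne
        by_cases hax : a = x i
        · have hay : a ≠ y i := by
            rw [hax]; exact (sd.yx i).symm
          have h2 := sd.sv i a ha hne hay
          rw [hsa] at h2
          exact sd.yne i (mul_eq_right.1 h2.symm)
        · have h2 := td.tv i a ha hne hax
          rw [hta] at h2
          exact td.xne i (mul_eq_right.1 h2.symm)
      subst ha1
      rw [one_mul] at hc ⊢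
      exact ih b hb fun j hj => hc j (Finset.mem_insert_of_mem hj)
  have := Fintype.ofFinite ι
  rw [eq_bot_iff]
  rintro v ⟨hv1, hv2⟩
  rw [mem_bot]
  refine key Finset.univ v ?_ ?_
  · simpa using hv2
  · intro i _
    constructor
    · exact (mem_centralizer_iff.1 (jj_le_cent_Z1 T d (td.tmem i)) v hv1).symm
    · have h1 : s i ∈ (jj T).map (MulAut.conj d).toMonoidHom :=
        ⟨t i, td.tmem i, by rw [sd.s_def i]; rfl⟩
      exact (mem_centralizer_iff.1 (jj_conj_le_cent_Z1 T d h1) v hv1).symm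

theorem indep_option {Z : Subgroup K} {V : ι → Subgroup K} (hV : iSupIndep V)
    (hZ : Z ⊓ ⨆ i, V i = ⊥)
    (hc : ∀ a ∈ Z ⊔ ⨆ i, V i, ∀ b ∈ Z ⊔ ⨆ i, V i, a * b = b * a) :
    iSupIndep (fun o : Option ι => o.elim Z V) := by
  rintro (_ | i)
  · rw [disjoint_iff]
    have h1 : (⨆ (j : Option ι) (_ : j ≠ none), (fun o : Option ι => o.elim Z V) j) ≤
        ⨆ i, V i := by
      refine iSup₂_le ?_
      rintro (_ | j) hj
      · exact absurd rfl hj
      · exact le_iSup V j
    exact le_bot_iff.1 (le_trans (inf_le_inf_left _ h1) hZ.le)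
  · rw [disjoint_iff, eq_bot_iff]
    have h1 : (⨆ (j : Option ι) (_ : j ≠ some i), (fun o : Option ι => o.elim Z V) j) ≤
        Z ⊔ ⨆ (j : ι) (_ : j ≠ i), V j := by
      refine iSup₂_le ?_
      rintro (_ | j) hj
      · exact le_sup_left
      · refine le_trans ?_ le_sup_right
        have hji : j ≠ i := fun h => hj (by rw [h])
        exact le_iSup₂ (f := fun (j : ι) (_ : j ≠ i) => V j) j hji
    rintro v ⟨hv1, hv2⟩
    have hle : ⨆ (j : ι) (_ : j ≠ i), V j ≤ ⨆ j, V j := iSup₂_le fun j _ => le_iSup V j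
    obtain ⟨z, hz, w, hw, hzw⟩ := Support.mem_sup_of_commute
      (fun a ha b hb => hc a (mem_sup_left ha) b (mem_sup_right (hle hb))) (h1 hv2)
    have hz1 : z = 1 := by
      have h2 : z = v * w⁻¹ := by rw [hzw]; group
      have h3 : z ∈ Z ⊓ ⨆ i, V i := by
        refine ⟨hz, ?_⟩
        have h4 : v * w⁻¹ ∈ ⨆ i, V i := mul_mem (le_iSup V i hv1) (inv_mem (hle hw))
        rw [← h2] at h4
        exact h4
      rwa [hZ, mem_bot] at h3
    subst hz1
    rw [one_mul] at hzw
    subst hzw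
    have h5 := disjoint_iff.1 (hV i)
    have h6 : v ∈ V i ⊓ ⨆ (j : ι) (_ : j ≠ i), V j := ⟨hv1, hw⟩
    rwa [h5] at h6

/-! ### The output -/

/-- Output of the Baumann argument without `cJ`. Here `B = bau T`, `Y = Z₁ ⊔ ⨆ V i`. -/
structure L0Data0 (T B L₀ Z₁ : Subgroup K) (V : ι → Subgroup K) : Prop where
  two : IsPGroup 2 B
  nonempty : Nonempty ι
  normal : L₀.Normal
  le : B ≤ L₀
  /-- `L₀ = ⟨B^K⟩` -/
  eq : L₀ = normalClosure (B : Set K)
  /-- `L₀ ≤ J(K) O₂(K)` -/
  le_JQ : L₀ ≤ thompsonSubgroup 2 K ⊔ pCore 2 K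
  /-- `B ≤ J(T) O₂(K)` -/
  B_le : B ≤ jj T ⊔ pCore 2 K
  /-- `B` is a Sylow 2-subgroup of `L₀` -/
  inf_T : L₀ ⊓ T = B
  inf_Q : L₀ ⊓ pCore 2 K ≤ B
  /-- Frattini -/
  gen : L₀ ⊔ normalizer (B : Set K) = ⊤
  cent : Z₁ ≤ centralizer (L₀ : Set K)
  Ycomm : ∀ x ∈ Z₁ ⊔ ⨆ i, V i, ∀ y ∈ Z₁ ⊔ ⨆ i, V i, x * y = y * x
  Ysq : ∀ x ∈ Z₁ ⊔ ⨆ i, V i, x ^ 2 = 1
  card : ∀ i, Nat.card (V i) = 4
  nrm : ∀ i, L₀ ≤ normalizer ((V i : Subgroup K) : Set K)
  indep : iSupIndep (fun o : Option ι => o.elim Z₁ V)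
  zcB : zc B = Z₁ ⊔ ⨆ i, (V i ⊓ zc B)
  cardx : ∀ i, Nat.card ↥(V i ⊓ zc B) = 2
  /-- `Y ≤ C_{L₀}(Y)` -/
  Y_le : Z₁ ⊔ ⨆ i, V i ≤ L₀ ⊓ centralizer ((Z₁ ⊔ ⨆ i, V i : Subgroup K) : Set K)
  cO : L₀ ⊓ centralizer ((L₀ ⊓ centralizer ((Z₁ ⊔ ⨆ i, V i : Subgroup K) : Set K) :
    Subgroup K) : Set K) ≤ L₀ ⊓ centralizer ((Z₁ ⊔ ⨆ i, V i : Subgroup K) : Set K)
  d : ∀ i, ∃ d ∈ L₀, (∃ v ∈ V i, d * v * d⁻¹ ≠ v) ∧
    (∀ v ∈ V i, d ^ 3 * v * (d ^ 3)⁻¹ = v) ∧ ∀ j, j ≠ i → ∀ v ∈ V j, d * v = v * d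
  t : ∀ i, ∃ t ∈ jj B, (∃ v ∈ V i, t * v * t⁻¹ ≠ v) ∧ ∀ j, j ≠ i → ∀ v ∈ V j, t * v = v * t
  maxY : ∃ A ∈ maxElementaryAbelianSubgroups 2 K,
    A ≤ L₀ ⊓ centralizer ((Z₁ ⊔ ⨆ i, V i : Subgroup K) : Set K)
  /-- `Y = Ω₁(Z(J(T))) W` -/
  Y_eq : Z₁ ⊔ ⨆ i, V i = zj T ⊔ ⨆ i, V i
  zcB_eq : zc B = zj T

/-- `L₀ ∩ T = B`. -/
theorem FF0.L0_inf_T [Finite K] (h : FF0 T W V) [Finite ι] {t x s y : ι → K} (td : TD T V t x)
    {d : K} (hd : d ∈ thompsonSubgroup 2 K) (sd : SD V t x s y d) :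
    normalClosure ((bau T : Subgroup K) : Set K) ⊓ T = bau T := by
  apply le_antisymm
  · rintro g ⟨hg, hgT⟩
    obtain ⟨u, hu, hq⟩ := h.T_inf_HH hgT (h.L0_le_HH hg)
    have huL : u * g ∈ normalClosure ((bau T : Subgroup K) : Set K) :=
      mul_mem (FF0.bau_le_L0 (jj_le_bau T hu)) hg
    have h1 : u * g ∈ bau T := by
      rw [mem_bau]
      refine ⟨h.Q_le hq, fun z hz => ?_⟩
      rw [h.zj_eq td hd sd] at hz
      have h2 : (Z1 T d ⊔ ⨆ i, (V i ⊓ zj T)) ≤ centralizer ({u * g} : Set K) := by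
        refine sup_le ?_ (iSup_le fun i => ?_)
        · intro w hw
          rw [mem_centralizer_singleton_iff]
          exact mem_centralizer_iff.1 (h.L0_le_cent td sd huL) w hw
        · intro w hw
          rw [mem_centralizer_singleton_iff]
          exact mem_centralizer_iff.1 (h.Wcent hq) w (h.V_le i hw.1)
      exact mem_centralizer_singleton_iff.1 (h2 hz)
    have e : g = u⁻¹ * (u * g) := by group
    rw [e]
    exact mul_mem (inv_mem (jj_le_bau T hu)) h1
  · exact le_inf FF0.bau_le_L0 (ZN.ChoiceBase.bau_le T)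

theorem FF0.cardx [Finite K] (h : FF0 T W V) {t x : ι → K} (td : TD T V t x) (i : ι) :
    Nat.card ↥(V i ⊓ zj T) = 2 := by
  have h1 : V i ⊓ zj T = zpowers (x i) := by
    apply le_antisymm
    · rintro v ⟨hv, hvz⟩
      by_contra hne
      have hv1 : v ≠ 1 := by
        rintro rfl
        exact hne (one_mem _)
      have hvx : v ≠ x i := by
        rintro rfl
        exact hne (mem_zpowers _)
      have h2 := td.tv i v hv hv1 hvx
      have h3 := (mem_zj.1 hvz).2.2 _ (td.tmem i)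
      have h4 : t i * v * (t i)⁻¹ = v := by rw [h3]; group
      rw [h4] at h2
      exact td.xne i (mul_eq_right.1 h2.symm)
    · rw [zpowers_le]
      exact ⟨td.xmem i, h.x_mem_zj td i⟩
  rw [h1, Nat.card_zpowers, orderOf_eq_prime (h.V_sq i _ (td.xmem i)) (td.xne i)]

theorem FF0.exists_three [Finite K] (h : FF0 T W V) {t x s y : ι → K} (td : TD T V t x)
    {d : K} (sd : SD V t x s y d) (i : ι) :
    (∃ v ∈ V i, t i * s i * v * (t i * s i)⁻¹ ≠ v) ∧
    (∀ v ∈ V i, (t i * s i) ^ 3 * v * ((t i * s i) ^ 3)⁻¹ = v) := by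
  have hxx : x i * x i = 1 := by rw [← pow_two]; exact h.V_sq i _ (td.xmem i)
  have hyy : y i * y i = 1 := by rw [← pow_two]; exact h.V_sq i _ (sd.ymem i)
  have hxy : x i * y i = y i * x i := h.Vcomm (td.xmem i) (sd.ymem i)
  have hm : x i * y i ∈ V i := (V i).mul_mem (td.xmem i) (sd.ymem i)
  have hm1 : x i * y i ≠ 1 := by
    intro h5
    apply sd.yx i
    have h6 : x i * (x i * y i) = x i * 1 := by rw [h5]
    rwa [← mul_assoc, hxx, one_mul, mul_one] at h6
  have hmx : x i * y i ≠ x i := fun h5 => sd.yne i (mul_eq_left.1 h5)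
  have hmy : x i * y i ≠ y i := fun h5 => td.xne i (mul_eq_right.1 h5)
  have c1 : t i * s i * x i * (t i * s i)⁻¹ = y i := by
    calc t i * s i * x i * (t i * s i)⁻¹ = t i * (s i * x i * (s i)⁻¹) * (t i)⁻¹ := by group
      _ = t i * (x i * y i) * (t i)⁻¹ := by
          rw [sd.sv i _ (td.xmem i) (td.xne i) (sd.yx i).symm, hxy]
      _ = x i * (x i * y i) := td.tv i _ hm hm1 hmx
      _ = y i := by rw [← mul_assoc, hxx, one_mul]
  have c2 : t i * s i * y i * (t i * s i)⁻¹ = x i * y i := by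
    calc t i * s i * y i * (t i * s i)⁻¹ = t i * (s i * y i * (s i)⁻¹) * (t i)⁻¹ := by group
      _ = x i * y i := by rw [sd.sy i, td.tv i _ (sd.ymem i) (sd.yne i) (sd.yx i)]
  have c3 : t i * s i * (x i * y i) * (t i * s i)⁻¹ = x i := by
    calc t i * s i * (x i * y i) * (t i * s i)⁻¹
        = (t i * s i * x i * (t i * s i)⁻¹) * (t i * s i * y i * (t i * s i)⁻¹) := by group
      _ = y i * (x i * y i) := by rw [c1, c2]
      _ = (y i * y i) * x i := by rw [hxy]; group
      _ = x i := by rw [hyy, one_mul]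
  constructor
  · exact ⟨x i, td.xmem i, by rw [c1]; exact sd.yx i⟩
  · have e : ∀ v : K, (t i * s i) ^ 3 * v * ((t i * s i) ^ 3)⁻¹ =
        t i * s i * (t i * s i * (t i * s i * v * (t i * s i)⁻¹) * (t i * s i)⁻¹) *
          (t i * s i)⁻¹ := by
      intro v
      simp only [pow_succ, pow_zero, one_mul, mul_inv_rev, mul_assoc]
    intro v hv
    rw [e]
    rcases plane_cases (h.card i) (h.V_sq i) (td.xmem i) (sd.ymem i) (td.xne i) (sd.yne i)
      (sd.yx i).symm hv with rfl | rfl | rfl | rfl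
    · group
    · rw [c1, c2, c3]
    · rw [c2, c3, c1]
    · rw [c3, c1, c2]

theorem exists_l0_aux [Finite K] [Finite ι] (h : FF0 T W V) :
    ∃ d ∈ thompsonSubgroup 2 K,
      L0Data0 T (bau T) (normalClosure ((bau T : Subgroup K) : Set K)) (Z1 T d) V := by
  obtain ⟨t, x, td⟩ := h.exists_td
  obtain ⟨d, hd, hdx⟩ := h.exists_d td.xmem td.xne
  have sd := h.exists_sd td hd hdx
  refine ⟨d, hd, ?_⟩
  have hVW : ⨆ i, V i ≤ W := iSup_le h.V_le
  have hYle : Z1 T d ⊔ ⨆ i, V i ≤ zj T ⊔ W := sup_le_sup (Z1_le T d) hVW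
  have hcomm : ∀ a ∈ Z1 T d ⊔ ⨆ i, V i, ∀ b ∈ Z1 T d ⊔ ⨆ i, V i, a * b = b * a :=
    fun a ha b hb => h.Y_comm (hYle ha) (hYle hb)
  have hcent := h.L0_le_cent td sd
  have hHH := h.L0_le_HH
  have hinf := h.L0_inf_T td hd sd
  have hYeq : Z1 T d ⊔ ⨆ i, V i = zj T ⊔ ⨆ i, V i := by
    apply le_antisymm
    · exact sup_le_sup_right (Z1_le T d) _
    · refine sup_le ?_ le_sup_right
      rw [h.zj_eq td hd sd]
      exact sup_le_sup_left (iSup_mono fun i => inf_le_left) _
  have hYB : zj T ⊔ W ≤ bau T := by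
    refine sup_le ?_ h.W_le_bau
    intro z hz
    exact mem_bau.2 ⟨thompsonSubgroupOf_le_self 2 T (mem_zj.1 hz).1,
      fun z' hz' => zj_comm hz' hz⟩
  have hY : Z1 T d ⊔ ⨆ i, V i ≤ normalClosure ((bau T : Subgroup K) : Set K) ⊓
      centralizer ((Z1 T d ⊔ ⨆ i, V i : Subgroup K) : Set K) := by
    refine le_inf ((hYle.trans hYB).trans FF0.bau_le_L0) ?_
    intro a ha
    rw [mem_centralizer_iff]
    intro b hb
    exact hcomm b hb a ha
  have hsL : ∀ i, d * t i * d⁻¹ ∈ normalClosure ((bau T : Subgroup K) : Set K) := fun i =>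
    normalClosure_normal.conj_mem _ (FF0.bau_le_L0 (jj_le_bau T (td.tmem i))) d
  refine
    { two := h.two.to_le inf_le_left
      nonempty := h.nonempty
      normal := normalClosure_normal
      le := FF0.bau_le_L0
      eq := rfl
      le_JQ := hHH
      B_le := h.bau_le
      inf_T := hinf
      inf_Q := ?_
      gen := ?_
      cent := ?_
      Ycomm := hcomm
      Ysq := fun a ha => h.Y_sq (hYle ha)
      card := h.card
      nrm := fun i => hHH.trans (h.HH_nrm i)
      indep := indep_option h.indV (h.Z1_inf td sd) hcomm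
      zcB := ?_
      cardx := ?_
      Y_le := hY
      cO := ?_
      d := ?_
      t := ?_
      maxY := ?_
      Y_eq := hYeq
      zcB_eq := zc_bau T }
  · conv_rhs => rw [← hinf]
    exact inf_le_inf_left _ h.Q_le
  · obtain ⟨S, hS⟩ := FFBasic.exists_sylow h.two h.sylow
    have hn : (normalClosure ((bau T : Subgroup K) : Set K)).Normal := normalClosure_normal
    obtain ⟨P, hP⟩ := PLocal.ThompsonFrattini.exists_sylow_subgroupOf S
      (normalClosure ((bau T : Subgroup K) : Set K))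
    have h1 := P.normalizer_sup_eq_top
    have h2 : (P : Subgroup (normalClosure ((bau T : Subgroup K) : Set K))).map
        (normalClosure ((bau T : Subgroup K) : Set K)).subtype = bau T := by
      rw [hP, subgroupOf_map_subtype, hS, inf_comm, hinf]
    rw [h2, sup_comm] at h1
    exact h1
  · rw [le_centralizer_iff]
    exact hcent
  · rw [zc_bau]
    exact h.zj_eq td hd sd
  · intro i
    rw [zc_bau]
    exact h.cardx td i
  · exact inf_le_inf_left _ (centralizer_le hY)
  · intro i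
    obtain ⟨h1, h2⟩ := h.exists_three td sd i
    refine ⟨t i * (d * t i * d⁻¹), mul_mem (FF0.bau_le_L0 (jj_le_bau T (td.tmem i))) (hsL i),
      h1, h2, fun j hj v hv => ?_⟩
    exact (mem_centralizer_iff.1 (mul_mem (td.tj i j hj) (sd.sj i j hj)) v hv).symm
  · intro i
    refine ⟨t i, by rw [jj_bau]; exact td.tmem i, ?_, fun j hj v hv => ?_⟩
    · by_contra hcon
      push Not at hcon
      apply td.tne i
      rw [mem_centralizer_iff]
      intro v hv
      calc v * t i = (t i * v * (t i)⁻¹) * t i := by rw [hcon v hv]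
        _ = t i * v := by group
    · exact (mem_centralizer_iff.1 (td.tj i j hj) v hv).symm
  · obtain ⟨A, hA, hAQ⟩ := h.maxQ
    have hAT := hAQ.trans h.Q_le
    have hAj := max_le_jj hA hAT
    refine ⟨A, hA, le_inf ((hAj.trans (jj_le_bau T)).trans FF0.bau_le_L0) ?_⟩
    intro a ha
    have h1 : Z1 T d ⊔ ⨆ i, V i ≤ centralizer ({a} : Set K) := by
      refine sup_le ?_ (iSup_le fun i => ?_)
      · intro z hz
        rw [mem_centralizer_singleton_iff]
        exact ((mem_zj.1 (Z1_le T d hz)).2.2 a (hAj ha)).symm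
      · intro w hw
        rw [mem_centralizer_singleton_iff]
        exact mem_centralizer_iff.1 (h.Wcent (hAQ ha)) w (h.V_le i hw)
    rw [mem_centralizer_iff]
    intro z hz
    exact mem_centralizer_singleton_iff.1 (h1 hz)

/-- The Baumann argument without the hypothesis `cJ`. -/
theorem exists_l0Data0 [Finite K] [Finite ι] (h : FF0 T W V) :
    ∃ L₀ Z₁ : Subgroup K, L0Data0 T (bau T) L₀ Z₁ V := by
  obtain ⟨d, -, hd⟩ := exists_l0_aux h
  exact ⟨_, _, hd⟩

/-- **Baumann argument** (S0518, part [A2]). -/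
theorem exists_l0 [Finite K] [Finite ι] (h : FF T W V) :
    ∃ L₀ Z₁ : Subgroup K, L0Data (bau T) L₀ Z₁ V := by
  obtain ⟨L₀, Z₁, hd⟩ := exists_l0Data0 (FF0.ofFF h)
  refine ⟨L₀, Z₁, hd.two, hd.nonempty, hd.normal, hd.le, hd.gen, hd.cent, hd.Ycomm, hd.Ysq,
    hd.card, hd.nrm, hd.indep, hd.zcB, hd.cardx, ?_, hd.cO, hd.d, hd.t, hd.maxY⟩
  rintro g ⟨hg, hgY⟩
  obtain ⟨j, hj, q, hq, rfl⟩ := mem_HH (hd.le_JQ hg)
  have hWY : W ≤ Z₁ ⊔ ⨆ i, V i := by
    rw [hd.Y_eq, ← (FF0.ofFF h).Y_eq]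
    exact le_sup_right
  have h1 : j * q ∈ centralizer (W : Set K) := centralizer_le hWY hgY
  have h2 : j ∈ centralizer (W : Set K) := by
    have e : j = j * q * q⁻¹ := by group
    rw [e]
    exact mul_mem h1 (inv_mem (h.Wcent hq))
  exact hd.inf_Q ⟨hg, mul_mem (h.cJ ⟨hj, h2⟩) hq⟩

end Basic

end Cfsg.Agent.ZN.Baumann
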