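import Mathlib

/-!
# Groups of order 4 and exponent 2 acted on by conjugation
-/

set_option autoImplicit false

namespace Cfsg.Agent.ZN.Four

open Subgroup

variable {K : Type*} [Group K]

/-- The elements of a four-group. -/
theorem four {V : Subgroup K} (hV : Nat.card V = 4) (hsq : ∀ v ∈ V, v ^ 2 = 1) {x y : K}
    (hx : x ∈ V) (hy : y ∈ V) (hx1 : x ≠ 1) (hy1 : y ≠ 1) (hxy : x ≠ y) :
    ∀ v ∈ V, v = 1 ∨ v = x ∨ v = y ∨ v = x * y := by
  classical
  have : Finite V := Nat.finite_of_card_ne_zero (by rw [hV]; norm_num)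
  have := Fintype.ofFinite V
  intro v hv
  let s : Finset V := {1, ⟨x, hx⟩, ⟨y, hy⟩, ⟨x * y, V.mul_mem hx hy⟩}
  have hyy : y * y = 1 := by rw [← pow_two]; exact hsq y hy
  have hs : s.card = 4 := by
    have h1 : (1 : V) ∉ ({⟨x, hx⟩, ⟨y, hy⟩, ⟨x * y, V.mul_mem hx hy⟩} : Finset V) := by
      simp only [Finset.mem_insert, Finset.mem_singleton, not_or]
      refine ⟨?_, ?_, ?_⟩
      · intro h; exact hx1 (congrArg Subtype.val h).symm
      · intro h; exact hy1 (congrArg Subtype.val h).symm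
      · intro h
        have h' : (1 : K) = x * y := congrArg Subtype.val h
        apply hxy
        calc x = x * (y * y) := by rw [hyy, mul_one]
          _ = (x * y) * y := by group
          _ = y := by rw [← h', one_mul]
    have h2 : (⟨x, hx⟩ : V) ∉ ({⟨y, hy⟩, ⟨x * y, V.mul_mem hx hy⟩} : Finset V) := by
      simp only [Finset.mem_insert, Finset.mem_singleton, not_or]
      refine ⟨?_, ?_⟩
      · intro h; exact hxy (congrArg Subtype.val h)
      · intro h
        have h' : x = x * y := congrArg Subtype.val h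
        exact hy1 (by simpa using h'.symm)
    have h3 : (⟨y, hy⟩ : V) ∉ ({⟨x * y, V.mul_mem hx hy⟩} : Finset V) := by
      simp only [Finset.mem_singleton]
      intro h
      have h' : y = x * y := congrArg Subtype.val h
      exact hx1 (by simpa using h'.symm)
    simp only [s]
    rw [Finset.card_insert_of_notMem h1, Finset.card_insert_of_notMem h2,
      Finset.card_insert_of_notMem h3, Finset.card_singleton]
  have hu : s = Finset.univ := by
    apply (Finset.card_eq_iff_eq_univ s).1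
    rw [hs, ← Nat.card_eq_fintype_card, hV]
  have hm : (⟨v, hv⟩ : V) ∈ s := by rw [hu]; exact Finset.mem_univ _
  simp only [s, Finset.mem_insert, Finset.mem_singleton] at hm
  rcases hm with h | h | h | h
  · left; exact congrArg Subtype.val h
  · right; left; exact congrArg Subtype.val h
  · right; right; left; exact congrArg Subtype.val h
  · right; right; right; exact congrArg Subtype.val h

theorem comm_of_sq {V : Subgroup K} (hsq : ∀ v ∈ V, v ^ 2 = 1) {x y : K}
    (hx : x ∈ V) (hy : y ∈ V) : x * y = y * x := by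
  have h1 : (x * y) ^ 2 = 1 := hsq _ (V.mul_mem hx hy)
  have h2 : x ^ 2 = 1 := hsq x hx
  have h3 : y ^ 2 = 1 := hsq y hy
  rw [pow_two] at h1 h2 h3
  calc x * y = x * (x * y * (x * y)) * y := by rw [h1, mul_one]
    _ = (x * x) * (y * x) * (y * y) := by group
    _ = y * x := by rw [h2, h3, one_mul, mul_one]

theorem conj_mem {V : Subgroup K} {g v : K} (hg : g ∈ normalizer (V : Set K)) (hv : v ∈ V) :
    g * v * g⁻¹ ∈ V :=
  (Subgroup.mem_normalizer_iff.1 hg v).1 hv

theorem conj_mem' {V : Subgroup K} {g v : K} (hg : g ∈ normalizer (V : Set K)) (hv : v ∈ V) :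
    g⁻¹ * v * g ∈ V := by
  have := conj_mem ((normalizer (V : Set K)).inv_mem hg) hv
  rwa [inv_inv] at this

theorem mem_cent_iff {V : Subgroup K} {g : K} :
    g ∈ centralizer (V : Set K) ↔ ∀ v ∈ V, g * v * g⁻¹ = v := by
  rw [Subgroup.mem_centralizer_iff]
  constructor
  · intro h v hv
    rw [← h v hv]; group
  · intro h v hv
    calc v * g = (g * v * g⁻¹) * g := by rw [h v hv]
      _ = g * v := by group

theorem conj_eq_iff_comm {g v : K} : g * v * g⁻¹ = v ↔ g * v = v * g := by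
  constructor
  · intro h
    calc g * v = (g * v * g⁻¹) * g := by group
      _ = v * g := by rw [h]
  · intro h
    rw [h]; group

/-- An element normalizing the four-group and fixing two nontrivial elements centralizes it. -/
theorem cent_of_two {V : Subgroup K} (hV : Nat.card V = 4) (hsq : ∀ v ∈ V, v ^ 2 = 1) {x y g : K}
    (hx : x ∈ V) (hy : y ∈ V) (hx1 : x ≠ 1) (hy1 : y ≠ 1) (hxy : x ≠ y)
    (hgx : g * x * g⁻¹ = x) (hgy : g * y * g⁻¹ = y) : g ∈ centralizer (V : Set K) := by
  rw [mem_cent_iff]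
  intro v hv
  rcases four hV hsq hx hy hx1 hy1 hxy v hv with rfl | rfl | rfl | rfl
  · group
  · exact hgx
  · exact hgy
  · calc g * (x * y) * g⁻¹ = (g * x * g⁻¹) * (g * y * g⁻¹) := by group
      _ = x * y := by rw [hgx, hgy]

/-- There is an element of the four-group different from `1` and `x`. -/
theorem exists_other {V : Subgroup K} (hV : Nat.card V = 4) (x : K) :
    ∃ y ∈ V, y ≠ 1 ∧ y ≠ x := by
  classical
  have : Finite V := Nat.finite_of_card_ne_zero (by rw [hV]; norm_num)
  have := Fintype.ofFinite V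
  by_contra hcon
  push Not at hcon
  have h1 : (V : Set K) ⊆ ({1, x} : Finset K) := by
    intro y hy
    by_cases h : y = 1
    · simp [h]
    · simp [hcon y hy h]
  have h2 : Nat.card V ≤ 2 := by
    have h3 : Nat.card V = (V : Set K).ncard := rfl
    rw [h3]
    calc (V : Set K).ncard ≤ (({1, x} : Finset K) : Set K).ncard :=
          Set.ncard_le_ncard h1 (Finset.finite_toSet _)
      _ = ({1, x} : Finset K).card := Set.ncard_coe_finset _
      _ ≤ 2 := Finset.card_le_two
  omega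

/-- If `g` fixes `x ≠ 1` then `g v g⁻¹ ∈ {v, x v}`. -/
theorem fix_dichotomy {V : Subgroup K} (hV : Nat.card V = 4) (hsq : ∀ v ∈ V, v ^ 2 = 1) {x y g : K}
    (hx : x ∈ V) (hy : y ∈ V) (hx1 : x ≠ 1) (hy1 : y ≠ 1) (hxy : x ≠ y)
    (hg : g ∈ normalizer (V : Set K)) (hgx : g * x * g⁻¹ = x) :
    g * y * g⁻¹ = y ∨ g * y * g⁻¹ = x * y := by
  have h1 := conj_mem hg hy
  rcases four hV hsq hx hy hx1 hy1 hxy _ h1 with h | h | h | h
  · exfalso; apply hy1
    calc y = g⁻¹ * (g * y * g⁻¹) * g := by group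
      _ = 1 := by rw [h]; group
  · exfalso; apply hxy
    have h2 : g * x * g⁻¹ = g * y * g⁻¹ := by rw [hgx, h]
    have h3 : g * x = g * y := mul_right_cancel h2
    exact mul_left_cancel h3
  · left; exact h
  · right; exact h

/-- If `g`, `t` fix `x ≠ 1` and `t` does not centralize `V`, then `g` or `g t` centralizes `V`. -/
theorem fix_or {V : Subgroup K} (hV : Nat.card V = 4) (hsq : ∀ v ∈ V, v ^ 2 = 1) {x g t : K}
    (hx : x ∈ V) (hx1 : x ≠ 1)
    (hg : g ∈ normalizer (V : Set K)) (hgx : g * x * g⁻¹ = x)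
    (ht : t ∈ normalizer (V : Set K)) (htx : t * x * t⁻¹ = x)
    (htV : t ∉ centralizer (V : Set K)) :
    g ∈ centralizer (V : Set K) ∨ g * t ∈ centralizer (V : Set K) := by
  obtain ⟨y, hy, hy1, hyx⟩ := exists_other hV x
  rcases fix_dichotomy hV hsq hx hy hx1 hy1 hyx.symm hg hgx with h | h
  · left
    exact cent_of_two hV hsq hx hy hx1 hy1 hyx.symm hgx h
  · right
    have ht' : t * y * t⁻¹ = x * y := by
      rcases fix_dichotomy hV hsq hx hy hx1 hy1 hyx.symm ht htx with h' | h'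
      · exact absurd (cent_of_two hV hsq hx hy hx1 hy1 hyx.symm htx h') htV
      · exact h'
    refine cent_of_two hV hsq hx hy hx1 hy1 hyx.symm ?_ ?_
    · calc (g * t) * x * (g * t)⁻¹ = g * (t * x * t⁻¹) * g⁻¹ := by group
        _ = x := by rw [htx, hgx]
    · have hxx : x * x = 1 := by rw [← pow_two]; exact hsq x hx
      calc (g * t) * y * (g * t)⁻¹ = g * (t * y * t⁻¹) * g⁻¹ := by group
        _ = (g * x * g⁻¹) * (g * y * g⁻¹) := by rw [ht']; group
        _ = x * (x * y) := by rw [hgx, h]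
        _ = (x * x) * y := by group
        _ = y := by rw [hxx, one_mul]

/-- The square of an element fixing `x ≠ 1` centralizes `V`. -/
theorem sq_mem_cent {V : Subgroup K} (hV : Nat.card V = 4) (hsq : ∀ v ∈ V, v ^ 2 = 1) {x g : K}
    (hx : x ∈ V) (hx1 : x ≠ 1)
    (hg : g ∈ normalizer (V : Set K)) (hgx : g * x * g⁻¹ = x) :
    g * g ∈ centralizer (V : Set K) := by
  by_cases h : g ∈ centralizer (V : Set K)
  · exact mul_mem h h
  · rcases fix_or hV hsq hx hx1 hg hgx hg hgx h with h' | h'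
    · exact absurd h' h
    · exact h'

/-- A 3-element acting nontrivially on `V` moves every nontrivial element. -/
theorem cyc_ne {V : Subgroup K} (hV : Nat.card V = 4) (hsq : ∀ v ∈ V, v ^ 2 = 1) {d : K}
    (hd : d ∈ normalizer (V : Set K)) (hdV : d ∉ centralizer (V : Set K))
    (hd3 : d ^ 3 ∈ centralizer (V : Set K)) {v : K} (hv : v ∈ V) (hv1 : v ≠ 1) :
    d * v * d⁻¹ ≠ v := by
  intro h
  have h1 := sq_mem_cent hV hsq hv hv1 hd h
  apply hdV
  have h2 : d = d ^ 3 * (d * d)⁻¹ := by group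
  rw [h2]
  exact mul_mem hd3 (inv_mem h1)

/-- A 3-element acting nontrivially on `V` acts transitively on the nontrivial elements. -/
theorem cyc_trans {V : Subgroup K} (hV : Nat.card V = 4) (hsq : ∀ v ∈ V, v ^ 2 = 1) {d : K}
    (hd : d ∈ normalizer (V : Set K)) (hdV : d ∉ centralizer (V : Set K))
    (hd3 : d ^ 3 ∈ centralizer (V : Set K)) {v w : K} (hv : v ∈ V) (hv1 : v ≠ 1)
    (hw : w ∈ V) (hw1 : w ≠ 1) :
    w = v ∨ w = d * v * d⁻¹ ∨ w = d⁻¹ * v * d := by
  have h1 := cyc_ne hV hsq hd hdV hd3 hv hv1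
  have hdv := conj_mem hd hv
  have hdv' := conj_mem' hd hv
  have h2 : d⁻¹ * v * d ≠ v := by
    intro h; apply h1
    calc d * v * d⁻¹ = d * (d⁻¹ * v * d) * d⁻¹ := by rw [h]
      _ = v := by group
  have h3 : d⁻¹ * v * d ≠ d * v * d⁻¹ := by
    intro h
    have h4 : (d * d) * v * (d * d)⁻¹ = v := by
      calc (d * d) * v * (d * d)⁻¹ = d * (d * v * d⁻¹) * d⁻¹ := by group
        _ = d * (d⁻¹ * v * d) * d⁻¹ := by rw [h]
        _ = v := by group
    have h5 : d ^ 3 * v * (d ^ 3)⁻¹ = v := mem_cent_iff.1 hd3 v hv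
    apply h1
    calc d * v * d⁻¹ = d * ((d * d) * v * (d * d)⁻¹) * d⁻¹ := by rw [h4]
      _ = d ^ 3 * v * (d ^ 3)⁻¹ := by simp only [pow_succ, pow_zero, one_mul]; group
      _ = v := h5
  have hdv1 : d * v * d⁻¹ ≠ 1 := by
    intro h; apply hv1
    calc v = d⁻¹ * (d * v * d⁻¹) * d := by group
      _ = 1 := by rw [h]; group
  have hdv1' : d⁻¹ * v * d ≠ 1 := by
    intro h; apply hv1
    calc v = d * (d⁻¹ * v * d) * d⁻¹ := by group
      _ = 1 := by rw [h]; group
  have key := four hV hsq hv hdv hv1 hdv1 h1.symm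
  have h6 : d⁻¹ * v * d = v * (d * v * d⁻¹) := by
    rcases key _ hdv' with h | h | h | h
    · exact absurd h hdv1'
    · exact absurd h h2
    · exact absurd h h3
    · exact h
  rcases key w hw with h | h | h | h
  · exact absurd h hw1
  · left; exact h
  · right; left; exact h
  · right; right; rw [h, h6]

/-- The commutator of a transvection `t` with centre `x` and an element `g` moving `x`
moves `x`. -/
theorem comm_moves {V : Subgroup K} (hV : Nat.card V = 4) (hsq : ∀ v ∈ V, v ^ 2 = 1) {x g t : K}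
    (hx : x ∈ V) (hx1 : x ≠ 1)
    (hg : g ∈ normalizer (V : Set K)) (hgx : g * x * g⁻¹ ≠ x) 
    (htx : t * x * t⁻¹ = x) (htV : t ∉ centralizer (V : Set K)) :
    (t * g * t⁻¹ * g⁻¹) * x * (t * g * t⁻¹ * g⁻¹)⁻¹ ≠ x := by
  intro h
  set y := g⁻¹ * x * g with hy
  have hyV : y ∈ V := conj_mem' hg hx
  have hy1 : y ≠ 1 := by
    intro h'; apply hx1
    calc x = g * y * g⁻¹ := by rw [hy]; group
      _ = 1 := by rw [h']; group
  have hxy : x ≠ y := by
    intro h'
    apply hgx
    calc g * x * g⁻¹ = g * y * g⁻¹ := by rw [← h']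
      _ = x := by rw [hy]; group
  -- `t⁻¹` fixes `y`
  have h1 : t⁻¹ * x * t = x := by
    calc t⁻¹ * x * t = t⁻¹ * (t * x * t⁻¹) * t := by rw [htx]
      _ = x := by group
  have h2 : g * (t⁻¹ * y * t) * g⁻¹ = t⁻¹ * x * t := by
    calc g * (t⁻¹ * y * t) * g⁻¹ =
        t⁻¹ * ((t * g * t⁻¹ * g⁻¹) * x * (t * g * t⁻¹ * g⁻¹)⁻¹) * t := by rw [hy]; group
      _ = t⁻¹ * x * t := by rw [h]
  have h3 : t⁻¹ * y * t = y := by
    calc t⁻¹ * y * t = g⁻¹ * (g * (t⁻¹ * y * t) * g⁻¹) * g := by group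
      _ = y := by rw [h2, h1, hy]
  have h4 : t * y * t⁻¹ = y := by
    calc t * y * t⁻¹ = t * (t⁻¹ * y * t) * t⁻¹ := by rw [h3]
      _ = y := by group
  exact htV (cent_of_two hV hsq hx hyV hx1 hy1 hxy htx h4)

end Cfsg.Agent.ZN.Four
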