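import Mathlib
import Cfsg.Agent.ZN.StrDefs
import Cfsg.Agent.ZN.Four
import Cfsg.Agent.Lib.Cores

/-!
# ZN-groups (S0518): the family of `S₃`-blocks from the output of the Baumann argument
-/

set_option autoImplicit false

namespace Cfsg.Agent.ZN.BlkFam

open Subgroup Cfsg Cfsg.Agent.ZN.Four

universe u

/-! ### generalities -/

section general

variable {K : Type u} [Group K]

theorem mem_sup_of_comm {R V : Subgroup K} (hc : ∀ r ∈ R, ∀ v ∈ V, r * v = v * r) {y : K} :
    y ∈ R ⊔ V ↔ ∃ r ∈ R, ∃ v ∈ V, y = r * v := by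
  constructor
  · let S : Subgroup K :=
      { carrier := {y | ∃ r ∈ R, ∃ v ∈ V, y = r * v}
        one_mem' := ⟨1, R.one_mem, 1, V.one_mem, by simp⟩
        mul_mem' := by
          rintro _ _ ⟨r, hr, v, hv, rfl⟩ ⟨r', hr', v', hv', rfl⟩
          refine ⟨r * r', R.mul_mem hr hr', v * v', V.mul_mem hv hv', ?_⟩
          calc r * v * (r' * v') = r * (v * r') * v' := by group
            _ = r * (r' * v) * v' := by rw [hc r' hr' v hv]
            _ = r * r' * (v * v') := by group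
        inv_mem' := by
          rintro _ ⟨r, hr, v, hv, rfl⟩
          refine ⟨r⁻¹, R.inv_mem hr, v⁻¹, V.inv_mem hv, ?_⟩
          rw [mul_inv_rev, hc _ (R.inv_mem hr) _ (V.inv_mem hv)] }
    have hS : R ⊔ V ≤ S := by
      refine sup_le ?_ ?_
      · intro r hr
        exact ⟨r, hr, 1, V.one_mem, by simp⟩
      · intro v hv
        exact ⟨1, R.one_mem, v, hv, by simp⟩
    intro hy
    exact hS hy
  · rintro ⟨r, hr, v, hv, rfl⟩
    exact (R ⊔ V).mul_mem (le_sup_left (a := R) hr) (le_sup_right (b := V) hv)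

theorem relIndex_eq_ncard {L A : Subgroup K} {v : K}
    (hA : ∀ g, g ∈ A ↔ g ∈ L ∧ g * v * g⁻¹ = v) {s : Set K}
    (hs : ∀ w, w ∈ s ↔ ∃ g ∈ L, g * v * g⁻¹ = w) : A.relIndex L = s.ncard := by
  let act : MulAction L K := MulAction.compHom K ((MulAut.conj : K →* MulAut K).comp L.subtype)
  have hact : ∀ (g : L) (w : K), g • w = (g : K) * w * (g : K)⁻¹ := fun g w => rfl
  have h1 : MulAction.stabilizer L v = A.subgroupOf L := by
    ext g
    rw [MulAction.mem_stabilizer_iff, hact, Subgroup.mem_subgroupOf, hA]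
    exact ⟨fun h => ⟨g.2, h⟩, fun h => h.2⟩
  have h2 : MulAction.orbit L v = s := by
    ext w
    rw [hs, MulAction.mem_orbit_iff]
    constructor
    · rintro ⟨g, hg⟩
      exact ⟨g, g.2, by rw [← hg, hact]⟩
    · rintro ⟨g, hg, hgw⟩
      exact ⟨⟨g, hg⟩, by rw [hact]; exact hgw⟩
  rw [Subgroup.relIndex, ← h1, MulAction.index_stabilizer, h2]

theorem zc_le (B : Subgroup K) : zc B ≤ B ⊓ centralizer (B : Set K) := by
  rw [zc, omegaOne, Subgroup.closure_le]
  intro x hx
  exact hx.1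

theorem conj_of_mem_zc {B : Subgroup K} {z b : K} (hz : z ∈ zc B) (hb : b ∈ B) :
    b * z * b⁻¹ = z := by
  rw [conj_eq_iff_comm]
  exact Subgroup.mem_centralizer_iff.1 (zc_le B hz).2 b hb

theorem o2_le (L : Subgroup K) : o2 L ≤ L := Subgroup.map_subtype_le _

theorem le_normalizer_o2 (L : Subgroup K) : L ≤ normalizer (o2 L : Set K) := by
  intro g hg
  rw [Subgroup.mem_normalizer_iff_map_conj_eq]
  have hn : (pCore 2 ↥L).Normal := Lib.Cores.pCore_normal 2
  have h1 := Subgroup.mem_normalizer_iff_map_conj_eq.1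
    ((Subgroup.normalizer_eq_top_iff.2 hn) ▸ Subgroup.mem_top (⟨g, hg⟩ : L))
  have h2 : ((MulAut.conj g : MulAut K) : K →* K).comp L.subtype =
      L.subtype.comp ((MulAut.conj (⟨g, hg⟩ : L) : MulAut L) : L →* L) := by
    ext x
    rfl
  rw [o2, Subgroup.map_map, h2, ← Subgroup.map_map, h1]

theorem o2_isPGroup (L : Subgroup K) : IsPGroup 2 (o2 L) :=
  (Lib.Cores.pCore_isPGroup (G := L) 2).map _

theorem le_o2 {L N : Subgroup K} (hNL : N ≤ L) (hn : L ≤ normalizer (N : Set K))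
    (h2 : IsPGroup 2 N) : N ≤ o2 L := by
  have h1 : N.subgroupOf L ≤ pCore 2 ↥L := by
    apply Lib.Cores.le_pCore
    · refine ⟨fun n hn' g => ?_⟩
      rw [Subgroup.mem_subgroupOf] at hn' ⊢
      exact (Subgroup.mem_normalizer_iff.1 (hn g.2) n).1 hn'
    · exact h2.of_injective (Subgroup.subgroupOfEquivOfLe hNL).toMonoidHom
        (Subgroup.subgroupOfEquivOfLe hNL).injective
  have h3 := Subgroup.map_mono (f := L.subtype) h1
  rwa [Subgroup.map_subgroupOf_eq_of_le hNL] at h3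

theorem o2_le_of_index [Finite K] {L B : Subgroup K} (hBL : B ≤ L) (h2 : IsPGroup 2 B)
    (hi : ¬ 2 ∣ B.relIndex L) : o2 L ≤ B := by
  have : Fact (Nat.Prime 2) := ⟨Nat.prime_two⟩
  have h2' : IsPGroup 2 (B.subgroupOf L) :=
    h2.of_injective (Subgroup.subgroupOfEquivOfLe hBL).toMonoidHom
        (Subgroup.subgroupOfEquivOfLe hBL).injective
  let S : Sylow 2 L := h2'.toSylow hi
  have h3 : pCore 2 ↥L ≤ B.subgroupOf L := Lib.Cores.pCore_le_sylow S
  have h4 := Subgroup.map_mono (f := L.subtype) h3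
  rwa [Subgroup.map_subgroupOf_eq_of_le hBL] at h4

end general

/-! ### choice of elements -/

variable {K : Type u} [Group K] {B L₀ Z₁ : Subgroup K} {ι : Type} {V : ι → Subgroup K}

/-- Chosen elements. -/
structure Pick (B L₀ Z₁ : Subgroup K) (V : ι → Subgroup K) (x t d : ι → K) : Prop where
  xV : ∀ i, x i ∈ V i
  xz : ∀ i, x i ∈ zc B
  x1 : ∀ i, x i ≠ 1
  xall : ∀ i, ∀ v ∈ V i, v ∈ zc B → v = 1 ∨ v = x i
  tJ : ∀ i, t i ∈ jj B
  tV : ∀ i, t i ∉ centralizer (V i : Set K)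
  tW : ∀ i j, j ≠ i → t i ∈ centralizer (V j : Set K)
  dL : ∀ i, d i ∈ L₀
  dV : ∀ i, d i ∉ centralizer (V i : Set K)
  d3 : ∀ i, (d i) ^ 3 ∈ centralizer (V i : Set K)
  dW : ∀ i j, j ≠ i → d i ∈ centralizer (V j : Set K)
  sq : ∀ i, ∀ v ∈ V i, v ^ 2 = 1

theorem exists_pick (h : L0Data B L₀ Z₁ V) : ∃ x t d, Pick B L₀ Z₁ V x t d := by
  have hx : ∀ i, ∃ x : K, x ∈ V i ∧ x ∈ zc B ∧ x ≠ 1 ∧ ∀ v ∈ V i, v ∈ zc B → v = 1 ∨ v = x := by
    intro i
    have h1 := h.cardx i
    rw [Nat.card_eq_two_iff' (1 : ↥(V i ⊓ zc B))] at h1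
    obtain ⟨x, hx1, hx2⟩ := h1
    refine ⟨x, x.2.1, x.2.2, fun h => hx1 (Subtype.ext h), ?_⟩
    intro v hv hvz
    by_cases hv1 : v = 1
    · left; exact hv1
    · right
      have := hx2 ⟨v, hv, hvz⟩ (fun h => hv1 (congrArg Subtype.val h))
      exact congrArg Subtype.val this
  have ht : ∀ i, ∃ t ∈ jj B, t ∉ centralizer (V i : Set K) ∧
      ∀ j, j ≠ i → t ∈ centralizer (V j : Set K) := by
    intro i
    obtain ⟨t, ht, ⟨v, hv, hv'⟩, ht2⟩ := h.t i
    refine ⟨t, ht, ?_, ?_⟩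
    · intro hc
      exact hv' (mem_cent_iff.1 hc v hv)
    · intro j hj
      rw [mem_cent_iff]
      intro w hw
      exact conj_eq_iff_comm.2 (ht2 j hj w hw)
  have hd : ∀ i, ∃ d ∈ L₀, d ∉ centralizer (V i : Set K) ∧ d ^ 3 ∈ centralizer (V i : Set K) ∧
      ∀ j, j ≠ i → d ∈ centralizer (V j : Set K) := by
    intro i
    obtain ⟨t, ht, ⟨v, hv, hv'⟩, ht3, ht2⟩ := h.d i
    refine ⟨t, ht, ?_, ?_, ?_⟩
    · intro hc
      exact hv' (mem_cent_iff.1 hc v hv)
    · rw [mem_cent_iff]; exact ht3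
    · intro j hj
      rw [mem_cent_iff]
      intro w hw
      exact conj_eq_iff_comm.2 (ht2 j hj w hw)
  choose x hx1 hx2 hx3 hx4 using hx
  choose t ht1 ht2 ht3 using ht
  choose d hd1 hd2 hd3 hd4 using hd
  refine ⟨x, t, d, hx1, hx2, hx3, hx4, ht1, ht2, ht3, hd1, hd2, hd3, hd4, ?_⟩
  intro i v hv
  exact h.Ysq v (le_sup_right (b := ⨆ i, V i) (le_iSup V i hv))

/-- The block number `k`. -/
def blk (L₀ : Subgroup K) (x : ι → K) (k : ι) : Subgroup K :=
  L₀ ⊓ ⨅ j : {j : ι // j ≠ k}, centralizer {x j}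

theorem mem_blk {x : ι → K} {k : ι} {g : K} :
    g ∈ blk L₀ x k ↔ g ∈ L₀ ∧ ∀ j, j ≠ k → g * x j * g⁻¹ = x j := by
  rw [blk, Subgroup.mem_inf, Subgroup.mem_iInf]
  refine and_congr_right fun _ => ?_
  constructor
  · intro h j hj
    have := h ⟨j, hj⟩
    rw [Subgroup.mem_centralizer_singleton_iff] at this
    exact conj_eq_iff_comm.2 this
  · rintro h ⟨j, hj⟩
    rw [Subgroup.mem_centralizer_singleton_iff]
    exact conj_eq_iff_comm.1 (h j hj)

section main

variable {x t d : ι → K}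

theorem Y_cent (h : L0Data B L₀ Z₁ V) {g : K} (hg : g ∈ L₀)
    (hV : ∀ i, g ∈ centralizer (V i : Set K)) :
    g ∈ L₀ ⊓ centralizer ((Z₁ ⊔ ⨆ i, V i : Subgroup K) : Set K) := by
  refine Subgroup.mem_inf.2 ⟨hg, ?_⟩
  have h1 : (Z₁ ⊔ ⨆ i, V i : Subgroup K) ≤ centralizer {g} := by
    refine sup_le ?_ (iSup_le ?_)
    · intro z hz
      rw [Subgroup.mem_centralizer_singleton_iff]
      exact (Subgroup.mem_centralizer_iff.1 (h.cent hz) g hg).symm
    · intro i v hv
      rw [Subgroup.mem_centralizer_singleton_iff]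
      exact Subgroup.mem_centralizer_iff.1 (hV i) v hv
  rw [Subgroup.mem_centralizer_iff]
  intro y hy
  exact Subgroup.mem_centralizer_singleton_iff.1 (h1 hy)

theorem Pick.tB (p : Pick B L₀ Z₁ V x t d) (i : ι) : t i ∈ B :=
  PLocal.ThompsonJ.thompsonSubgroupOf_le_self 2 B (p.tJ i)

theorem Pick.Bx (p : Pick B L₀ Z₁ V x t d) {b : K} (hb : b ∈ B) (i : ι) :
    b * x i * b⁻¹ = x i := conj_of_mem_zc (p.xz i) hb

/-- `C_{L₀}(Ω₁(Z(B))) ≤ B`. -/
theorem mem_B [Finite ι] (h : L0Data B L₀ Z₁ V) (p : Pick B L₀ Z₁ V x t d) {g : K} (hg : g ∈ L₀)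
    (hfix : ∀ i, g * x i * g⁻¹ = x i) : g ∈ B := by
  classical
  have := Fintype.ofFinite ι
  have key : ∀ s : Finset ι, ∃ b ∈ B, ∀ i ∈ s, g * b ∈ centralizer (V i : Set K) := by
    intro s
    induction s using Finset.induction_on with
    | empty => exact ⟨1, B.one_mem, by simp⟩
    | insert a s ha ih =>
      obtain ⟨b, hb, hbs⟩ := ih
      have hgb : g * b ∈ L₀ := L₀.mul_mem hg (h.le hb)
      have hgbx : ∀ i, (g * b) * x i * (g * b)⁻¹ = x i := by
        intro i
        calc (g * b) * x i * (g * b)⁻¹ = g * (b * x i * b⁻¹) * g⁻¹ := by group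
          _ = x i := by rw [p.Bx hb i, hfix i]
      rcases fix_or (h.card a) (p.sq a) (p.xV a) (p.x1 a) (h.nrm a hgb) (hgbx a)
        (h.nrm a (h.le (p.tB a))) (p.Bx (p.tB a) a) (p.tV a) with h1 | h1
      · refine ⟨b, hb, ?_⟩
        intro i hi
        rcases Finset.mem_insert.1 hi with rfl | hi
        · exact h1
        · exact hbs i hi
      · refine ⟨b * t a, B.mul_mem hb (p.tB a), ?_⟩
        intro i hi
        rw [← mul_assoc]
        rcases Finset.mem_insert.1 hi with rfl | hi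
        · exact h1
        · refine mul_mem (hbs i hi) (p.tW a i ?_)
          intro hia
          exact ha (hia ▸ hi)
  obtain ⟨b, hb, hbs⟩ := key Finset.univ
  have h1 := h.cY (Y_cent h (L₀.mul_mem hg (h.le hb)) (fun i => hbs i (Finset.mem_univ i)))
  have h2 : g = (g * b) * b⁻¹ := by group
  rw [h2]
  exact B.mul_mem h1 (B.inv_mem hb)

theorem B_le_blk (h : L0Data B L₀ Z₁ V) (p : Pick B L₀ Z₁ V x t d) (k : ι) :
    B ≤ blk L₀ x k := by
  intro b hb
  rw [mem_blk]
  exact ⟨h.le hb, fun j _ => p.Bx hb j⟩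

theorem d_mem_blk (p : Pick B L₀ Z₁ V x t d) (k : ι) : d k ∈ blk L₀ x k := by
  rw [mem_blk]
  exact ⟨p.dL k, fun j hj => mem_cent_iff.1 (p.dW k j hj) _ (p.xV j)⟩

theorem mem_B_iff [Finite ι] (h : L0Data B L₀ Z₁ V) (p : Pick B L₀ Z₁ V x t d) (k : ι) (g : K) :
    g ∈ B ↔ g ∈ blk L₀ x k ∧ g * x k * g⁻¹ = x k := by
  constructor
  · intro hg
    exact ⟨B_le_blk h p k hg, p.Bx hg k⟩
  · rintro ⟨hg, hgk⟩
    rw [mem_blk] at hg
    refine mem_B h p hg.1 ?_
    intro i
    by_cases hi : i = k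
    · subst hi; exact hgk
    · exact hg.2 i hi

theorem blk_index [Finite ι] (h : L0Data B L₀ Z₁ V) (p : Pick B L₀ Z₁ V x t d) (k : ι) :
    B.relIndex (blk L₀ x k) = 3 := by
  have hd := h.nrm k (p.dL k)
  have hxk := p.xV k
  have hs : ∀ w, w ∈ ({x k, d k * x k * (d k)⁻¹, (d k)⁻¹ * x k * d k} : Set K) ↔
      ∃ g ∈ blk L₀ x k, g * x k * g⁻¹ = w := by
    intro w
    simp only [Set.mem_insert_iff, Set.mem_singleton_iff]
    constructor
    · rintro (rfl | rfl | rfl)
      · exact ⟨1, one_mem _, by group⟩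
      · exact ⟨d k, d_mem_blk p k, rfl⟩
      · exact ⟨(d k)⁻¹, inv_mem (d_mem_blk p k), by rw [inv_inv]⟩
    · rintro ⟨g, hg, rfl⟩
      have hgL : g ∈ L₀ := (mem_blk.1 hg).1
      refine cyc_trans (h.card k) (p.sq k) hd (p.dV k) (p.d3 k) hxk (p.x1 k)
        (conj_mem (h.nrm k hgL) hxk) ?_
      intro h1
      apply p.x1 k
      calc x k = g⁻¹ * (g * x k * g⁻¹) * g := by group
        _ = 1 := by rw [h1]; group
  rw [relIndex_eq_ncard (mem_B_iff h p k) hs]
  have h1 := cyc_ne (h.card k) (p.sq k) hd (p.dV k) (p.d3 k) hxk (p.x1 k)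
  have h2 : x k ≠ (d k)⁻¹ * x k * d k := by
    intro h2
    apply h1
    calc d k * x k * (d k)⁻¹ = d k * ((d k)⁻¹ * x k * d k) * (d k)⁻¹ := by rw [← h2]
      _ = x k := by group
  have h3 : d k * x k * (d k)⁻¹ ≠ (d k)⁻¹ * x k * d k := by
    intro h3
    have h4 : (d k * d k) * x k * (d k * d k)⁻¹ = x k := by
      calc (d k * d k) * x k * (d k * d k)⁻¹ = d k * (d k * x k * (d k)⁻¹) * (d k)⁻¹ := by group
        _ = d k * ((d k)⁻¹ * x k * d k) * (d k)⁻¹ := by rw [h3]
        _ = x k := by group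
    have h5 : d k ^ 3 * x k * (d k ^ 3)⁻¹ = x k := mem_cent_iff.1 (p.d3 k) _ hxk
    apply h1
    calc d k * x k * (d k)⁻¹ = d k * ((d k * d k) * x k * (d k * d k)⁻¹) * (d k)⁻¹ := by rw [h4]
      _ = d k ^ 3 * x k * (d k ^ 3)⁻¹ := by simp only [pow_succ, pow_zero, one_mul]; group
      _ = x k := h5
  rw [Set.ncard_eq_three]
  exact ⟨_, _, _, h1.symm, h2, h3, rfl⟩

/-- `O₂(L_k) = C_B(V_k)`. -/
theorem o2_blk [Finite K] [Finite ι] (h : L0Data B L₀ Z₁ V) (p : Pick B L₀ Z₁ V x t d) (k : ι) :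
    o2 (blk L₀ x k) = B ⊓ centralizer (V k : Set K) := by
  apply le_antisymm
  · have h1 : o2 (blk L₀ x k) ≤ B :=
      o2_le_of_index (B_le_blk h p k) h.two (by rw [blk_index h p k]; norm_num)
    refine le_inf h1 ?_
    intro g hg
    have h2 := h1 hg
    have hd := d_mem_blk p k
    have hgL := h.le h2
    have hn := le_normalizer_o2 (blk L₀ x k) hd
    have h3 : (d k)⁻¹ * g * d k ∈ B := h1 (conj_mem' hn hg)
    have hx2 := conj_mem (h.nrm k (p.dL k)) (p.xV k)
    have hx21 : d k * x k * (d k)⁻¹ ≠ 1 := by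
      intro h1
      apply p.x1 k
      calc x k = (d k)⁻¹ * (d k * x k * (d k)⁻¹) * d k := by group
        _ = 1 := by rw [h1]; group
    refine cent_of_two (h.card k) (p.sq k) (p.xV k) hx2 (p.x1 k) hx21
      (cyc_ne (h.card k) (p.sq k) (h.nrm k (p.dL k)) (p.dV k) (p.d3 k) (p.xV k) (p.x1 k)).symm
      (p.Bx h2 k) ?_
    have h4 := p.Bx h3 k
    calc g * (d k * x k * (d k)⁻¹) * g⁻¹
        = d k * (((d k)⁻¹ * g * d k) * x k * ((d k)⁻¹ * g * d k)⁻¹) * (d k)⁻¹ := by group
      _ = d k * x k * (d k)⁻¹ := by rw [h4]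
  · apply le_o2
    · exact inf_le_left.trans (B_le_blk h p k)
    · intro g hg
      have hgL := (mem_blk.1 hg).1
      have key : ∀ g ∈ blk L₀ x k, ∀ n ∈ B ⊓ centralizer (V k : Set K),
          g * n * g⁻¹ ∈ B ⊓ centralizer (V k : Set K) := by
        intro g hg n hn
        have hgL := (mem_blk.1 hg).1
        have hc : g * n * g⁻¹ ∈ centralizer (V k : Set K) := by
          rw [mem_cent_iff]
          intro v hv
          have h1 := mem_cent_iff.1 hn.2 _ (conj_mem' (h.nrm k hgL) hv)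
          calc (g * n * g⁻¹) * v * (g * n * g⁻¹)⁻¹ = g * (n * (g⁻¹ * v * g) * n⁻¹) * g⁻¹ := by
                group
            _ = v := by rw [h1]; group
        refine Subgroup.mem_inf.2 ⟨?_, hc⟩
        rw [mem_B_iff h p k]
        refine ⟨mul_mem (mul_mem hg (B_le_blk h p k hn.1)) (inv_mem hg), ?_⟩
        exact mem_cent_iff.1 hc _ (p.xV k)
      rw [Subgroup.mem_normalizer_iff]
      intro n
      constructor
      · exact key g hg n
      · intro hn
        have := key g⁻¹ (inv_mem hg) _ hn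
        have h2 : g⁻¹ * (g * n * g⁻¹) * g⁻¹⁻¹ = n := by group
        rwa [h2] at this
    · exact h.two.to_le inf_le_left

theorem o2_blk_index [Finite K] [Finite ι] (h : L0Data B L₀ Z₁ V) (p : Pick B L₀ Z₁ V x t d)
    (k : ι) : (o2 (blk L₀ x k)).relIndex B = 2 := by
  rw [o2_blk h p k]
  obtain ⟨y, hy, hy1, hyx⟩ := exists_other (h.card k) (x k)
  have hA : ∀ g, g ∈ B ⊓ centralizer (V k : Set K) ↔ g ∈ B ∧ g * y * g⁻¹ = y := by
    intro g
    constructor
    · rintro ⟨h1, h2⟩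
      exact ⟨h1, mem_cent_iff.1 h2 y hy⟩
    · rintro ⟨h1, h2⟩
      exact ⟨h1, cent_of_two (h.card k) (p.sq k) (p.xV k) hy (p.x1 k) hy1 hyx.symm
        (p.Bx h1 k) h2⟩
  have hty : t k * y * (t k)⁻¹ = x k * y := by
    rcases fix_dichotomy (h.card k) (p.sq k) (p.xV k) hy (p.x1 k) hy1 hyx.symm
      (h.nrm k (h.le (p.tB k))) (p.Bx (p.tB k) k) with h' | h'
    · exact absurd (cent_of_two (h.card k) (p.sq k) (p.xV k) hy (p.x1 k) hy1 hyx.symm
        (p.Bx (p.tB k) k) h') (p.tV k)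
    · exact h'
  have hs : ∀ w, w ∈ ({y, x k * y} : Set K) ↔ ∃ g ∈ B, g * y * g⁻¹ = w := by
    intro w
    simp only [Set.mem_insert_iff, Set.mem_singleton_iff]
    constructor
    · rintro (rfl | rfl)
      · exact ⟨1, one_mem _, by group⟩
      · exact ⟨t k, p.tB k, hty⟩
    · rintro ⟨g, hg, rfl⟩
      exact fix_dichotomy (h.card k) (p.sq k) (p.xV k) hy (p.x1 k) hy1 hyx.symm
        (h.nrm k (h.le hg)) (p.Bx hg k)
  rw [relIndex_eq_ncard hA hs]
  rw [Set.ncard_eq_two]
  refine ⟨_, _, ?_, rfl⟩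
  intro h1
  apply p.x1 k
  calc x k = (x k * y) * y⁻¹ := by group
    _ = 1 := by rw [← h1]; group

/-! ### the subgroups `rl`, `zl`, `vl` of a block -/

theorem zc_le_Y (h : L0Data B L₀ Z₁ V) : zc B ≤ Z₁ ⊔ ⨆ i, V i := by
  conv_lhs => rw [h.zcB]
  refine sup_le le_sup_left (iSup_le fun i => ?_)
  exact inf_le_left.trans ((le_iSup V i).trans le_sup_right)

theorem Z1_le_zc (h : L0Data B L₀ Z₁ V) : Z₁ ≤ zc B := by
  rw [h.zcB]
  exact le_sup_left

theorem xk_not_cent (h : L0Data B L₀ Z₁ V) (p : Pick B L₀ Z₁ V x t d) (k : ι) {v : K}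
    (hv : v ∈ V k) (hv1 : v ≠ 1) :
    v ∉ centralizer ((blk L₀ x k : Subgroup K) : Set K) := by
  intro hc
  have h1 := Subgroup.mem_centralizer_iff.1 hc (d k) (d_mem_blk p k)
  exact cyc_ne (h.card k) (p.sq k) (h.nrm k (p.dL k)) (p.dV k) (p.d3 k) hv hv1
    (conj_eq_iff_comm.2 h1)

/-- An element of `Ω₁(Z(B))` or its product with `x k` lies in `R_k`. -/
theorem rl_or (h : L0Data B L₀ Z₁ V) (p : Pick B L₀ Z₁ V x t d) (k : ι) {b : K} (hb : b ∈ zc B) :
    b ∈ rl B (blk L₀ x k) ∨ b * x k ∈ rl B (blk L₀ x k) := by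
  have hcomm : ∀ a ∈ zc B, ∀ b ∈ zc B, a * b = b * a := fun a ha b hb =>
    h.Ycomm a (zc_le_Y h ha) b (zc_le_Y h hb)
  have hxx : x k * x k = 1 := by rw [← pow_two]; exact p.sq k _ (p.xV k)
  set R := rl B (blk L₀ x k) with hR
  have hRz : R ≤ zc B := inf_le_left
  let S : Subgroup K :=
    { carrier := {b | b ∈ zc B ∧ (b ∈ R ∨ b * x k ∈ R)}
      one_mem' := ⟨one_mem _, Or.inl R.one_mem⟩
      mul_mem' := by
        rintro a b ⟨ha, ha'⟩ ⟨hb, hb'⟩
        refine ⟨mul_mem ha hb, ?_⟩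
        rcases ha' with ha' | ha' <;> rcases hb' with hb' | hb'
        · left; exact R.mul_mem ha' hb'
        · right
          have := R.mul_mem ha' hb'
          rwa [← mul_assoc] at this
        · right
          have := R.mul_mem ha' hb'
          have h2 : a * x k * b = a * b * x k := by
            calc a * x k * b = a * (x k * b) := by group
              _ = a * (b * x k) := by rw [hcomm _ (p.xz k) b hb]
              _ = a * b * x k := by group
          rwa [h2] at this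
        · left
          have := R.mul_mem ha' hb'
          have h2 : a * x k * (b * x k) = a * b := by
            calc a * x k * (b * x k) = a * (x k * b) * x k := by group
              _ = a * (b * x k) * x k := by rw [hcomm _ (p.xz k) b hb]
              _ = a * b * (x k * x k) := by group
              _ = a * b := by rw [hxx, mul_one]
          rwa [h2] at this
      inv_mem' := by
        rintro a ⟨ha, ha'⟩
        refine ⟨inv_mem ha, ?_⟩
        rcases ha' with ha' | ha'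
        · left; exact R.inv_mem ha'
        · right
          have := R.inv_mem ha'
          have h2 : (a * x k)⁻¹ = a⁻¹ * x k := by
            rw [mul_inv_rev, inv_eq_of_mul_eq_one_left hxx]
            exact hcomm _ (p.xz k) _ (inv_mem ha)
          rwa [h2] at this }
  have hS : zc B ≤ S := by
    conv_lhs => rw [h.zcB]
    refine sup_le ?_ (iSup_le ?_)
    · intro z hz
      refine ⟨Z1_le_zc h hz, Or.inl (Subgroup.mem_inf.2 ⟨Z1_le_zc h hz, ?_⟩)⟩
      rw [Subgroup.mem_centralizer_iff]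
      intro g hg
      exact Subgroup.mem_centralizer_iff.1 (h.cent hz) g (mem_blk.1 hg).1
    · rintro i v ⟨hv, hvz⟩
      refine ⟨hvz, ?_⟩
      rcases p.xall i v hv hvz with rfl | rfl
      · left; exact R.one_mem
      · by_cases hi : i = k
        · subst hi
          right
          rw [hxx]
          exact R.one_mem
        · left
          refine Subgroup.mem_inf.2 ⟨p.xz i, ?_⟩
          rw [Subgroup.mem_centralizer_iff]
          intro g hg
          exact conj_eq_iff_comm.1 ((mem_blk.1 hg).2 i hi)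
  exact (hS hb).2

theorem rl_index (h : L0Data B L₀ Z₁ V) (p : Pick B L₀ Z₁ V x t d) (k : ι) :
    (rl B (blk L₀ x k)).relIndex (zc B) = 2 := by
  rw [Subgroup.relIndex_eq_two_iff]
  refine ⟨x k, p.xz k, ?_⟩
  intro b hb
  have hnot : ¬ (b * x k ∈ rl B (blk L₀ x k) ∧ b ∈ rl B (blk L₀ x k)) := by
    rintro ⟨h1, h2⟩
    have h3 : x k ∈ rl B (blk L₀ x k) := by
      have := mul_mem (inv_mem h2) h1
      rwa [← mul_assoc, inv_mul_cancel, one_mul] at this
    exact xk_not_cent h p k (p.xV k) (p.x1 k) h3.2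
  rcases rl_or h p k hb with h1 | h1
  · exact Or.inr ⟨h1, fun h2 => hnot ⟨h2, h1⟩⟩
  · exact Or.inl ⟨h1, fun h2 => hnot ⟨h1, h2⟩⟩

theorem rl_sup (h : L0Data B L₀ Z₁ V) (p : Pick B L₀ Z₁ V x t d) (k : ι) :
    zc B ⊔ V k = rl B (blk L₀ x k) ⊔ V k := by
  apply le_antisymm
  · refine sup_le ?_ le_sup_right
    intro b hb
    rcases rl_or h p k hb with h1 | h1
    · exact le_sup_left (a := rl B (blk L₀ x k)) h1
    · have h2 : b = (b * x k) * (x k)⁻¹ := by group
      rw [h2]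
      exact mul_mem (le_sup_left (a := rl B (blk L₀ x k)) h1)
        (inv_mem (le_sup_right (b := V k) (p.xV k)))
  · refine sup_le ?_ le_sup_right
    exact inf_le_left.trans le_sup_left

theorem zl_blk (h : L0Data B L₀ Z₁ V) (p : Pick B L₀ Z₁ V x t d) (k : ι) :
    zl B (blk L₀ x k) = zc B ⊔ V k := by
  apply le_antisymm
  · rw [zl]
    refine iSup_le ?_
    rintro ⟨g, hg⟩
    rw [Subgroup.map_le_iff_le_comap, rl_sup h p k]
    intro b hb
    change g * b * g⁻¹ ∈ rl B (blk L₀ x k) ⊔ V k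
    have key : ∀ r ∈ rl B (blk L₀ x k), g * r * g⁻¹ = r := by
      intro r hr
      exact conj_eq_iff_comm.2 (Subgroup.mem_centralizer_iff.1 hr.2 g hg)
    rcases rl_or h p k hb with h1 | h1
    · rw [key b h1]
      exact le_sup_left (a := rl B (blk L₀ x k)) h1
    · have h2 : g * b * g⁻¹ = (b * x k) * (g * (x k)⁻¹ * g⁻¹) := by
        calc g * b * g⁻¹ = (g * (b * x k) * g⁻¹) * (g * (x k)⁻¹ * g⁻¹) := by group
          _ = (b * x k) * (g * (x k)⁻¹ * g⁻¹) := by rw [key _ h1]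
      rw [h2]
      exact mul_mem (le_sup_left (a := rl B (blk L₀ x k)) h1)
        (le_sup_right (b := V k) (conj_mem (h.nrm k (mem_blk.1 hg).1) (inv_mem (p.xV k))))
  · refine sup_le ?_ ?_
    · refine le_trans ?_ (le_iSup _ (1 : blk L₀ x k))
      intro z hz
      exact Subgroup.mem_map.2 ⟨z, hz, by simp⟩
    · intro v hv
      by_cases hv1 : v = 1
      · rw [hv1]; exact one_mem _
      have key : ∀ g ∈ blk L₀ x k, g * x k * g⁻¹ ∈ zl B (blk L₀ x k) := by
        intro g hg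
        exact (le_iSup (fun g : blk L₀ x k => (zc B).map (MulAut.conj (g : K)).toMonoidHom)
          ⟨g, hg⟩) ⟨x k, p.xz k, rfl⟩
      rcases cyc_trans (h.card k) (p.sq k) (h.nrm k (p.dL k)) (p.dV k) (p.d3 k) (p.xV k) (p.x1 k)
        hv hv1 with h1 | h1 | h1
      · have := key 1 (one_mem _)
        rw [h1]
        simpa using this
      · rw [h1]
        exact key _ (d_mem_blk p k)
      · rw [h1]
        have := key _ (inv_mem (d_mem_blk p k))
        rwa [inv_inv] at this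

theorem vl_blk (h : L0Data B L₀ Z₁ V) (p : Pick B L₀ Z₁ V x t d) (k : ι) :
    vl B (blk L₀ x k) = V k := by
  rw [vl, zl_blk h p k, rl_sup h p k]
  have hVY : V k ≤ Z₁ ⊔ ⨆ i, V i := (le_iSup V k).trans le_sup_right
  apply le_antisymm
  · rw [Subgroup.commutator_le]
    intro y hy g hg
    have hcm : ∀ r ∈ rl B (blk L₀ x k), ∀ v ∈ V k, r * v = v * r := fun r hr v hv =>
      h.Ycomm r (zc_le_Y h (Subgroup.mem_inf.1 hr).1) v (hVY hv)
    rw [mem_sup_of_comm hcm] at hy
    obtain ⟨r, hr, v, hv, rfl⟩ := hy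
    have h1 : g * r * g⁻¹ = r :=
      conj_eq_iff_comm.2 (Subgroup.mem_centralizer_iff.1 hr.2 g hg)
    have h2 := conj_mem (h.nrm k (mem_blk.1 hg).1) (inv_mem hv)
    have h3 : r * v = v * r := h.Ycomm r (zc_le_Y h hr.1) v (hVY hv)
    rw [commutatorElement_def]
    have h4 : r * v * g * (r * v)⁻¹ * g⁻¹ = v * (g * v⁻¹ * g⁻¹) := by
      calc r * v * g * (r * v)⁻¹ * g⁻¹
          = (r * v) * (g * v⁻¹ * g⁻¹) * (g * r * g⁻¹)⁻¹ := by group
        _ = (v * r) * (g * v⁻¹ * g⁻¹) * r⁻¹ := by rw [h1, h3]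
        _ = v * (r * (g * v⁻¹ * g⁻¹)) * r⁻¹ := by group
        _ = v * ((g * v⁻¹ * g⁻¹) * r) * r⁻¹ := by
          rw [h.Ycomm r (zc_le_Y h hr.1) _ (hVY h2)]
        _ = v * (g * v⁻¹ * g⁻¹) := by group
    rw [h4]
    exact mul_mem hv h2
  · -- `V k` is generated by commutators with `d k`
    have key : ∀ v ∈ V k, v * (d k * v⁻¹ * (d k)⁻¹) ∈
        ⁅rl B (blk L₀ x k) ⊔ V k, blk L₀ x k⁆ := by
      intro v hv
      have := Subgroup.commutator_mem_commutator (le_sup_right (a := rl B (blk L₀ x k)) hv)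
        (d_mem_blk p k)
      rw [commutatorElement_def] at this
      have h2 : v * (d k * v⁻¹ * (d k)⁻¹) = v * d k * v⁻¹ * (d k)⁻¹ := by group
      rw [h2]
      exact this
    intro v hv
    by_cases hv1 : v = 1
    · rw [hv1]; exact one_mem _
    -- `v = w · w^d` with `w = d⁻¹ v⁻¹ ...`; use the four elements
    have hd := h.nrm k (p.dL k)
    have hvv : ∀ w ∈ V k, w⁻¹ = w := by
      intro w hw
      have := p.sq k w hw
      rw [pow_two] at this
      exact inv_eq_of_mul_eq_one_left this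
    -- the element `w = d v d⁻¹`
    set w := d k * v * (d k)⁻¹ with hw
    have hwV : w ∈ V k := conj_mem hd hv
    have hwv : w ≠ v := cyc_ne (h.card k) (p.sq k) hd (p.dV k) (p.d3 k) hv hv1
    have hw1 : w ≠ 1 := by
      intro h1; apply hv1
      calc v = (d k)⁻¹ * w * d k := by rw [hw]; group
        _ = 1 := by rw [h1]; group
    have hww : d k * w * (d k)⁻¹ ≠ w :=
      cyc_ne (h.card k) (p.sq k) hd (p.dV k) (p.d3 k) hwV hw1
    have hww1 : d k * w * (d k)⁻¹ ≠ 1 := by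
      intro h1; apply hw1
      calc w = (d k)⁻¹ * (d k * w * (d k)⁻¹) * d k := by group
        _ = 1 := by rw [h1]; group
    have hww2 : d k * w * (d k)⁻¹ ≠ v := by
      intro h1
      apply hwv
      have h5 : d k ^ 3 * v * (d k ^ 3)⁻¹ = v := mem_cent_iff.1 (p.d3 k) v hv
      calc w = d k * v * (d k)⁻¹ := hw
        _ = d k * (d k * w * (d k)⁻¹) * (d k)⁻¹ := by rw [h1]
        _ = d k ^ 3 * v * (d k ^ 3)⁻¹ := by
          rw [hw]; simp only [pow_succ, pow_zero, one_mul]; group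
        _ = v := h5
    have h6 : d k * w * (d k)⁻¹ = v * w := by
      rcases four (h.card k) (p.sq k) hv hwV hv1 hw1 hwv.symm _ (conj_mem hd hwV) with
        h1 | h1 | h1 | h1
      · exact absurd h1 hww1
      · exact absurd h1 hww2
      · exact absurd h1 hww
      · exact h1
    have h7 := key w hwV
    rw [hvv w hwV, h6] at h7
    have h8 : w * (v * w) = v := by
      have hc : w * v = v * w := h.Ycomm w (hVY hwV) v (hVY hv)
      have hw2 := p.sq k w hwV
      rw [pow_two] at hw2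
      calc w * (v * w) = (w * v) * w := by group
        _ = v * (w * w) := by rw [hc]; group
        _ = v := by rw [hw2, mul_one]
    rwa [h8] at h7

/-! ### the block -/

theorem isBlk_blk [Finite K] [Finite ι] (h : L0Data B L₀ Z₁ V) (p : Pick B L₀ Z₁ V x t d) (k : ι) :
    IsBlk B (blk L₀ x k) := by
  have hVY : V k ≤ Z₁ ⊔ ⨆ i, V i := (le_iSup V k).trans le_sup_right
  have hzl : zl B (blk L₀ x k) ≤ Z₁ ⊔ ⨆ i, V i := by
    rw [zl_blk h p k]
    exact sup_le (zc_le_Y h) hVY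
  have ho2 := o2_blk h p k
  have hC : L₀ ⊓ centralizer ((Z₁ ⊔ ⨆ i, V i : Subgroup K) : Set K) ≤ o2 (blk L₀ x k) := by
    rw [ho2]
    refine le_inf h.cY ?_
    exact inf_le_right.trans (Subgroup.centralizer_le hVY)
  refine
    { le := B_le_blk h p k
      two := h.two
      index := blk_index h p k
      o2_le := by rw [ho2]; exact inf_le_left
      o2_index := o2_blk_index h p k
      self_cent := ?_
      zl_comm := fun a ha b hb => h.Ycomm a (hzl ha) b (hzl hb)
      zl_sq := fun a ha => h.Ysq a (hzl ha)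
      cent_zl := ?_
      rl_index := rl_index h p k
      card_vl := by rw [vl_blk h p k]; exact h.card k
      sup_eq := by rw [vl_blk h p k, zl_blk h p k, rl_sup h p k]
      disj := ?_
      jj_o2_le := ?_
      not_jj_le := ?_ }
  · rintro g ⟨hg, hgc⟩
    apply hC
    apply h.cO
    refine ⟨(mem_blk.1 hg).1, ?_⟩
    exact Subgroup.centralizer_le hC hgc
  · rw [zl_blk h p k, ho2]
    ext g
    constructor
    · rintro ⟨hg, hgc⟩
      have h1 : g ∈ centralizer (V k : Set K) :=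
        Subgroup.centralizer_le (le_sup_right (a := zc B) (b := V k)) hgc
      refine Subgroup.mem_inf.2 ⟨?_, h1⟩
      rw [mem_B_iff h p k]
      exact ⟨hg, mem_cent_iff.1 h1 _ (p.xV k)⟩
    · rintro ⟨hg, hgc⟩
      refine Subgroup.mem_inf.2 ⟨B_le_blk h p k hg, ?_⟩
      rw [Subgroup.mem_centralizer_iff]
      have h1 : zc B ⊔ V k ≤ centralizer {g} := by
        refine sup_le ?_ ?_
        · intro z hz
          rw [Subgroup.mem_centralizer_singleton_iff]
          exact (conj_eq_iff_comm.1 (conj_of_mem_zc hz hg)).symm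
        · intro v hv
          rw [Subgroup.mem_centralizer_singleton_iff]
          exact Subgroup.mem_centralizer_iff.1 hgc v hv
      intro y hy
      exact Subgroup.mem_centralizer_singleton_iff.1 (h1 hy)
  · rw [vl_blk h p k, eq_bot_iff]
    rintro v ⟨hr, hv⟩
    rw [Subgroup.mem_bot]
    by_contra hv1
    exact xk_not_cent h p k hv hv1 hr.2
  · obtain ⟨A, hA, hAC⟩ := h.maxY
    have h1 : A ≤ o2 (blk L₀ x k) := hAC.trans hC
    have h2 : o2 (blk L₀ x k) ≤ B := by rw [ho2]; exact inf_le_left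
    rw [jj, jj, PLocal.ThompsonJ.thompsonSubgroupOf_eq_sSup hA h1,
      PLocal.ThompsonJ.thompsonSubgroupOf_eq_sSup hA (h1.trans h2)]
    exact sSup_le_sSup fun C hC => ⟨hC.1, hC.2.trans h2⟩
  · intro hle
    have := hle (p.tJ k)
    rw [ho2] at this
    exact p.tV k this.2

/-! ### the family -/

theorem iSup_blk [Finite ι] (h : L0Data B L₀ Z₁ V) (p : Pick B L₀ Z₁ V x t d) :
    (⨆ k, blk L₀ x k) = L₀ := by
  classical
  have := Fintype.ofFinite ι
  apply le_antisymm
  · exact iSup_le fun k => inf_le_left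
  intro g hg
  have hBS : B ≤ ⨆ k, blk L₀ x k := by
    obtain ⟨k⟩ := h.nonempty
    exact (B_le_blk h p k).trans (le_iSup (fun k => blk L₀ x k) k)
  have key : ∀ s : Finset ι, ∃ l ∈ ⨆ k, blk L₀ x k, ∀ i ∈ s,
      (g * l) * x i * (g * l)⁻¹ = x i := by
    intro s
    induction s using Finset.induction_on with
    | empty => exact ⟨1, one_mem _, by simp⟩
    | insert a s ha ih =>
      obtain ⟨l, hl, hls⟩ := ih
      have hSL : (⨆ k, blk L₀ x k) ≤ L₀ := iSup_le fun k => inf_le_left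
      have hgl : g * l ∈ L₀ := L₀.mul_mem hg (hSL hl)
      -- find `m ∈ {1, d, d⁻¹}` with `(g l)⁻¹ x (g l) = m x m⁻¹`
      have hw := conj_mem' (h.nrm a hgl) (p.xV a)
      have hw1 : (g * l)⁻¹ * x a * (g * l) ≠ 1 := by
        intro h1; apply p.x1 a
        calc x a = (g * l) * ((g * l)⁻¹ * x a * (g * l)) * (g * l)⁻¹ := by group
          _ = 1 := by rw [h1]; group
      have hm : ∃ m ∈ blk L₀ x a, (∀ j, j ≠ a → m * x j * m⁻¹ = x j) ∧
          (g * l)⁻¹ * x a * (g * l) = m * x a * m⁻¹ := by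
        rcases cyc_trans (h.card a) (p.sq a) (h.nrm a (p.dL a)) (p.dV a) (p.d3 a) (p.xV a)
          (p.x1 a) hw hw1 with h1 | h1 | h1
        · exact ⟨1, one_mem _, fun j _ => by group, by rw [h1]; group⟩
        · exact ⟨d a, d_mem_blk p a, (mem_blk.1 (d_mem_blk p a)).2, h1⟩
        · exact ⟨(d a)⁻¹, inv_mem (d_mem_blk p a), (mem_blk.1 (inv_mem (d_mem_blk p a))).2,
            by rw [h1, inv_inv]⟩
      obtain ⟨m, hm1, hm2, hm3⟩ := hm
      refine ⟨l * m, mul_mem hl ((le_iSup (fun k => blk L₀ x k) a) hm1), ?_⟩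
      intro i hi
      rcases Finset.mem_insert.1 hi with rfl | hi
      · calc (g * (l * m)) * x i * (g * (l * m))⁻¹
            = (g * l) * (m * x i * m⁻¹) * (g * l)⁻¹ := by group
          _ = (g * l) * ((g * l)⁻¹ * x i * (g * l)) * (g * l)⁻¹ := by rw [← hm3]
          _ = x i := by group
      · have hia : i ≠ a := fun hia => ha (hia ▸ hi)
        calc (g * (l * m)) * x i * (g * (l * m))⁻¹
            = (g * l) * (m * x i * m⁻¹) * (g * l)⁻¹ := by group
          _ = x i := by rw [hm2 i hia, hls i hi]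
  obtain ⟨l, hl, hls⟩ := key Finset.univ
  have hSL : (⨆ k, blk L₀ x k) ≤ L₀ := iSup_le fun k => inf_le_left
  have h1 : g * l ∈ B := mem_B h p (L₀.mul_mem hg (hSL hl)) (fun i => hls i (Finset.mem_univ i))
  have h2 : g = (g * l) * l⁻¹ := by group
  rw [h2]
  exact mul_mem (hBS h1) (inv_mem hl)

theorem blk_injective [Finite ι] (h : L0Data B L₀ Z₁ V) (p : Pick B L₀ Z₁ V x t d)
    {k l : ι} (hkl : blk L₀ x k = blk L₀ x l) : k = l := by
  by_contra hne
  have h1 : d k ∈ blk L₀ x l := hkl ▸ d_mem_blk p k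
  have h2 := (mem_blk.1 h1).2 k hne
  exact cyc_ne (h.card k) (p.sq k) (h.nrm k (p.dL k)) (p.dV k) (p.d3 k) (p.xV k) (p.x1 k) h2

theorem blk_inter [Finite K] [Finite ι] (h : L0Data B L₀ Z₁ V) (p : Pick B L₀ Z₁ V x t d)
    (k l : ι) : blk L₀ x k ≤
      normalizer ((o2 (blk L₀ x k) ⊓ o2 (blk L₀ x l) : Subgroup K) : Set K) := by
  have hN : o2 (blk L₀ x k) ⊓ o2 (blk L₀ x l) =
      o2 (blk L₀ x k) ⊓ centralizer (V l : Set K) := by
    rw [o2_blk h p k, o2_blk h p l]
    ext g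
    constructor
    · rintro ⟨h1, h2⟩
      exact ⟨h1, h2.2⟩
    · rintro ⟨h1, h2⟩
      exact ⟨h1, h1.1, h2⟩
  rw [hN]
  have key : ∀ g ∈ blk L₀ x k, ∀ n ∈ o2 (blk L₀ x k) ⊓ centralizer (V l : Set K),
      g * n * g⁻¹ ∈ o2 (blk L₀ x k) ⊓ centralizer (V l : Set K) := by
    intro g hg n hn
    refine Subgroup.mem_inf.2 ⟨conj_mem (le_normalizer_o2 _ hg) hn.1, ?_⟩
    rw [mem_cent_iff]
    intro v hv
    have h1 := mem_cent_iff.1 hn.2 _ (conj_mem' (h.nrm l (mem_blk.1 hg).1) hv)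
    calc (g * n * g⁻¹) * v * (g * n * g⁻¹)⁻¹ = g * (n * (g⁻¹ * v * g) * n⁻¹) * g⁻¹ := by
          group
      _ = v := by rw [h1]; group
  intro g hg
  rw [Subgroup.mem_normalizer_iff]
  intro n
  constructor
  · exact key g hg n
  · intro hn
    have := key g⁻¹ (inv_mem hg) _ hn
    have h2 : g⁻¹ * (g * n * g⁻¹) * g⁻¹⁻¹ = n := by group
    rwa [h2] at this

/-- All blocks over `B`. -/
theorem all_blk [Finite K] [Finite ι] (h : L0Data B L₀ Z₁ V) (p : Pick B L₀ Z₁ V x t d)
    {L : Subgroup K} (hBL : B ≤ L) (hL3 : B.relIndex L = 3)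
    (hn : ¬ L ≤ normalizer (B : Set K)) : ∃ k, blk L₀ x k = L := by
  -- a subgroup between `B` and a group of relative index 3
  have prime : ∀ M N : Subgroup K, B ≤ M → M ≤ N → B.relIndex N = 3 → (∃ g ∈ M, g ∉ B) →
      N = M := by
    intro M N hBM hMN hN3 ⟨g, hg, hgB⟩
    have h1 : B.relIndex M * M.relIndex N = B.relIndex N := Subgroup.relIndex_mul_relIndex _ _ _ hBM hMN
    rw [hN3] at h1
    have h2 : B.relIndex M ≠ 1 := by
      intro h2
      exact hgB (Subgroup.relIndex_eq_one.1 h2 hg)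
    have h3 : B.relIndex M = 3 := by
      rcases (Nat.dvd_prime Nat.prime_three).1 (Dvd.intro _ h1) with h3 | h3
      · exact absurd h3 h2
      · exact h3
    have h4 : M.relIndex N = 1 := by
      rw [h3] at h1
      omega
    exact le_antisymm (Subgroup.relIndex_eq_one.1 h4) hMN
  have hLL : L ≤ L₀ := by
    by_contra hcon
    have h1 : L ⊓ L₀ = B := by
      by_contra hne
      have hlt : B < L ⊓ L₀ := lt_of_le_of_ne (le_inf hBL h.le) (Ne.symm hne)
      obtain ⟨g, hg, hgB⟩ := SetLike.exists_of_lt hlt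
      have := prime (L ⊓ L₀) L (le_inf hBL h.le) inf_le_left hL3 ⟨g, hg, hgB⟩
      exact hcon (this ▸ inf_le_right)
    apply hn
    intro g hg
    have hn0 := h.normal
    have key : ∀ g ∈ L, ∀ b ∈ B, g * b * g⁻¹ ∈ B := by
      intro g hg b hb
      rw [← h1]
      exact ⟨L.mul_mem (L.mul_mem hg (hBL hb)) (L.inv_mem hg), hn0.conj_mem b (h.le hb) g⟩
    rw [Subgroup.mem_normalizer_iff]
    intro b
    constructor
    · exact key g hg b
    · intro hb
      have := key g⁻¹ (inv_mem hg) _ hb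
      have h2 : g⁻¹ * (g * b * g⁻¹) * g⁻¹⁻¹ = b := by group
      rwa [h2] at this
  have hlt : B < L := by
    refine lt_of_le_of_ne hBL ?_
    rintro rfl
    exact hn Subgroup.le_normalizer
  obtain ⟨g, hg, hgB⟩ := SetLike.exists_of_lt hlt
  have hex : ∃ k, g * x k * g⁻¹ ≠ x k := by
    by_contra hcon
    push Not at hcon
    exact hgB (mem_B h p (hLL hg) hcon)
  obtain ⟨k, hk⟩ := hex
  refine ⟨k, ?_⟩
  set c := t k * g * (t k)⁻¹ * g⁻¹ with hc
  have htB := p.tB k
  have hcL : c ∈ L := by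
    rw [hc]
    exact mul_mem (mul_mem (mul_mem (hBL htB) hg) (inv_mem (hBL htB))) (inv_mem hg)
  have hcmoves : c * x k * c⁻¹ ≠ x k :=
    comm_moves (h.card k) (p.sq k) (p.xV k) (p.x1 k) (h.nrm k (hLL hg)) hk (p.Bx htB k) (p.tV k)
  have hcB : c ∉ B := fun hcB => hcmoves (p.Bx hcB k)
  have hcb : c ∈ blk L₀ x k := by
    rw [mem_blk]
    refine ⟨hLL hcL, ?_⟩
    intro j hj
    have h1 := mem_cent_iff.1 (p.tW k j hj)
    have h2 : (t k)⁻¹ ∈ centralizer (V j : Set K) := inv_mem (p.tW k j hj)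
    have h3 := conj_mem' (h.nrm j (hLL hg)) (p.xV j)
    have h4 : (t k)⁻¹ * (g⁻¹ * x j * g) * (t k)⁻¹⁻¹ = g⁻¹ * x j * g := mem_cent_iff.1 h2 _ h3
    calc c * x j * c⁻¹
        = t k * (g * ((t k)⁻¹ * (g⁻¹ * x j * g) * (t k)⁻¹⁻¹) * g⁻¹) * (t k)⁻¹ := by
          rw [hc]; group
      _ = t k * x j * (t k)⁻¹ := by rw [h4]; group
      _ = x j := h1 _ (p.xV j)
  have h1 := prime (L ⊓ blk L₀ x k) L (le_inf hBL (B_le_blk h p k)) inf_le_left hL3
    ⟨c, ⟨hcL, hcb⟩, hcB⟩
  have h2 := prime (L ⊓ blk L₀ x k) (blk L₀ x k) (le_inf hBL (B_le_blk h p k)) inf_le_right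
    (blk_index h p k) ⟨c, ⟨hcL, hcb⟩, hcB⟩
  rw [h2, ← h1]

theorem card_zc [Finite K] [Finite ι] (h : L0Data B L₀ Z₁ V) (p : Pick B L₀ Z₁ V x t d) :
    Nat.card (zc B) = Nat.card ↥(zc B ⊓ centralizer (L₀ : Set K)) * 2 ^ Nat.card ι := by
  classical
  have := Fintype.ofFinite ι
  -- `R s = Ω₁Z(B) ∩ ⋂_{i ∈ s} C(L_i)`
  let R : Finset ι → Subgroup K := fun s =>
    zc B ⊓ ⨅ i ∈ s, centralizer ((blk L₀ x i : Subgroup K) : Set K)
  have hR : ∀ s g, g ∈ R s ↔ g ∈ zc B ∧ ∀ i ∈ s, g ∈ centralizer ((blk L₀ x i : Subgroup K) : Set K) := by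
    intro s g
    simp only [R, Subgroup.mem_inf, Subgroup.mem_iInf]
  have key : ∀ s : Finset ι, Nat.card (zc B) = Nat.card (R s) * 2 ^ s.card := by
    intro s
    induction s using Finset.induction_on with
    | empty =>
      have : R ∅ = zc B := by
        ext g
        rw [hR]
        simp
      rw [this]; simp
    | insert a s ha ih =>
      have hle : R (insert a s) ≤ R s := by
        intro g hg
        rw [hR] at hg ⊢
        exact ⟨hg.1, fun i hi => hg.2 i (Finset.mem_insert_of_mem hi)⟩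
      have hxs : x a ∈ R s := by
        rw [hR]
        refine ⟨p.xz a, ?_⟩
        intro i hi
        rw [Subgroup.mem_centralizer_iff]
        intro g hg
        refine conj_eq_iff_comm.1 ((mem_blk.1 hg).2 a ?_)
        rintro rfl
        exact ha hi
      have hidx : (R (insert a s)).relIndex (R s) = 2 := by
        rw [Subgroup.relIndex_eq_two_iff]
        refine ⟨x a, hxs, ?_⟩
        intro b hb
        have hiff : ∀ c ∈ R s, (c ∈ R (insert a s) ↔ c ∈ rl B (blk L₀ x a)) := by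
          intro c hc
          rw [hR]
          constructor
          · intro h1
            exact ⟨h1.1, h1.2 a (Finset.mem_insert_self a s)⟩
          · intro h1
            refine ⟨h1.1, ?_⟩
            intro i hi
            rcases Finset.mem_insert.1 hi with rfl | hi
            · exact h1.2
            · exact ((hR s c).1 hc).2 i hi
        rw [hiff b hb, hiff _ (mul_mem hb hxs)]
        have hbz : b ∈ zc B := ((hR s b).1 hb).1
        have hnot : ¬ (b * x a ∈ rl B (blk L₀ x a) ∧ b ∈ rl B (blk L₀ x a)) := by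
          rintro ⟨h1, h2⟩
          have h3 : x a ∈ rl B (blk L₀ x a) := by
            have := mul_mem (inv_mem h2) h1
            rwa [← mul_assoc, inv_mul_cancel, one_mul] at this
          exact xk_not_cent h p a (p.xV a) (p.x1 a) h3.2
        rcases rl_or h p a hbz with h1 | h1
        · exact Or.inr ⟨h1, fun h2 => hnot ⟨h2, h1⟩⟩
        · exact Or.inl ⟨h1, fun h2 => hnot ⟨h1, h2⟩⟩
      have h1 : Nat.card (R (insert a s)) * (R (insert a s)).relIndex (R s) = Nat.card (R s) := by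
        have h0 := Subgroup.relIndex_mul_relIndex ⊥ _ _ bot_le hle
        rwa [Subgroup.relIndex_bot_left, Subgroup.relIndex_bot_left] at h0
      rw [ih, ← h1, hidx, Finset.card_insert_of_notMem ha]
      ring
  have h1 := key Finset.univ
  have h2 : R Finset.univ = zc B ⊓ centralizer (L₀ : Set K) := by
    ext g
    rw [hR, Subgroup.mem_inf]
    refine and_congr_right fun _ => ?_
    constructor
    · intro h2
      have h3 : L₀ ≤ centralizer {g} := by
        rw [← iSup_blk h p]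
        refine iSup_le ?_
        intro k l hl
        rw [Subgroup.mem_centralizer_singleton_iff]
        exact Subgroup.mem_centralizer_iff.1 (h2 k (Finset.mem_univ k)) l hl
      rw [Subgroup.mem_centralizer_iff]
      intro l hl
      exact Subgroup.mem_centralizer_singleton_iff.1 (h3 hl)
    · intro h2 i _
      exact Subgroup.centralizer_le (inf_le_left : blk L₀ x i ≤ L₀) h2
  rw [h2, Finset.card_univ, ← Nat.card_eq_fintype_card] at h1
  exact h1

end main

/-- **[A3]** the family of blocks. -/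
theorem exists_str {K : Type u} [Group K] [Finite K] {B L₀ Z₁ : Subgroup K} {ι : Type} [Finite ι]
    {V : ι → Subgroup K} (h : L0Data B L₀ Z₁ V) :
    ∃ 𝓛 : Set (Subgroup K), StrData ⊤ B 𝓛 := by
  obtain ⟨x, t, d, p⟩ := exists_pick h
  have hsup : sSup (Set.range (blk L₀ x)) = L₀ := by
    rw [sSup_range]
    exact iSup_blk h p
  refine ⟨Set.range (blk L₀ x), ?_⟩
  refine
    { blk := ?_
      le := fun _ _ => le_top
      ne := ?_
      norm := ?_
      gen := ?_
      inter := ?_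
      all := ?_
      inj := ?_
      card := ?_ }
  · rintro _ ⟨k, rfl⟩
    exact isBlk_blk h p k
  · obtain ⟨k⟩ := h.nonempty
    exact ⟨_, k, rfl⟩
  · rw [hsup]
    exact (Subgroup.normalizer_eq_top_iff.2 h.normal).ge
  · rw [hsup, top_inf_eq]
    exact h.gen.ge
  · rintro _ ⟨k, rfl⟩ _ ⟨l, rfl⟩
    exact blk_inter h p k l
  · intro L hBL _ hL3 hn
    exact all_blk h p hBL hL3 hn
  · rintro _ ⟨k, rfl⟩ _ ⟨l, rfl⟩ hkl
    by_contra hne
    have hne' : k ≠ l := by rintro rfl; exact hne rfl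
    rw [o2_blk h p k, o2_blk h p l] at hkl
    have h1 : t k ∈ B ⊓ centralizer (V l : Set K) := ⟨p.tB k, p.tW k l hne'.symm⟩
    rw [← hkl] at h1
    exact p.tV k h1.2
  · rw [hsup, card_zc h p]
    congr 2
    have hinj : Function.Injective (blk L₀ x) := fun k l hkl => blk_injective h p hkl
    rw [← Set.image_univ, Set.ncard_image_of_injective _ hinj, Set.ncard_univ]

end Cfsg.Agent.ZN.BlkFam
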