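import Cfsg.Agent.ZN.Defs
import Cfsg.Agent.PLocal.ElemAbSup
import Cfsg.Agent.Lib.Cores
import Cfsg.Agent.Lib.PSolvable
import Cfsg.Agent.S0619

/-!
# ZN-groups (S0518): a largest elementary abelian subgroup inside `O₂(K)`, and S0619
-/

set_option autoImplicit false

namespace Cfsg.Agent.ZN.MaxQ

open Subgroup Cfsg Cfsg.Agent.PLocal.ThompsonJ

universe u

variable {K : Type u} [Group K]

/-- 2-subgroups of `C_K(W)` lie in `O₂(K)`. -/
theorem le_pCore [Finite K] {T W : Subgroup K} (two : IsPGroup 2 T) (sylow : ¬ 2 ∣ T.index)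
    (Wn : W.Normal) (cT : T ⊓ centralizer (W : Set K) = pCore 2 K) {A : Subgroup K}
    (hA : IsPGroup 2 A) (hAW : A ≤ centralizer (W : Set K)) : A ≤ pCore 2 K := by
  obtain ⟨S, hS⟩ := hA.exists_le_sylow
  obtain ⟨g, hg⟩ := MulAction.exists_smul_eq K S (two.toSylow sylow)
  intro x hx
  have h1 : g * x * g⁻¹ ∈ T := by
    have h2 : g * x * g⁻¹ ∈ (g • S : Sylow 2 K) := by
      change g * x * g⁻¹ ∈ ((g • S : Sylow 2 K) : Subgroup K)
      rw [Sylow.coe_subgroup_smul]
      exact Subgroup.smul_mem_pointwise_smul x (MulAut.conj g) (S : Subgroup K) (hS hx)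
    rw [hg] at h2
    exact h2
  have h3 : g * x * g⁻¹ ∈ centralizer (W : Set K) := by
    rw [mem_centralizer_iff]
    intro w hw
    have h4 : g⁻¹ * w * g ∈ W := by
      have := Wn.conj_mem w hw g⁻¹
      rwa [inv_inv] at this
    have h5 := (mem_centralizer_iff.mp (hAW hx)) _ h4
    calc w * (g * x * g⁻¹) = g * ((g⁻¹ * w * g) * x) * g⁻¹ := by group
      _ = g * (x * (g⁻¹ * w * g)) * g⁻¹ := by rw [h5]
      _ = g * x * g⁻¹ * w := by group
  have h6 : g * x * g⁻¹ ∈ pCore 2 K := by rw [← cT]; exact ⟨h1, h3⟩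
  have h7 := (Cfsg.Agent.Lib.Cores.pCore_normal (G := K) 2).conj_mem _ h6 g⁻¹
  have h8 : g⁻¹ * (g * x * g⁻¹) * g⁻¹⁻¹ = x := by group
  rwa [h8] at h7

/-- An elementary abelian 2-group acts on an elementary abelian group of order 4 through a group of
order at most 2. -/
theorem relIndex_le {A V : Subgroup K} (hA : IsElementaryAbelian 2 A)
    (hV : IsElementaryAbelian 2 V) (hc : Nat.card V = 4) (hn : A ≤ normalizer (V : Set K)) :
    (centralizer (V : Set K)).relIndex A ≤ 2 := by
  by_cases h : A ≤ centralizer (V : Set K)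
  · rw [relIndex_eq_one.mpr h]; norm_num
  obtain ⟨a, haA, haC⟩ := SetLike.not_le_iff_exists.mp h
  have hcomm := (isElementaryAbelian_iff.mp hA).1
  have hVcomm := (isElementaryAbelian_iff.mp hV).1
  have hV2 : ∀ v ∈ V, v * v = 1 := fun v hv => by rw [← pow_two]; exact hV.2 v hv
  have hA2 : ∀ v ∈ A, v * v = 1 := fun v hv => by rw [← pow_two]; exact hA.2 v hv
  -- an element moved by `a`
  obtain ⟨x, hx, hax⟩ : ∃ x ∈ V, a * x * a⁻¹ ≠ x := by
    by_contra hcon
    push Not at hcon
    apply haC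
    rw [mem_centralizer_iff]
    intro v hv
    have := hcon v hv
    rw [mul_inv_eq_iff_eq_mul] at this
    exact this.symm
  have hconj : ∀ b ∈ A, ∀ v ∈ V, b * v * b⁻¹ ∈ V := fun b hb v hv =>
    ((mem_normalizer_iff.mp (hn hb)) v).mp hv
  set y := a * x * a⁻¹ with hy
  have hyV : y ∈ V := hconj a haA x hx
  have hx1 : x ≠ 1 := by
    rintro rfl
    apply hax
    rw [hy]; group
  have hy1 : y ≠ 1 := by
    intro h1
    apply hx1
    rw [hy] at h1
    have : x = a⁻¹ * (a * x * a⁻¹) * a := by group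
    rw [this, h1]; group
  have hxy : x * y ≠ 1 := by
    intro h1
    apply hax
    have h2 : x * x = 1 := hV2 x hx
    have : x * y = x * x := by rw [h1, h2]
    exact mul_left_cancel this
  have hall : ∀ v ∈ V, v = 1 ∨ v = x ∨ v = y ∨ v = x * y := by
    classical
    have hfin : Finite V := Nat.finite_of_card_ne_zero (by rw [hc]; norm_num)
    have hfs : (V : Set K).Finite := Set.toFinite _
    let F : Finset K := {1, x, y, x * y}
    have hF : F.card = 4 := by
      have e1 : (1 : K) ∉ ({x, y, x * y} : Finset K) := by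
        simp only [Finset.mem_insert, Finset.mem_singleton, not_or]
        exact ⟨fun h => hx1 h.symm, fun h => hy1 h.symm, fun h => hxy h.symm⟩
      have e2 : x ∉ ({y, x * y} : Finset K) := by
        simp only [Finset.mem_insert, Finset.mem_singleton, not_or]
        refine ⟨fun h => hax h.symm, fun h => hy1 ?_⟩
        exact (mul_eq_left.mp h.symm)
      have e3 : y ∉ ({x * y} : Finset K) := by
        simp only [Finset.mem_singleton]
        intro h
        exact hx1 (mul_eq_right.mp h.symm)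
      rw [Finset.card_insert_of_notMem e1, Finset.card_insert_of_notMem e2,
        Finset.card_insert_of_notMem e3, Finset.card_singleton]
    have hsub : F ⊆ hfs.toFinset := by
      intro z hz
      rw [Set.Finite.mem_toFinset]
      simp only [F, Finset.mem_insert, Finset.mem_singleton] at hz
      rcases hz with rfl | rfl | rfl | rfl
      · exact one_mem V
      · exact hx
      · exact hyV
      · exact mul_mem hx hyV
    have hcard : hfs.toFinset.card = 4 := by
      rw [← hc, ← Nat.card_eq_card_finite_toFinset hfs]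
      rfl
    have heq : F = hfs.toFinset := Finset.eq_of_subset_of_card_le hsub (by rw [hF, hcard])
    intro v hv
    have : v ∈ F := by rw [heq, Set.Finite.mem_toFinset]; exact hv
    simpa only [F, Finset.mem_insert, Finset.mem_singleton] using this
  have hay : a * y * a⁻¹ = x := by
    have h2 : a * a = 1 := hA2 a haA
    have h3 : a⁻¹ = a := inv_eq_of_mul_eq_one_left h2
    rw [hy]
    have : a * (a * x * a⁻¹) * a⁻¹ = (a * a) * x * (a * a)⁻¹ := by group
    rw [this, h2]; group
  -- centralising `x` and `y` is enough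
  have hcen : ∀ b : K, b * x * b⁻¹ = x → b * y * b⁻¹ = y → b ∈ centralizer (V : Set K) := by
    intro b h1 h2
    rw [mem_centralizer_iff]
    have key : ∀ v ∈ V, b * v * b⁻¹ = v := by
      intro v hv
      rcases hall v hv with rfl | rfl | rfl | rfl
      · group
      · exact h1
      · exact h2
      · calc b * (x * y) * b⁻¹ = (b * x * b⁻¹) * (b * y * b⁻¹) := by group
          _ = x * y := by rw [h1, h2]
    intro v hv
    have := key v hv
    rw [mul_inv_eq_iff_eq_mul] at this
    exact this.symm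
  have h2 : ((centralizer (V : Set K)).subgroupOf A).index = 2 := by
    rw [index_eq_two_iff_exists_notMem_and]
    refine ⟨⟨a, haA⟩, fun h1 => haC (mem_subgroupOf.mp h1), ?_⟩
    rintro ⟨b, hb⟩
    rw [mem_subgroupOf, mem_subgroupOf]
    change b * a ∈ _ ∨ b ∈ _
    have hba : b * a = a * b := hcomm b hb a haA
    have hby : b * y * b⁻¹ = a * (b * x * b⁻¹) * a⁻¹ := by
      calc b * y * b⁻¹ = (b * a) * x * (b * a)⁻¹ := by rw [hy]; group
        _ = a * (b * x * b⁻¹) * a⁻¹ := by rw [hba]; group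
    rcases hall _ (hconj b hb x hx) with h1 | h1 | h1 | h1
    · exfalso
      apply hx1
      have : x = b⁻¹ * (b * x * b⁻¹) * b := by group
      rw [this, h1]; group
    · right
      refine hcen b h1 ?_
      rw [hby, h1]
    · left
      refine hcen (b * a) ?_ ?_
      · have : (b * a) * x * (b * a)⁻¹ = b * y * b⁻¹ := by rw [hy]; group
        rw [this, hby, h1, hay]
      · have : (b * a) * y * (b * a)⁻¹ = b * (a * y * a⁻¹) * b⁻¹ := by group
        rw [this, hay, h1]
    · exfalso
      have h3 : b * y * b⁻¹ = x * y := by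
        rw [hby, h1]
        calc a * (x * y) * a⁻¹ = (a * x * a⁻¹) * (a * y * a⁻¹) := by group
          _ = y * x := by rw [hay, ← hy]
          _ = x * y := hVcomm y hyV x hx
      apply hax
      have h4 : b * y * b⁻¹ = b * x * b⁻¹ := by rw [h3, h1]
      exact mul_left_cancel (mul_right_cancel h4)
  exact le_of_eq h2

/-- `|A| ≤ 2^|S| · |A ∩ ⋂_{i ∈ S} C(V i)|`. -/
theorem card_le_pow [Finite K] {A : Subgroup K} (hA : IsElementaryAbelian 2 A) {ι : Type}
    {V : ι → Subgroup K} (hV : ∀ i, IsElementaryAbelian 2 (V i)) (hc : ∀ i, Nat.card (V i) = 4)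
    (hn : ∀ i, A ≤ normalizer ((V i : Subgroup K) : Set K)) (S : Finset ι) :
    Nat.card A ≤ 2 ^ S.card *
      Nat.card ↥(A ⊓ ⨅ i ∈ S, centralizer ((V i : Subgroup K) : Set K)) := by
  classical
  induction S using Finset.induction_on with
  | empty => simp
  | insert j S hj ih =>
    refine ih.trans ?_
    rw [Finset.card_insert_of_notMem hj, pow_succ, mul_assoc]
    refine Nat.mul_le_mul_left _ ?_
    set U := A ⊓ ⨅ i ∈ S, centralizer ((V i : Subgroup K) : Set K) with hU
    have hUA : U ≤ A := inf_le_left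
    have h1 : (centralizer ((V j : Subgroup K) : Set K)).relIndex U ≤ 2 :=
      relIndex_le (isElementaryAbelian_mono hA hUA) (hV j) (hc j) (hUA.trans (hn j))
    have h2 : A ⊓ ⨅ i ∈ insert j S, centralizer ((V i : Subgroup K) : Set K) =
        U ⊓ centralizer ((V j : Subgroup K) : Set K) := by
      rw [Finset.iInf_insert, hU, inf_comm (centralizer ((V j : Subgroup K) : Set K)), inf_assoc]
    rw [h2]
    have h3 : Nat.card ↥(U ⊓ centralizer ((V j : Subgroup K) : Set K)) *
        (U ⊓ centralizer ((V j : Subgroup K) : Set K)).relIndex U = Nat.card U := by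
      rw [← relIndex_bot_left, ← relIndex_bot_left]
      exact relIndex_mul_relIndex _ _ _ bot_le inf_le_left
    rw [inf_relIndex_left] at h3
    rw [← h3, mul_comm]
    exact Nat.mul_le_mul_right _ h1

/-- `2^|S| · |C| ≤ |C ⊔ ⨆_{i ∈ S} V i|` when `C ≤ W` is centralised by `A` and `A` acts
nontrivially on every `V i`, `i ∈ S`. -/
theorem pow_mul_card_le [Finite K] {A W C : Subgroup K} (Wn : W.Normal)
    (Wcomm : ∀ x ∈ W, ∀ y ∈ W, x * y = y * x) (hCW : C ≤ W) (hCA : C ≤ centralizer (A : Set K))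
    {ι : Type} {V : ι → Subgroup K} (hVW : ∀ i, V i ≤ W) (hind : iSupIndep V)
    (hn : ∀ i, A ≤ normalizer ((V i : Subgroup K) : Set K)) (S : Finset ι)
    (hS : ∀ i ∈ S, ¬ A ≤ centralizer ((V i : Subgroup K) : Set K)) :
    2 ^ S.card * Nat.card C ≤ Nat.card ↥(C ⊔ ⨆ i ∈ S, V i) := by
  classical
  induction S using Finset.induction_on with
  | empty => simp
  | insert j S hj ih =>
    have ih' := ih fun i hi => hS i (Finset.mem_insert_of_mem hi)
    rw [Finset.card_insert_of_notMem hj, pow_succ, mul_assoc, mul_comm 2, ← mul_assoc]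
    refine (Nat.mul_le_mul_right 2 ih').trans ?_
    set N := ⨆ i ∈ S, V i with hN
    have hle : C ⊔ N ≤ C ⊔ ⨆ i ∈ insert j S, V i := by
      refine sup_le_sup_left ?_ C
      rw [Finset.iSup_insert]
      exact le_sup_right
    have hVj : V j ≤ C ⊔ ⨆ i ∈ insert j S, V i := by
      rw [Finset.iSup_insert]
      exact le_sup_left.trans le_sup_right
    -- `V j` is not contained in `C ⊔ N`
    have hnot : ¬ V j ≤ C ⊔ N := by
      intro hcon
      obtain ⟨a, haA, haC⟩ := SetLike.not_le_iff_exists.mp (hS j (Finset.mem_insert_self j S))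
      obtain ⟨v, hv, hav⟩ : ∃ v ∈ V j, v * (a * v⁻¹ * a⁻¹) ≠ 1 := by
        by_contra hcon2
        push Not at hcon2
        apply haC
        rw [mem_centralizer_iff]
        intro v hv
        have h1 := hcon2 v hv
        calc v * a = (v * (a * v⁻¹ * a⁻¹)) * (a * v) := by group
          _ = a * v := by rw [h1, one_mul]
      have haW : ∀ w ∈ W, a * w * a⁻¹ ∈ W := fun w hw => Wn.conj_mem w hw a
      -- the subgroup of all `w ∈ W` with `[w, a] ∈ N`
      have hNW : N ≤ W := by
        rw [hN]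
        exact iSup₂_le fun i _ => hVW i
      let X : Subgroup K :=
        { carrier := {w | w ∈ W ∧ w * (a * w⁻¹ * a⁻¹) ∈ N}
          one_mem' := by
            refine ⟨one_mem W, ?_⟩
            have : (1 : K) * (a * 1⁻¹ * a⁻¹) = 1 := by group
            rw [this]; exact one_mem N
          mul_mem' := by
            rintro w₁ w₂ ⟨h1, h1'⟩ ⟨h2, h2'⟩
            refine ⟨mul_mem h1 h2, ?_⟩
            have h3 : w₂ * (a * w₂⁻¹ * a⁻¹) ∈ W := hNW h2'
            have h4 := Wcomm w₁ h1 _ h3
            have : w₁ * w₂ * (a * (w₁ * w₂)⁻¹ * a⁻¹) =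
                (w₁ * (w₂ * (a * w₂⁻¹ * a⁻¹))) * (a * w₁⁻¹ * a⁻¹) := by group
            rw [this, h4]
            have : w₂ * (a * w₂⁻¹ * a⁻¹) * w₁ * (a * w₁⁻¹ * a⁻¹) =
                (w₂ * (a * w₂⁻¹ * a⁻¹)) * (w₁ * (a * w₁⁻¹ * a⁻¹)) := by group
            rw [this]
            exact mul_mem h2' h1'
          inv_mem' := by
            rintro w ⟨h1, h1'⟩
            refine ⟨inv_mem h1, ?_⟩
            have h2 : a * w * a⁻¹ ∈ W := haW w h1
            have h3 := Wcomm w⁻¹ (inv_mem h1) _ h2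
            have : w⁻¹ * (a * w⁻¹⁻¹ * a⁻¹) = w⁻¹ * (a * w * a⁻¹) := by group
            rw [this, h3]
            have : a * w * a⁻¹ * w⁻¹ = (w * (a * w⁻¹ * a⁻¹))⁻¹ := by group
            rw [this]
            exact inv_mem h1' }
      have hCX : C ≤ X := by
        intro c hc
        refine ⟨hCW hc, ?_⟩
        have h1 := (mem_centralizer_iff.mp (hCA hc)) a haA
        have : c * (a * c⁻¹ * a⁻¹) = 1 := by
          calc c * (a * c⁻¹ * a⁻¹) = c * a * (a * c)⁻¹ := by group
            _ = c * a * (c * a)⁻¹ := by rw [h1]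
            _ = 1 := by group
        rw [this]
        exact one_mem N
      have hbr : ∀ i, ∀ w ∈ V i, w * (a * w⁻¹ * a⁻¹) ∈ V i := fun i w hw =>
        mul_mem hw (((mem_normalizer_iff.mp (hn i haA)) w⁻¹).mp (inv_mem hw))
      have hNX : N ≤ X := by
        rw [hN]
        refine iSup₂_le fun i hi => ?_
        intro w hw
        refine ⟨hVW i hw, ?_⟩
        exact (le_iSup₂_of_le i hi le_rfl : V i ≤ ⨆ i ∈ S, V i) (hbr i w hw)
      have h5 : v ∈ X := (sup_le hCX hNX) (hcon hv)
      have h6 : v * (a * v⁻¹ * a⁻¹) ∈ V j ⊓ N := ⟨hbr j v hv, h5.2⟩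
      have h7 : V j ⊓ N = ⊥ := by
        have h8 : N ≤ ⨆ (i : ι) (_ : i ≠ j), V i := by
          rw [hN]
          refine iSup₂_le fun i hi => ?_
          exact le_iSup₂_of_le i (fun h => hj (h ▸ hi)) le_rfl
        exact (Disjoint.mono_right h8 (hind j)).eq_bot
      rw [h7, mem_bot] at h6
      exact hav h6
    have hlt : C ⊔ N < C ⊔ ⨆ i ∈ insert j S, V i :=
      lt_of_le_of_ne hle fun h => hnot (by rw [h]; exact hVj)
    have h1 : Nat.card ↥(C ⊔ N) * (C ⊔ N).relIndex (C ⊔ ⨆ i ∈ insert j S, V i) =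
        Nat.card ↥(C ⊔ ⨆ i ∈ insert j S, V i) := by
      rw [← relIndex_bot_left, ← relIndex_bot_left]
      exact relIndex_mul_relIndex _ _ _ bot_le hle
    rw [← h1]
    refine Nat.mul_le_mul_left _ ?_
    have h2 : (C ⊔ N).relIndex (C ⊔ ⨆ i ∈ insert j S, V i) ≠ 0 := by
      intro h0
      rw [h0, mul_zero] at h1
      exact (Nat.card_pos (α := ↥(C ⊔ ⨆ i ∈ insert j S, V i))).ne h1
    have h3 : (C ⊔ N).relIndex (C ⊔ ⨆ i ∈ insert j S, V i) ≠ 1 := by
      rw [Ne, relIndex_eq_one]
      exact not_le_of_gt hlt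
    omega

/-- Some elementary abelian 2-subgroup of largest order lies in `O₂(K)`. -/
theorem exists_max {K : Type u} [Group K] [Finite K] {T W : Subgroup K} (two : IsPGroup 2 T)
    (sylow : ¬ 2 ∣ T.index) (Wn : W.Normal) (Wcomm : ∀ x ∈ W, ∀ y ∈ W, x * y = y * x)
    (Wsq : ∀ x ∈ W, x ^ 2 = 1) (cT : T ⊓ centralizer (W : Set K) = pCore 2 K) {ι : Type} [Finite ι]
    {V : ι → Subgroup K} (card : ∀ i, Nat.card (V i) = 4)
    (indep : iSupIndep (fun o : Option ι =>
      o.elim (W ⊓ centralizer (thompsonSubgroup 2 K : Set K)) V))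
    (sup : (W ⊓ centralizer (thompsonSubgroup 2 K : Set K)) ⊔ (⨆ i, V i) = W)
    (nrm : ∀ i, thompsonSubgroup 2 K ≤ normalizer ((V i : Subgroup K) : Set K)) :
    ∃ A ∈ maxElementaryAbelianSubgroups 2 K, A ≤ pCore 2 K := by
  classical
  obtain ⟨A, hA⟩ := exists_maxElementaryAbelian 2 K
  have hAJ : A ≤ thompsonSubgroup 2 K := le_thompsonSubgroup hA
  have hW : IsElementaryAbelian 2 W := isElementaryAbelian_iff.mpr ⟨Wcomm, Wsq⟩
  have hVW : ∀ i, V i ≤ W := fun i => by
    rw [← sup]
    exact (le_iSup V i).trans le_sup_right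
  have hVE : ∀ i, IsElementaryAbelian 2 (V i) := fun i => isElementaryAbelian_mono hW (hVW i)
  have hn : ∀ i, A ≤ normalizer ((V i : Subgroup K) : Set K) := fun i => hAJ.trans (nrm i)
  have hind : iSupIndep V := by
    have := indep.comp (f := (some : ι → Option ι)) (Option.some_injective ι)
    exact this
  have hfin : Fintype ι := Fintype.ofFinite ι
  set S : Finset ι := Finset.univ.filter
    (fun i => ¬ A ≤ centralizer ((V i : Subgroup K) : Set K)) with hSdef
  -- `A ∩ ⋂ C(V i) ≤ C(W)`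
  have h1 : A ⊓ (⨅ i ∈ S, centralizer ((V i : Subgroup K) : Set K)) ≤
      A ⊓ centralizer (W : Set K) := by
    intro x hx
    obtain ⟨hxA, hx2⟩ := mem_inf.mp hx
    refine ⟨hxA, ?_⟩
    have h2 : W ≤ centralizer ({x} : Set K) := by
      rw [← sup]
      refine sup_le ?_ (iSup_le fun i => ?_)
      · intro w hw
        rw [mem_centralizer_singleton_iff]
        exact ((mem_centralizer_iff.mp (mem_inf.mp hw).2) x (hAJ hxA)).symm
      · intro w hw
        rw [mem_centralizer_singleton_iff]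
        by_cases hi : A ≤ centralizer ((V i : Subgroup K) : Set K)
        · exact (mem_centralizer_iff.mp (hi hxA)) w hw
        · have h3 : x ∈ centralizer ((V i : Subgroup K) : Set K) := by
            rw [mem_iInf] at hx2
            have h4 := hx2 i
            rw [mem_iInf] at h4
            exact h4 (by rw [hSdef, Finset.mem_filter]; exact ⟨Finset.mem_univ i, hi⟩)
          exact (mem_centralizer_iff.mp h3) w hw
    change x ∈ centralizer (W : Set K)
    rw [mem_centralizer_iff]
    intro w hw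
    exact mem_centralizer_singleton_iff.mp (h2 hw)
  have h2 := card_le_pow hA.1 hVE card hn S
  have h3 : Nat.card A ≤ 2 ^ S.card * Nat.card ↥(A ⊓ centralizer (W : Set K)) :=
    h2.trans (Nat.mul_le_mul_left _ (card_le_of_le h1))
  have h4 := pow_mul_card_le (C := W ⊓ centralizer (A : Set K)) Wn Wcomm inf_le_left inf_le_right
    hVW hind hn S (fun i hi => (Finset.mem_filter.mp hi).2)
  have h5 : Nat.card ↥((W ⊓ centralizer (A : Set K)) ⊔ ⨆ i ∈ S, V i) ≤ Nat.card W :=
    card_le_of_le (sup_le inf_le_left (iSup₂_le fun i _ => hVW i))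
  have h6 : W ≤ centralizer ((A ⊓ centralizer (W : Set K) : Subgroup K) : Set K) := by
    intro w hw
    rw [mem_centralizer_iff]
    intro x hx
    exact ((mem_centralizer_iff.mp (mem_inf.mp hx).2) w hw).symm
  have h7 := Cfsg.Agent.PLocal.ElemAbSup.card_sup_mul_card_inf h6
  have h8 : Nat.card ↥((A ⊓ centralizer (W : Set K)) ⊓ W) ≤
      Nat.card ↥(W ⊓ centralizer (A : Set K)) := by
    refine card_le_of_le ?_
    intro x hx
    obtain ⟨hx1, hx2⟩ := mem_inf.mp hx
    refine ⟨hx2, ?_⟩
    change x ∈ centralizer (A : Set K)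
    rw [mem_centralizer_iff]
    intro a ha
    exact isElementaryAbelian_comm hA.1 ha (mem_inf.mp hx1).1
  have hE : IsElementaryAbelian 2 ((A ⊓ centralizer (W : Set K)) ⊔ W) :=
    Cfsg.Agent.PLocal.ElemAbSup.isElementaryAbelian_sup
      (isElementaryAbelian_mono hA.1 inf_le_left) hW h6
  have h9 : Nat.card A ≤ Nat.card ↥((A ⊓ centralizer (W : Set K)) ⊔ W) := by
    have hpos : 0 < Nat.card ↥((A ⊓ centralizer (W : Set K)) ⊓ W) := Nat.card_pos
    refine Nat.le_of_mul_le_mul_right ?_ hpos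
    rw [h7]
    calc Nat.card A * Nat.card ↥((A ⊓ centralizer (W : Set K)) ⊓ W)
        ≤ (2 ^ S.card * Nat.card ↥(A ⊓ centralizer (W : Set K))) *
            Nat.card ↥(W ⊓ centralizer (A : Set K)) := Nat.mul_le_mul h3 h8
      _ = Nat.card ↥(A ⊓ centralizer (W : Set K)) *
            (2 ^ S.card * Nat.card ↥(W ⊓ centralizer (A : Set K))) := by ring
      _ ≤ Nat.card ↥(A ⊓ centralizer (W : Set K)) * Nat.card W :=
          Nat.mul_le_mul_left _ (h4.trans h5)
  refine ⟨_, mem_max_of_card_eq hA hE h9, ?_⟩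
  refine le_pCore two sylow Wn cT (isPGroup_of_isElementaryAbelian hE) ?_
  refine sup_le inf_le_right ?_
  intro w hw
  rw [mem_centralizer_iff]
  intro w' hw'
  exact Wcomm w' hw' w hw

/-- S0619 in the form needed for the structure lemma. -/
theorem comm_le {K : Type u} [Group K] [Finite K] (hsol : Group.IsSolvable K) {T W : Subgroup K}
    (two : IsPGroup 2 T) (sylow : ¬ 2 ∣ T.index) [W.Normal]
    (Wcomm : ∀ x ∈ W, ∀ y ∈ W, x * y = y * x) (Wsq : ∀ x ∈ W, x ^ 2 = 1)
    (hO : pCore 2 (K ⧸ centralizer (W : Set K)) = ⊥)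
    (cT : T ⊓ centralizer (W : Set K) = pCore 2 K)
    (hmax : ∃ A ∈ maxElementaryAbelianSubgroups 2 K, A ≤ pCore 2 K) :
    ⁅zj (pCore 2 K), thompsonSubgroup 2 K⁆ ≤ W := by
  obtain ⟨A, hA, hAQ⟩ := hmax
  have hQC : pCore 2 K ≤ centralizer (W : Set K) := by rw [← cT]; exact inf_le_right
  have hJ : thompsonSubgroupOf 2 (centralizer (W : Set K)) = thompsonSubgroupOf 2 (pCore 2 K) := by
    rw [thompsonSubgroupOf_eq_sSup hA (hAQ.trans hQC), thompsonSubgroupOf_eq_sSup hA hAQ]
    congr 1
    ext B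
    constructor
    · rintro ⟨h1, h2⟩
      exact ⟨h1, le_pCore two sylow inferInstance cT (isPGroup_of_isElementaryAbelian h1.1) h2⟩
    · rintro ⟨h1, h2⟩
      exact ⟨h1, h2.trans hQC⟩
  have h1 : zj (pCore 2 K) = omegaOne 2 (centerThompsonOf 2 (centralizer (W : Set K))) := by
    rw [zj, centerThompsonOf, centerThompsonOf, hJ]
  rw [h1]
  have := hsol
  exact Cfsg.Agent.S0619.result (p := 2)
    (Cfsg.Agent.Lib.PSolvable.IsPSolvable_of_solvable 2) W
    (isElementaryAbelian_iff.mpr ⟨Wcomm, Wsq⟩) hO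

end Cfsg.Agent.ZN.MaxQ
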