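import Cfsg.Agent.ZN.FFBasic
import Cfsg.Agent.ZN.Plane

/-!
# ZN-groups (S0518), [A1e]: the kernel of `J(K)` on `W` is `O₂(K) ∩ J(K)`

`abstract_eq_bot`: a finite group `G` generated by 2-elements, with homomorphisms
`ρ i : G → Perm (Fin 3)` whose common kernel `D` is central and has no involution, with elements
`f i` acting as 3-cycles and `t i` acting as transpositions on the `i`-th set only, has `D = 1`.
-/

set_option autoImplicit false

namespace Cfsg.Agent.ZN.OddKernel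

open Subgroup

theorem perm_pow_of_sign : ∀ a b : Equiv.Perm (Fin 3), Equiv.Perm.sign a = 1 → a ≠ 1 →
    Equiv.Perm.sign b = 1 → b = 1 ∨ b = a ∨ b = a * a := by decide

theorem perm_sign_of_cube : ∀ a : Equiv.Perm (Fin 3), a ^ 3 = 1 → Equiv.Perm.sign a = 1 := by
  decide

theorem perm_cube_of_sign : ∀ a : Equiv.Perm (Fin 3), Equiv.Perm.sign a = 1 → a ^ 3 = 1 := by
  decide

theorem perm_conj_odd : ∀ t a : Equiv.Perm (Fin 3), Equiv.Perm.sign t = -1 →
    Equiv.Perm.sign a = 1 → t * a * t⁻¹ = a⁻¹ := by decide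

theorem perm_sign_sq : ∀ a : Equiv.Perm (Fin 3), Equiv.Perm.sign (a * a) = 1 := by decide

theorem perm_sign_ne : ∀ a : Equiv.Perm (Fin 3), Equiv.Perm.sign a ≠ 1 →
    Equiv.Perm.sign a = -1 := by decide

theorem perm_even_sq : ∀ a : Equiv.Perm (Fin 3), Equiv.Perm.sign a = 1 → a * a = 1 → a = 1 := by
  decide

theorem perm_even_two_pow (a : Equiv.Perm (Fin 3)) (h : Equiv.Perm.sign a = 1) (n : ℕ)
    (hn : a ^ 2 ^ n = 1) : a = 1 := by
  have h1 : orderOf a ∣ 2 ^ n := orderOf_dvd_of_pow_eq_one hn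
  have h2 : orderOf a ∣ 3 := orderOf_dvd_of_pow_eq_one (perm_cube_of_sign a h)
  have h3 : Nat.Coprime (2 ^ n) 3 := Nat.Coprime.pow_left n (by norm_num)
  have h4 : orderOf a = 1 := Nat.eq_one_of_dvd_coprimes h3 h1 h2
  exact orderOf_eq_one_iff.1 h4

/-- Elements of a subset consisting of commuting elements generate an abelian subgroup. -/
theorem closure_comm {G : Type*} [Group G] {S : Set G} (h : ∀ x ∈ S, ∀ y ∈ S, x * y = y * x)
    {x y : G} (hx : x ∈ closure S) (hy : y ∈ closure S) : x * y = y * x := by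
  have h1 : closure S ≤ centralizer S := by
    rw [closure_le]
    intro a ha
    rw [SetLike.mem_coe, mem_centralizer_iff]
    intro b hb
    exact h b hb a ha
  have h2 : closure S ≤ centralizer (closure S : Set G) := by
    rw [closure_le]
    intro a ha
    rw [SetLike.mem_coe, mem_centralizer_iff]
    intro b hb
    exact ((mem_centralizer_iff.1 (h1 hb)) a ha).symm
  exact ((mem_centralizer_iff.1 (h2 hy)) x hx)

section Abstract

variable {G : Type*} [Group G] [Finite G] {ι : Type*} [Finite ι]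
  (ρ : ι → G →* Equiv.Perm (Fin 3))

/-- The common kernel. -/
def D : Subgroup G := ⨅ i, (ρ i).ker

/-- The elements acting as even permutations on all sets. -/
def F : Subgroup G := ⨅ i, (Equiv.Perm.sign.comp (ρ i)).ker

omit [Finite G] [Finite ι] in
theorem mem_D {g : G} : g ∈ D ρ ↔ ∀ i, ρ i g = 1 := by
  simp only [D, mem_iInf, MonoidHom.mem_ker]

omit [Finite G] [Finite ι] in
theorem mem_F {g : G} : g ∈ F ρ ↔ ∀ i, Equiv.Perm.sign (ρ i g) = 1 := by
  simp only [F, mem_iInf, MonoidHom.mem_ker, MonoidHom.comp_apply]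

variable {ρ}

omit [Finite G] in
theorem F_le_closure {f : ι → G} (hf1 : ∀ i, ρ i (f i) ≠ 1) (hf3 : ∀ i, ρ i (f i) ^ 3 = 1)
    (hfj : ∀ i j, j ≠ i → ρ j (f i) = 1) {g : G} (hg : g ∈ F ρ) :
    g ∈ closure (Set.range f ∪ (D ρ : Set G)) := by
  classical
  have := Fintype.ofFinite ι
  have hfF : ∀ i, f i ∈ F ρ := by
    intro i
    rw [mem_F]
    intro j
    by_cases hj : j = i
    · subst hj; exact perm_sign_of_cube _ (hf3 j)
    · rw [hfj i j hj, map_one]
  have key : ∀ s : Finset ι, ∀ g ∈ F ρ, (∀ i ∉ s, ρ i g = 1) →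
      g ∈ closure (Set.range f ∪ (D ρ : Set G)) := by
    intro s
    induction s using Finset.induction_on with
    | empty =>
      intro g _ h
      apply Subgroup.subset_closure
      right
      exact (mem_D ρ).2 fun i => h i (Finset.notMem_empty i)
    | insert a s ha ih =>
      intro g hg h
      have h1 := perm_pow_of_sign (ρ a (f a)) (ρ a g) ((mem_F ρ).1 (hfF a) a) (hf1 a)
        ((mem_F ρ).1 hg a)
      obtain ⟨k, hk⟩ : ∃ k : ℕ, ρ a g = ρ a (f a) ^ k := by
        rcases h1 with h1 | h1 | h1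
        · exact ⟨0, by rw [h1, pow_zero]⟩
        · exact ⟨1, by rw [h1, pow_one]⟩
        · exact ⟨2, by rw [h1, pow_two]⟩
      have h2 : g * (f a ^ k)⁻¹ ∈ closure (Set.range f ∪ (D ρ : Set G)) := by
        apply ih
        · exact (F ρ).mul_mem hg ((F ρ).inv_mem ((F ρ).pow_mem (hfF a) k))
        · intro i hi
          rw [map_mul, map_inv, map_pow]
          by_cases hia : i = a
          · subst hia; rw [hk, mul_inv_cancel]
          · rw [hfj a i hia, one_pow, inv_one, mul_one]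
            exact h i (by rw [Finset.mem_insert]; tauto)
      have h3 : f a ^ k ∈ closure (Set.range f ∪ (D ρ : Set G)) := by
        refine Subgroup.pow_mem _ ?_ k
        apply Subgroup.subset_closure
        left
        exact ⟨a, rfl⟩
      have h4 := mul_mem h2 h3
      rwa [inv_mul_cancel_right] at h4
  exact key Finset.univ g hg fun i hi => absurd (Finset.mem_univ i) hi

omit [Finite G] [Finite ι] in
/-- `f i` and `f j` commute. -/
theorem comm_f {f t : ι → G} (hcen : ∀ d ∈ D ρ, ∀ g, d * g = g * d)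
    (hodd : ∀ d ∈ D ρ, d * d = 1 → d = 1)
    (hf3 : ∀ i, ρ i (f i) ^ 3 = 1) (hfj : ∀ i j, j ≠ i → ρ j (f i) = 1)
    (ht1 : ∀ i, Equiv.Perm.sign (ρ i (t i)) = -1) (htj : ∀ i j, j ≠ i → ρ j (t i) = 1) (i j : ι) :
    f i * f j = f j * f i := by
  by_cases hij : i = j
  · rw [hij]
  have hsgn : ∀ i, Equiv.Perm.sign (ρ i (f i)) = 1 := fun i => perm_sign_of_cube _ (hf3 i)
  obtain ⟨c, hc⟩ : ∃ c, c = f i * f j * (f i)⁻¹ * (f j)⁻¹ := ⟨_, rfl⟩
  have hcD : c ∈ D ρ := by
    rw [mem_D]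
    intro k
    rw [hc]
    simp only [map_mul, map_inv]
    by_cases hk : k = i
    · subst hk
      rw [hfj j k hij]; group
    · rw [hfj i k hk]; group
  obtain ⟨d1, hd1⟩ : ∃ d, d = t i * f i * (t i)⁻¹ * f i := ⟨_, rfl⟩
  have hd1D : d1 ∈ D ρ := by
    rw [mem_D]
    intro k
    rw [hd1]
    simp only [map_mul, map_inv]
    by_cases hk : k = i
    · subst hk
      rw [perm_conj_odd _ _ (ht1 k) (hsgn k), inv_mul_cancel]
    · rw [hfj i k hk]; group
  obtain ⟨d2, hd2⟩ : ∃ d, d = t i * f j * (t i)⁻¹ * (f j)⁻¹ := ⟨_, rfl⟩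
  have hd2D : d2 ∈ D ρ := by
    rw [mem_D]
    intro k
    rw [hd2]
    simp only [map_mul, map_inv]
    by_cases hk : k = i
    · subst hk
      rw [hfj j k hij]; group
    · rw [htj i k hk]; group
  -- `t f_i t⁻¹ = d1 f_i⁻¹`, `t f_j t⁻¹ = d2 f_j`
  have e1 : t i * f i * (t i)⁻¹ = d1 * (f i)⁻¹ := by rw [hd1]; group
  have e2 : t i * f j * (t i)⁻¹ = d2 * f j := by rw [hd2]; group
  have e0 : f i * f j = c * (f j * f i) := by rw [hc]; group
  have e3 : (f i)⁻¹ * f j = c⁻¹ * (f j * (f i)⁻¹) := by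
    -- f_j f_i⁻¹ = f_i⁻¹ (f_i f_j) f_i⁻¹ = f_i⁻¹ c f_j = c f_i⁻¹ f_j
    have h1 : f j * (f i)⁻¹ = c * ((f i)⁻¹ * f j) := by
      calc f j * (f i)⁻¹ = (f i)⁻¹ * (f i * f j) * (f i)⁻¹ := by group
        _ = (f i)⁻¹ * (c * (f j * f i)) * (f i)⁻¹ := by rw [e0]
        _ = (f i)⁻¹ * c * f j := by group
        _ = c * (f i)⁻¹ * f j := by rw [hcen c hcD (f i)⁻¹]
        _ = _ := by group
    rw [h1]; group
  have e4 : c = t i * c * (t i)⁻¹ := by rw [← hcen c hcD (t i)]; group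
  have e5 : (d1 * (f i)⁻¹) * (d2 * f j) = c * ((d2 * f j) * (d1 * (f i)⁻¹)) := by
    rw [← e1, ← e2]
    calc t i * f i * (t i)⁻¹ * (t i * f j * (t i)⁻¹) = t i * (f i * f j) * (t i)⁻¹ := by group
      _ = t i * (c * (f j * f i)) * (t i)⁻¹ := by rw [e0]
      _ = (t i * c * (t i)⁻¹) * (t i * f j * (t i)⁻¹ * (t i * f i * (t i)⁻¹)) := by group
      _ = _ := by rw [← e4]
  have e6 : (d1 * (f i)⁻¹) * (d2 * f j) = d1 * d2 * ((f i)⁻¹ * f j) := by
    calc (d1 * (f i)⁻¹) * (d2 * f j) = d1 * ((f i)⁻¹ * d2) * f j := by group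
      _ = d1 * (d2 * (f i)⁻¹) * f j := by rw [hcen d2 hd2D (f i)⁻¹]
      _ = _ := by group
  have e7 : (d2 * f j) * (d1 * (f i)⁻¹) = d1 * d2 * (f j * (f i)⁻¹) := by
    calc (d2 * f j) * (d1 * (f i)⁻¹) = d2 * (f j * d1) * (f i)⁻¹ := by group
      _ = d2 * (d1 * f j) * (f i)⁻¹ := by rw [hcen d1 hd1D (f j)]
      _ = (d2 * d1) * (f j * (f i)⁻¹) := by group
      _ = (d1 * d2) * (f j * (f i)⁻¹) := by rw [hcen d2 hd2D d1]
  rw [e6, e7, e3] at e5
  -- d1 d2 c⁻¹ X = c d1 d2 X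
  have e8 : d1 * d2 * c⁻¹ = c * (d1 * d2) := by
    have h1 : (d1 * d2 * c⁻¹) * (f j * (f i)⁻¹) = (c * (d1 * d2)) * (f j * (f i)⁻¹) := by
      calc (d1 * d2 * c⁻¹) * (f j * (f i)⁻¹) = d1 * d2 * (c⁻¹ * (f j * (f i)⁻¹)) := by group
        _ = c * (d1 * d2 * (f j * (f i)⁻¹)) := e5
        _ = _ := by group
    exact mul_right_cancel h1
  have e9 : c * c = 1 := by
    have h1 : c * (d1 * d2) = d1 * d2 * c := hcen c hcD _
    rw [h1] at e8
    have h2 : c⁻¹ = c := mul_left_cancel e8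
    calc c * c = c * c⁻¹ := by rw [h2]
      _ = 1 := mul_inv_cancel c
  rw [e0, hodd c hcD e9, one_mul]

/-- The abstract statement. -/
theorem abstract_eq_bot {f t : ι → G} (hcen : ∀ d ∈ D ρ, ∀ g, d * g = g * d)
    (hodd : ∀ d ∈ D ρ, d * d = 1 → d = 1)
    (hf1 : ∀ i, ρ i (f i) ≠ 1) (hf3 : ∀ i, ρ i (f i) ^ 3 = 1)
    (hfj : ∀ i j, j ≠ i → ρ j (f i) = 1)
    (ht1 : ∀ i, Equiv.Perm.sign (ρ i (t i)) = -1) (htj : ∀ i j, j ≠ i → ρ j (t i) = 1)
    (gen : closure {g : G | ∃ n : ℕ, g ^ 2 ^ n = 1} = ⊤) {d : G} (hd : d ∈ D ρ) : d = 1 := by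
  -- `F` is abelian
  have hcomm : ∀ x ∈ F ρ, ∀ y ∈ F ρ, x * y = y * x := by
    intro x hx y hy
    refine closure_comm (S := Set.range f ∪ (D ρ : Set G)) ?_ (F_le_closure hf1 hf3 hfj hx)
      (F_le_closure hf1 hf3 hfj hy)
    rintro a (⟨i, rfl⟩ | ha) b (⟨j, rfl⟩ | hb)
    · exact comm_f hcen hodd hf3 hfj ht1 htj i j
    · exact (hcen b hb _).symm
    · exact hcen a ha _
    · exact hcen a ha _
  -- `F` has no involution
  have hFodd : ∀ x ∈ F ρ, x * x = 1 → x = 1 := by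
    intro x hx hxx
    apply hodd x _ hxx
    rw [mem_D]
    intro i
    refine perm_even_sq _ ((mem_F ρ).1 hx i) ?_
    rw [← map_mul, hxx, map_one]
  have hF2 : ∀ n : ℕ, ∀ x ∈ F ρ, x ^ 2 ^ n = 1 → x = 1 := by
    intro n
    induction n with
    | zero => intro x _ h; simpa using h
    | succ n ih =>
      intro x hx h
      rw [pow_succ, pow_mul] at h
      have h1 : x ^ 2 ^ n = 1 := hFodd _ ((F ρ).pow_mem hx _) (by rw [← pow_two]; exact h)
      exact ih x hx h1
  -- the transfer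
  have hsq : ∀ g : G, g * g ∈ F ρ := by
    intro g
    rw [mem_F]
    intro i
    rw [map_mul]
    exact perm_sign_sq _
  have hFn : (F ρ).Normal := by
    refine ⟨fun n hn g => ?_⟩
    rw [mem_F] at hn ⊢
    intro i
    rw [map_mul, map_mul, map_mul, map_mul, map_inv, map_inv, hn i, mul_one, mul_inv_cancel]
  have hidx : ∃ n : ℕ, (F ρ).index = 2 ^ n := by
    have h1 : IsPGroup 2 (G ⧸ F ρ) := by
      intro g
      obtain ⟨g, rfl⟩ := QuotientGroup.mk_surjective g
      refine ⟨1, ?_⟩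
      rw [pow_one, ← QuotientGroup.mk_pow, QuotientGroup.eq_one_iff, pow_two]
      exact hsq g
    obtain ⟨n, hn⟩ := IsPGroup.iff_card.1 h1
    exact ⟨n, hn⟩
  let _ : CommGroup ↥(F ρ) := { (inferInstance : Group ↥(F ρ)) with
    mul_comm := fun a b => Subtype.ext (hcomm a a.2 b b.2) }
  obtain ⟨n, hn⟩ := hidx
  let V : G →* ↥(F ρ) := MonoidHom.transfer (MonoidHom.id ↥(F ρ))
  have hV : ∀ g : G, V g = 1 := by
    have h1 : (⊤ : Subgroup G) ≤ V.ker := by
      rw [← gen, closure_le]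
      rintro g ⟨m, hm⟩
      rw [SetLike.mem_coe, MonoidHom.mem_ker]
      apply Subtype.ext
      refine hF2 m _ (V g).2 ?_
      have h2 : (V g) ^ 2 ^ m = 1 := by rw [← map_pow, hm, map_one]
      exact congrArg Subtype.val h2
    intro g
    exact MonoidHom.mem_ker.1 (h1 (mem_top g))
  have h1 : V d = (MonoidHom.id ↥(F ρ)) ⟨d ^ (F ρ).index, _⟩ :=
    MonoidHom.transfer_eq_pow (MonoidHom.id ↥(F ρ)) d (by
      intro k g₀ _
      have h2 : d ^ k ∈ D ρ := (D ρ).pow_mem hd k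
      rw [mul_assoc, hcen _ h2 g₀, inv_mul_cancel_left])
  rw [hV d] at h1
  have h2 : d ^ 2 ^ n = 1 := by
    rw [← hn]
    exact (congrArg Subtype.val h1).symm
  refine hF2 n d ?_ h2
  rw [mem_F]
  intro i
  rw [(mem_D ρ).1 hd i, map_one]

end Abstract

open Cfsg
open Cfsg.Agent.PLocal.ThompsonJ

universe u

/-- The action of `N ≤ N(V)` on the three nonidentity elements of the four-group `V`. -/
theorem exists_rho {K : Type u} [Group K] {V N : Subgroup K} (hV : Nat.card V = 4)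
    (hN : N ≤ normalizer (V : Set K)) : ∃ φ : ↥N →* Equiv.Perm (Fin 3),
      ∀ n : ↥N, φ n = 1 ↔ ∀ v ∈ V, (n : K) * v * (n : K)⁻¹ = v := by
  have hfin : Finite V := Nat.finite_of_card_ne_zero (by omega)
  let φ : N →* Equiv.Perm ↥(Plane.nonid V) :=
    (MulAction.toPermHom (MulAut V) ↥(Plane.nonid V)).comp
      ((V.normalizerMonoidHom).comp (Subgroup.inclusion hN))
  have hker : ∀ n : ↥N, φ n = 1 ↔ ∀ v ∈ V, (n : K) * v * (n : K)⁻¹ = v := by
    intro n
    constructor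
    · intro h v hv
      by_cases h1 : v = 1
      · rw [h1, mul_one, mul_inv_cancel]
      · have h2 := Equiv.ext_iff.1 h ⟨⟨v, hv⟩, fun h3 => h1 (congrArg Subtype.val h3)⟩
        exact congrArg (fun x : ↥(Plane.nonid V) => ((x : V) : K)) h2
    · intro h
      ext ⟨⟨v, hv⟩, hv1⟩
      change (n : K) * v * (n : K)⁻¹ = v
      exact h v hv
  have hcard : Nat.card ↥(Plane.nonid V) = 3 := by
    have h1 : Nat.card ↥(Plane.nonid V) + 1 = Nat.card V := by
      have h2 : Nat.card ↥(Plane.nonid V) = ({1}ᶜ : Set V).ncard := rfl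
      rw [h2, Set.ncard_compl, Set.ncard_singleton]
      have : 0 < Nat.card V := Nat.card_pos
      omega
    omega
  have hfin2 : Finite ↥(Plane.nonid V) := Nat.finite_of_card_ne_zero (by omega)
  let e : ↥(Plane.nonid V) ≃ Fin 3 := Finite.equivFinOfCardEq hcard
  refine ⟨(e.permCongrHom.toMonoidHom).comp φ, fun n => ?_⟩
  rw [← hker n]
  constructor
  · intro h
    exact e.permCongrHom.injective (by rw [map_one]; exact h)
  · intro h
    change e.permCongrHom (φ n) = 1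
    rw [h, map_one]

/-- A 2-element of `C = C_K(W)` lies in `O₂(K)`, if `C` is normal, `C ≤ N(T)`,
`T ∩ C = O₂(K)`. -/
theorem two_element_mem {K : Type u} [Group K] [Finite K] {T C : Subgroup K}
    (two : IsPGroup 2 T) (sylow : ¬ 2 ∣ T.index) (hCn : C.Normal)
    (cT : T ⊓ C = pCore 2 K) {x : K} (hx : x ∈ C) {n : ℕ} (hn : x ^ 2 ^ n = 1) :
    x ∈ pCore 2 K := by
  have hQn : (pCore 2 K).Normal := Lib.Cores.pCore_normal 2
  have h1 : IsPGroup 2 ↥(zpowers x) := by
    rw [IsPGroup.iff_orderOf]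
    rintro ⟨y, hy⟩
    obtain ⟨k, rfl⟩ := mem_zpowers_iff.1 hy
    have h2 : orderOf (⟨x ^ k, hy⟩ : ↥(zpowers x)) ∣ 2 ^ n := by
      apply orderOf_dvd_of_pow_eq_one
      apply Subtype.ext
      change (x ^ k) ^ 2 ^ n = 1
      rw [← zpow_natCast, ← zpow_mul, mul_comm, zpow_mul, zpow_natCast, hn, one_zpow]
    obtain ⟨m, _, hm⟩ := (Nat.dvd_prime_pow Nat.prime_two).1 h2
    exact ⟨m, hm⟩
  obtain ⟨S, hS⟩ := FFBasic.exists_sylow two sylow
  obtain ⟨P, hP⟩ := h1.exists_le_sylow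
  obtain ⟨g, hg⟩ := MulAction.exists_smul_eq K S P
  have h3 : x ∈ (P : Subgroup K) := hP (mem_zpowers x)
  rw [← hg, Sylow.coe_subgroup_smul, Subgroup.mem_pointwise_smul_iff_inv_smul_mem] at h3
  have h4 : g⁻¹ * x * g ∈ T := by
    rw [← hS]
    have h5 : (MulAut.conj g)⁻¹ • x = g⁻¹ * x * g := by
      rw [← map_inv]
      simp [MulAut.smul_def]
    rwa [h5] at h3
  have h5 : g⁻¹ * x * g ∈ C := by
    have := hCn.conj_mem x hx g⁻¹
    rwa [inv_inv] at this
  have h6 : g⁻¹ * x * g ∈ pCore 2 K := by rw [← cT]; exact ⟨h4, h5⟩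
  have h7 := hQn.conj_mem _ h6 g
  have h8 : g * (g⁻¹ * x * g) * g⁻¹ = x := by group
  rwa [h8] at h7

/-- `[C, J(K)] ≤ O₂(K)`. -/
theorem comm_mem {K : Type u} [Group K] [Finite K] {T C : Subgroup K}
    (two : IsPGroup 2 T) (sylow : ¬ 2 ∣ T.index) (hCn : C.Normal)
    (hC : C ≤ normalizer (T : Set K)) (cT : T ⊓ C = pCore 2 K) {c k : K} (hc : c ∈ C)
    (hk : k ∈ thompsonSubgroup 2 K) : c * k * c⁻¹ * k⁻¹ ∈ pCore 2 K := by
  have hQn : (pCore 2 K).Normal := Lib.Cores.pCore_normal 2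
  let S : Subgroup K :=
    { carrier := {k | ∀ c ∈ C, c * k * c⁻¹ * k⁻¹ ∈ pCore 2 K}
      one_mem' := by
        intro c _
        have : c * 1 * c⁻¹ * 1⁻¹ = 1 := by group
        rw [this]; exact one_mem _
      mul_mem' := by
        intro k l hk hl c hc
        have : c * (k * l) * c⁻¹ * (k * l)⁻¹ =
            (c * k * c⁻¹ * k⁻¹) * (k * (c * l * c⁻¹ * l⁻¹) * k⁻¹) := by group
        rw [this]
        exact mul_mem (hk c hc) (hQn.conj_mem _ (hl c hc) k)
      inv_mem' := by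
        intro k hk c hc
        have : c * k⁻¹ * c⁻¹ * k⁻¹⁻¹ = k⁻¹ * (c * k * c⁻¹ * k⁻¹)⁻¹ * k⁻¹⁻¹ := by group
        rw [this]
        exact hQn.conj_mem _ (inv_mem (hk c hc)) k⁻¹ }
  have hSconj : ∀ g k : K, k ∈ S → g * k * g⁻¹ ∈ S := by
    intro g k hk c hc
    have : c * (g * k * g⁻¹) * c⁻¹ * (g * k * g⁻¹)⁻¹ =
        g * ((g⁻¹ * c * g) * k * (g⁻¹ * c * g)⁻¹ * k⁻¹) * g⁻¹ := by group
    rw [this]
    refine hQn.conj_mem _ (hk _ ?_) g
    have := hCn.conj_mem c hc g⁻¹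
    rwa [inv_inv] at this
  have hTS : T ≤ S := by
    intro x hx c hc
    rw [← cT]
    refine ⟨T.mul_mem ?_ (T.inv_mem hx), ?_⟩
    · exact (mem_normalizer_iff.1 (hC hc) x).1 hx
    · have : c * x * c⁻¹ * x⁻¹ = c * (x * c⁻¹ * x⁻¹) := by group
      rw [this]
      exact C.mul_mem hc (hCn.conj_mem _ (C.inv_mem hc) x)
  have hJS : thompsonSubgroup 2 K ≤ S := by
    refine thompsonSubgroup_le fun A hA => ?_
    obtain ⟨R, hR⟩ := FFBasic.exists_sylow two sylow
    obtain ⟨P, hP⟩ := (isPGroup_of_isElementaryAbelian hA.1).exists_le_sylow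
    obtain ⟨g, hg⟩ := MulAction.exists_smul_eq K R P
    intro x hx
    have h3 : x ∈ (P : Subgroup K) := hP hx
    rw [← hg, Sylow.coe_subgroup_smul, Subgroup.mem_pointwise_smul_iff_inv_smul_mem] at h3
    have h4 : g⁻¹ * x * g ∈ T := by
      rw [← hR]
      have h5 : (MulAut.conj g)⁻¹ • x = g⁻¹ * x * g := by
        rw [← map_inv]
        simp [MulAut.smul_def]
      rwa [h5] at h3
    have h8 : g * (g⁻¹ * x * g) * g⁻¹ = x := by group
    rw [← h8]
    exact hSconj g _ (hTS h4)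
  exact hJS hk c hc

/-- **[A1e]**: the elements of `J(K)` centralizing `W` lie in `O₂(K)`. -/
theorem le {K : Type u} [Group K] [Finite K] {T W : Subgroup K} (two : IsPGroup 2 T)
    (sylow : ¬ 2 ∣ T.index) (Wn : W.Normal)
    (hC : centralizer (W : Set K) ≤ normalizer (T : Set K))
    (cT : T ⊓ centralizer (W : Set K) = pCore 2 K) {ι : Type} [Finite ι] {V : ι → Subgroup K}
    (card : ∀ i, Nat.card (V i) = 4)
    (indep : iSupIndep (fun o : Option ι =>
      o.elim (W ⊓ centralizer (thompsonSubgroup 2 K : Set K)) V))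
    (sup : (W ⊓ centralizer (thompsonSubgroup 2 K : Set K)) ⊔ (⨆ i, V i) = W)
    (nrm : ∀ i, thompsonSubgroup 2 K ≤ normalizer ((V i : Subgroup K) : Set K))
    (d : ∀ i, ∃ d ∈ thompsonSubgroup 2 K, (∃ v ∈ V i, d * v * d⁻¹ ≠ v) ∧
      (∀ v ∈ V i, d ^ 3 * v * (d ^ 3)⁻¹ = v) ∧ ∀ j, j ≠ i → ∀ v ∈ V j, d * v = v * d)
    (t : ∀ i, ∃ t ∈ jj T, (∃ v ∈ V i, t * v * t⁻¹ ≠ v) ∧
      ∀ j, j ≠ i → ∀ v ∈ V j, t * v = v * t) :
    thompsonSubgroup 2 K ⊓ centralizer (W : Set K) ≤ pCore 2 K := by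
  have _ := indep
  have hQn : (pCore 2 K).Normal := Lib.Cores.pCore_normal 2
  have hCn : (centralizer (W : Set K)).Normal := inferInstance
  have hQC : pCore 2 K ≤ centralizer (W : Set K) := by rw [← cT]; exact inf_le_right
  have hVW : ∀ i, V i ≤ W := fun i => (le_iSup V i).trans (le_sup_right.trans sup.le)
  have hQTJ : ∀ i, ∀ x ∈ pCore 2 K, ∀ v ∈ V i, x * v * x⁻¹ = v := by
    intro i x hx v hv
    have h1 := mem_centralizer_iff.1 (hQC hx) v (hVW i hv)
    rw [← h1, mul_inv_cancel_right]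
  obtain ⟨S, hS⟩ := FFBasic.exists_sylow two sylow
  have hjT : jj T ≤ T := thompsonSubgroupOf_le_self 2 T
  have hjJ : jj T ≤ thompsonSubgroup 2 K := by
    rw [thompsonSubgroup_eq_iSup_sylow, ← hS]
    exact le_iSup (fun S : Sylow 2 K => thompsonSubgroupOf 2 (S : Subgroup K)) S
  choose φ hφ using fun i => exists_rho (card i) (nrm i)
  have hfac : ∀ i, (pCore 2 K).subgroupOf (thompsonSubgroup 2 K) ≤ (φ i).ker := by
    intro i x hx
    rw [MonoidHom.mem_ker, hφ]
    exact hQTJ i x hx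
  have : ((pCore 2 K).subgroupOf (thompsonSubgroup 2 K)).Normal := inferInstance
  let Gq := ↥(thompsonSubgroup 2 K) ⧸ ((pCore 2 K).subgroupOf (thompsonSubgroup 2 K))
  let mk : ↥(thompsonSubgroup 2 K) →* Gq :=
    QuotientGroup.mk' ((pCore 2 K).subgroupOf (thompsonSubgroup 2 K))
  have hmk1 : ∀ x : ↥(thompsonSubgroup 2 K), mk x = 1 ↔ (x : K) ∈ pCore 2 K := by
    intro x
    exact (QuotientGroup.eq_one_iff x).trans mem_subgroupOf
  let ρ : ι → Gq →* Equiv.Perm (Fin 3) := fun i =>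
    QuotientGroup.lift _ (φ i) fun x hx => MonoidHom.mem_ker.1 (hfac i hx)
  have hρ : ∀ i (x : ↥(thompsonSubgroup 2 K)), ρ i (mk x) = φ i x := fun i x => rfl
  -- the common kernel
  have hD : ∀ x : ↥(thompsonSubgroup 2 K), mk x ∈ D ρ ↔ (x : K) ∈ centralizer (W : Set K) := by
    intro x
    rw [mem_D]
    constructor
    · intro h
      have h1 : W ≤ centralizer {(x : K)} := by
        rw [← sup, sup_le_iff]
        constructor
        · intro w hw
          rw [mem_centralizer_iff]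
          rintro y rfl
          exact (mem_centralizer_iff.1 hw.2 _ x.2)
        · refine iSup_le fun i => ?_
          intro w hw
          rw [mem_centralizer_iff]
          rintro y rfl
          have h2 := h i
          rw [hρ, hφ] at h2
          have h3 := h2 w hw
          calc (x : K) * w = (x : K) * w * (x : K)⁻¹ * x := by group
            _ = w * x := by rw [h3]
      rw [mem_centralizer_iff]
      intro w hw
      exact ((mem_centralizer_iff.1 (h1 hw)) x rfl).symm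
    · intro h i
      rw [hρ, hφ]
      intro v hv
      have h1 := mem_centralizer_iff.1 h v (hVW i hv)
      rw [← h1, mul_inv_cancel_right]
  choose f0 hf0J hf0ne hf0cube hf0j using d
  choose t0 ht0J ht0ne ht0j using t
  intro x hx
  have hgoal : mk ⟨x, hx.1⟩ = 1 := by
    refine abstract_eq_bot (ρ := ρ) (f := fun i => mk ⟨f0 i, hf0J i⟩)
      (t := fun i => mk ⟨t0 i, hjJ (ht0J i)⟩) ?_ ?_ ?_ ?_ ?_ ?_ ?_ ?_ ((hD _).2 hx.2)
    · -- central
      intro a ha g
      obtain ⟨a, rfl⟩ := QuotientGroup.mk'_surjective _ a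
      obtain ⟨g, rfl⟩ := QuotientGroup.mk'_surjective _ g
      have ha' := (hD a).1 ha
      have h1 := comm_mem two sylow hCn hC cT ha' g.2
      have h2 : mk (a * g * a⁻¹ * g⁻¹) = 1 := (hmk1 _).2 h1
      rw [map_mul, map_mul, map_mul, map_inv, map_inv, mul_inv_eq_one, mul_inv_eq_iff_eq_mul] at h2
      exact h2
    · -- odd
      intro a ha haa
      obtain ⟨a, rfl⟩ := QuotientGroup.mk'_surjective _ a
      have ha' := (hD a).1 ha
      have h1 : mk (a * a) = 1 := by rw [map_mul]; exact haa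
      rw [hmk1] at h1
      have h2 : ∃ n : ℕ, (a : K) ^ 2 ^ n = 1 := by
        obtain ⟨n, hn⟩ := (Lib.Cores.pCore_isPGroup (G := K) 2) ⟨_, h1⟩
        refine ⟨n + 1, ?_⟩
        have h3 := congrArg Subtype.val hn
        rw [pow_succ', pow_mul, pow_two]
        exact h3
      obtain ⟨n, hn⟩ := h2
      exact (hmk1 a).2 (two_element_mem two sylow hCn cT ha' hn)
    · intro i h
      rw [hρ, hφ] at h
      obtain ⟨v, hv, hv'⟩ := hf0ne i
      exact hv' (h v hv)
    · intro i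
      rw [hρ, ← map_pow, hφ]
      exact hf0cube i
    · intro i j hij
      rw [hρ, hφ]
      intro v hv
      change f0 i * v * (f0 i)⁻¹ = v
      rw [hf0j i j hij v hv, mul_inv_cancel_right]
    · intro i
      apply perm_sign_ne
      intro h
      obtain ⟨n, hn⟩ := two ⟨t0 i, hjT (ht0J i)⟩
      have hn' : (t0 i) ^ 2 ^ n = 1 := congrArg Subtype.val hn
      have h1 := perm_even_two_pow _ h n (by
        rw [hρ, ← map_pow, hφ]
        intro v _
        change (t0 i) ^ 2 ^ n * v * ((t0 i) ^ 2 ^ n)⁻¹ = v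
        rw [hn', one_mul, inv_one, mul_one])
      rw [hρ, hφ] at h1
      obtain ⟨v, hv, hv'⟩ := ht0ne i
      exact hv' (h1 v hv)
    · intro i j hij
      rw [hρ, hφ]
      intro v hv
      change t0 i * v * (t0 i)⁻¹ = v
      rw [ht0j i j hij v hv, mul_inv_cancel_right]
    · -- generation
      rw [eq_top_iff]
      intro g _
      obtain ⟨g, rfl⟩ := QuotientGroup.mk'_surjective _ g
      have h1 : thompsonSubgroup 2 K ≤
          ((closure {g : Gq | ∃ n : ℕ, g ^ 2 ^ n = 1}).comap mk).map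
            (thompsonSubgroup 2 K).subtype := by
        refine thompsonSubgroup_le fun A hA => ?_
        intro a ha
        refine ⟨⟨a, le_thompsonSubgroup hA ha⟩, ?_, rfl⟩
        refine Subgroup.subset_closure ⟨1, ?_⟩
        rw [← map_pow, pow_one]
        have h2 : (⟨a, le_thompsonSubgroup hA ha⟩ : ↥(thompsonSubgroup 2 K)) ^ 2 = 1 :=
          Subtype.ext (isElementaryAbelian_pow hA.1 ha)
        rw [h2, map_one]
      obtain ⟨y, hy, hy'⟩ := h1 g.2
      have h2 : y = g := Subtype.ext hy'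
      rw [← h2]
      exact hy
  exact (hmk1 _).1 hgoal

end Cfsg.Agent.ZN.OddKernel
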