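import Cfsg.Agent.ZN.FFData
import Cfsg.Agent.ZN.MaxQ
import Cfsg.Agent.ZN.OddKernel
import Cfsg.Agent.ZN.Baumann
import Cfsg.Agent.ZN.BlkFam
import Cfsg.Agent.ZN.Map

/-!
# ZN-groups (S0518), part [A]: the structure lemma

For a solvable group `X` of characteristic 2 with Sylow 2-subgroup `T`, `C_X(Ω₁(Z(T))) ≤ N_X(T)` and
`J(T)` not normal in `X`: the subgroup generated by the conjugates of the Baumann subgroup of `T` is
generated by a family of `S₃`-blocks.
-/

set_option autoImplicit false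

namespace Cfsg.Agent.ZN.Structure

open Subgroup Cfsg
open Cfsg.Agent.PLocal
open Cfsg.Agent.PLocal.FFCoprime (omegaJoin)

universe u

/-- The structure lemma, for a group `K`. -/
theorem exists_strData_top {K : Type u} [Group K] [Finite K] (T : Subgroup K)
    (hs : Group.IsSolvable K) (hc : centralizer (pCore 2 K : Set K) ≤ pCore 2 K)
    (hT : IsPGroup 2 T) (hTi : ¬ 2 ∣ T.index)
    (hZ : centralizer (zc T : Set K) ≤ normalizer (T : Set K))
    (hJ : ¬ ⊤ ≤ normalizer (jj T : Set K)) :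
    ∃ 𝓛 : Set (Subgroup K), StrData ⊤ (bau T) 𝓛 := by
  obtain ⟨cT, hC⟩ := FFBasic.inf_centralizer_eq hT hTi hZ
  obtain ⟨n, V, h1⟩ := FFData.exists_ff1 hs hc T hT hTi cT
    (FFBasic.not_le_centralizer hT hTi hZ hJ)
  have hWn := h1.Wn
  have hmax := MaxQ.exists_max hT hTi h1.Wn h1.Wcomm h1.Wsq cT h1.card h1.indep h1.sup h1.nrm
  have hff : FF T (omegaJoin 2 K) V := {
    two := hT
    sylow := hTi
    nonempty := h1.nonempty
    Wn := h1.Wn
    Wcomm := h1.Wcomm
    Wsq := h1.Wsq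
    cQ := hc
    WQ := h1.WQ
    Wcent := h1.Wcent
    cT := cT
    cJ := OddKernel.le hT hTi h1.Wn hC cT h1.card h1.indep h1.sup h1.nrm h1.d h1.t
    card := h1.card
    indep := h1.indep
    sup := h1.sup
    perm := h1.perm
    nrm := h1.nrm
    d := h1.d
    t := h1.t
    comm_le := MaxQ.comm_le hs hT hTi h1.Wcomm h1.Wsq h1.hO cT hmax
    maxQ := hmax }
  obtain ⟨L₀, Z₁, h2⟩ := Baumann.exists_l0 hff
  exact BlkFam.exists_str h2

/-- **The structure lemma** for a subgroup `X` of `G` with Sylow 2-subgroup `T`. -/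
theorem exists_strData {G : Type u} [Group G] [Finite G] (X T : Subgroup G)
    (hs : Group.IsSolvable ↥X)
    (hc : centralizer (pCore 2 ↥X : Set ↥X) ≤ pCore 2 ↥X)
    (hT : IsPGroup 2 T) (hTX : T ≤ X) (hTs : ¬ 2 ∣ T.relIndex X)
    (hZ : X ⊓ centralizer (zc T : Set G) ≤ normalizer (T : Set G))
    (hJ : ¬ X ≤ normalizer (jj T : Set G)) :
    ∃ 𝓛 : Set (Subgroup G), StrData X (bau T) 𝓛 := by
  have hf := X.subtype_injective
  have hmap : (T.subgroupOf X).map X.subtype = T := by
    rw [subgroupOf_map_subtype, inf_eq_left]; exact hTX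
  have hcent : centralizer (zc (T.subgroupOf X) : Set ↥X) ≤
      normalizer ((T.subgroupOf X : Subgroup ↥X) : Set ↥X) := by
    rw [← le_normalizer_map_iff X.subtype hf, hmap]
    refine le_trans ?_ hZ
    refine le_inf (map_subtype_le _) ?_
    have hz : zc T = (zc (T.subgroupOf X)).map X.subtype := by
      rw [← zc_map X.subtype hf, hmap]
    rw [hz]
    rintro _ ⟨x, hx, rfl⟩
    rw [mem_centralizer_iff]
    rintro _ ⟨z, hz, rfl⟩
    exact congrArg Subtype.val ((mem_centralizer_iff.1 hx) z hz)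
  have hJ' : ¬ (⊤ : Subgroup ↥X) ≤ normalizer (jj (T.subgroupOf X) : Set ↥X) := by
    intro h
    apply hJ
    rw [← le_normalizer_map_iff X.subtype hf, ← jj_map X.subtype hf, hmap,
      ← MonoidHom.range_eq_map, range_subtype] at h
    exact h
  obtain ⟨𝓛, h𝓛⟩ := exists_strData_top (T.subgroupOf X) hs hc
    (hT.comap_of_injective X.subtype hf) hTs hcent hJ'
  have h1 := h𝓛.map X.subtype hf
  rw [← MonoidHom.range_eq_map, range_subtype, ← bau_map X.subtype hf, hmap] at h1
  exact ⟨_, h1⟩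

end Cfsg.Agent.ZN.Structure
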