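import Cfsg.Agent.ZN.ChoiceMain
import Cfsg.Agent.ZN.Structure

/-!
# S0518, part [C]: the context `Ctx N B P Q` exists
-/

set_option autoImplicit false

namespace Cfsg.Agent.ZN.Choice

open Subgroup Cfsg Cfsg.Agent.ZN

universe u

/-- Part [C] of S0518. -/
theorem exists_ctx {G : Type u} [Group G] [Finite G]
    (hL : IsCharacteristicTwoType G) (hO : pCore 2 G = ⊥)
    (hN : ∀ N : Subgroup G, IsTwoLocal N → Group.IsSolvable N)
    (hZ : ∀ S : Sylow 2 G,
      Subgroup.centralizer (zc (S : Subgroup G) : Set G) ≤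
        Subgroup.normalizer ((S : Subgroup G) : Set G))
    (hse : ∀ K : Subgroup G, ¬ IsStronglyEmbedded K) :
    ∃ N B P Q : Subgroup G, Ctx N B P Q :=
  ChoiceMain.exists_ctx_of hL hO hN hZ hse fun X T hs hc hT hTX hTs hZ' hJ =>
    Structure.exists_strData X T hs hc hT hTX hTs hZ' hJ

end Cfsg.Agent.ZN.Choice
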