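import Cfsg.Agent.ZN.ChoiceSit
import Cfsg.Prelude.Def_Involutions

/-!
# ZN-groups (S0518): the choice, context (II)

`M` is a 2-local subgroup containing a Sylow 2-subgroup `S` and all 2-local overgroups of `bau S`, and `M`
is not strongly embedded. A 2-subgroup `T ≠ 1` of `M` contained in a 2-local subgroup which is not
contained in `M` is chosen with largest key.
-/

set_option autoImplicit false

namespace Cfsg.Agent.ZN.CaseTwo

open Subgroup Cfsg
open Cfsg.Agent.ZN.ChoiceBase Cfsg.Agent.ZN.ChoiceSit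

universe u

variable {G : Type u} [Group G]

/-- The candidates: nontrivial 2-subgroups of `M` lying in a 2-local subgroup not contained in `M`. -/
def Cand (M T : Subgroup G) : Prop :=
  IsPGroup 2 T ∧ T ≠ ⊥ ∧ T ≤ M ∧ ∃ X : Subgroup G, IsTwoLocal X ∧ ¬ X ≤ M ∧ T ≤ X

/-- `T` is a candidate with largest key. -/
def Max (M T : Subgroup G) : Prop :=
  Cand M T ∧ ∀ T' : Subgroup G, Cand M T' → key T' ≤ key T

theorem syl_of_sylow [Finite G] (S : Sylow 2 G) {M : Subgroup G} (h : (S : Subgroup G) ≤ M) :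
    Syl (S : Subgroup G) M :=
  ⟨h, S.isPGroup', fun _ _ hQ hSQ => S.is_maximal' hQ hSQ⟩

theorem syl_cj [Finite G] {T X : Subgroup G} (g : G) (h : Syl T X) : Syl (cj g T) (cj g X) := by
  refine ⟨cj_mono g h.1, isPGroup_cj g h.2.1, fun Q hQ hp hT => ?_⟩
  have h1 := h.2.2 (cj g⁻¹ Q) ?_ (isPGroup_cj _ hp) ?_
  · rw [← h1, cj_cj_inv]
  · have := cj_mono g⁻¹ hQ
    rwa [cj_inv_cj] at this
  · have := cj_mono g⁻¹ hT
    rwa [cj_inv_cj] at this

/-- Existence of a candidate when `M` is not strongly embedded. -/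
theorem exists_cand [Finite G] (hL : IsCharacteristicTwoType G) (hO : pCore 2 G = ⊥)
    (hse : ∀ K : Subgroup G, ¬ IsStronglyEmbedded K) (S : Sylow 2 G) {M : Subgroup G}
    (hM : IsTwoLocal M) (hSM : (S : Subgroup G) ≤ M) : ∃ T, Cand M T := by
  classical
  have : Fact (Nat.Prime 2) := ⟨Nat.prime_two⟩
  by_contra hcon
  have hcand : ∀ X T : Subgroup G, IsTwoLocal X → IsPGroup 2 T → T ≠ ⊥ → T ≤ M → T ≤ X →
      X ≤ M := by
    intro X T hX hT hne hTM hTX
    by_contra hXM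
    exact hcon ⟨T, hT, hne, hTM, X, hX, hXM, hTX⟩
  have hMtop : M ≠ ⊤ := by
    rintro rfl
    obtain ⟨U, hU, hne, h⟩ := hM
    have hn : U.Normal := Subgroup.normalizer_eq_top_iff.1 h.symm
    apply hne
    rw [← le_bot_iff, ← hO]
    exact le_sSup ⟨hn, hU⟩
  have hS0 : (S : Subgroup G) ≠ ⊥ := S.ne_bot_of_dvd_card (even_iff_two_dvd.1 hL.1)
  have hSnorm : normalizer ((S : Subgroup G) : Set G) ≤ M :=
    hcand _ (S : Subgroup G) ⟨_, S.isPGroup', hS0, rfl⟩ S.isPGroup' hS0 hSM le_normalizer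
  have heven : Even (Nat.card M) := by
    have h1 : 2 ∣ Nat.card (S : Subgroup G) := by
      rcases S.isPGroup'.card_eq_or_dvd with h | h
      · exact absurd (Subgroup.card_eq_one.1 h) hS0
      · exact h
    exact (even_iff_two_dvd.2 (h1.trans (Subgroup.card_dvd_of_le hSM)))
  apply hse M
  refine ⟨hMtop, heven, fun g hg => ?_⟩
  by_contra hodd
  apply hg
  rw [Nat.not_odd_iff_even, even_iff_two_dvd] at hodd
  obtain ⟨t, ht⟩ := exists_prime_orderOf_dvd_card' 2 hodd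
  have ht2 : orderOf (t : G) = 2 := by
    rw [← ht]; exact Subgroup.orderOf_coe t
  obtain ⟨t, htM, htM'⟩ := t
  simp only at ht2
  have hz : IsPGroup 2 (zpowers t) := by
    apply IsPGroup.of_card (n := 1)
    rw [Nat.card_zpowers, ht2, pow_one]
  have hzne : zpowers t ≠ ⊥ := by
    intro h
    rw [Subgroup.zpowers_eq_bot] at h
    rw [h, orderOf_one] at ht2
    omega
  have h1 : normalizer ((zpowers t : Subgroup G) : Set G) ≤ M :=
    hcand _ (zpowers t) ⟨_, hz, hzne, rfl⟩ hz hzne (by rwa [Subgroup.zpowers_le]) le_normalizer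
  obtain ⟨S2, hS2, htS2⟩ := exists_syl hz (X := cj g M) (by rw [Subgroup.zpowers_le]; exact htM')
  have hSg : Syl (cj g (S : Subgroup G)) (cj g M) := syl_cj g (syl_of_sylow S hSM)
  obtain ⟨y, hy, hyS⟩ := syl_conj hSg hS2
  have hS2ne : S2 ≠ ⊥ := fun h => hzne (le_bot_iff.1 (htS2.trans h.le))
  have hzc : zc S2 ≤ M := by
    refine le_trans ?_ h1
    refine le_trans ?_ (centralizer_le_normalizer _)
    intro x hx
    rw [mem_centralizer_iff]
    exact fun w hw => (mem_zc.1 hx).2.2 w (htS2 hw)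
  have hzcne : zc S2 ≠ ⊥ := zc_ne_bot hS2.2.1 hS2ne
  have hzcp : IsPGroup 2 (zc S2) := hS2.2.1.to_le (zc_le S2)
  have h2 : normalizer ((zc S2 : Subgroup G) : Set G) ≤ M :=
    hcand _ (zc S2) ⟨_, hzcp, hzcne, rfl⟩ hzcp hzcne hzc le_normalizer
  have h3 : S2 ≤ M := by
    refine le_trans ?_ h2
    refine le_trans ?_ (centralizer_le_normalizer _)
    intro x hx
    rw [mem_centralizer_iff]
    exact fun w hw => ((mem_zc.1 hw).2.2 x hx).symm
  -- `S2` is Sylow in `M`
  have hS2M : Syl S2 M := by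
    refine ⟨h3, hS2.2.1, fun Q hQM hQ hS2Q => ?_⟩
    obtain ⟨S', hS'⟩ := hQ.exists_le_sylow
    have hc1 : Nat.card (S' : Subgroup G) = Nat.card S2 := by
      rw [← hyS, card_cj, card_cj]
      exact (S'.card_eq_multiplicity.trans S.card_eq_multiplicity.symm)
    exact (Subgroup.eq_of_le_of_card_ge hS2Q ((Subgroup.card_le_of_le hS').trans hc1.le)).symm
  obtain ⟨m, hm, hmS⟩ := syl_conj (syl_of_sylow S hSM) hS2M
  have h4 : m⁻¹ * (y * g) ∈ normalizer ((S : Subgroup G) : Set G) := by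
    rw [mem_normalizer_iff_cj, ← cj_cj, ← cj_cj, hyS, ← hmS, cj_inv_cj]
  have h5 : y * g ∈ M := by
    have := M.mul_mem hm (hSnorm h4)
    rwa [mul_inv_cancel_left] at this
  rw [mem_cj] at hy
  have h6 := M.mul_mem h5 (M.inv_mem hy)
  have h7 : y * g * (g⁻¹ * y * g)⁻¹ = g := by group
  rwa [h7] at h6

/-- A candidate with largest key exists. -/
theorem exists_max [Finite G] {M : Subgroup G} (h : ∃ T, Cand M T) : ∃ T, Max M T := by
  obtain ⟨T, hT, hmax⟩ := Set.exists_max_image {T : Subgroup G | Cand M T} key (Set.toFinite _) h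
  exact ⟨T, hT, fun T' hT' => hmax T' hT'⟩

section

variable [Finite G] {M T : Subgroup G}

/-- Normalizers of nontrivial 2-subgroups normalized by a 2-subgroup of `M` properly containing `T`
are contained in `M`. -/
theorem Max.normalizer_le (h : Max M T) {T₂ C : Subgroup G} (hT₂ : IsPGroup 2 T₂) (hTT : T ≤ T₂)
    (hne : T ≠ T₂) (hM : T₂ ≤ M) (hC : IsPGroup 2 C) (hC1 : C ≠ ⊥)
    (hT₂C : T₂ ≤ normalizer (C : Set G)) : normalizer (C : Set G) ≤ M := by
  by_contra hc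
  apply hne
  refine eq_of_key_le hTT (h.2 T₂ ⟨hT₂, ?_, hM, _, ⟨C, hC, hC1, rfl⟩, hc, hT₂C⟩)
  exact fun h0 => h.1.2.1 (le_bot_iff.1 (hTT.trans h0.le))

/-- Setting: `S₁` is a 2-subgroup of `M` properly containing `T`. Then there is `x ∈ S₁` outside `T` and
normalizing `T`. -/
theorem exists_normalizing {S₁ : Subgroup G} (hS₁ : IsPGroup 2 S₁) (hTS : T ≤ S₁) (hne : T ≠ S₁) :
    ∃ x ∈ S₁, x ∉ T ∧ x ∈ normalizer (T : Set G) := by
  have : Fact (Nat.Prime 2) := ⟨Nat.prime_two⟩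
  have hnil : Group.IsNilpotent S₁ := hS₁.isNilpotent
  have hlt : T.subgroupOf S₁ < ⊤ := by
    rw [lt_top_iff_ne_top]
    intro h
    rw [Subgroup.subgroupOf_eq_top] at h
    exact hne (le_antisymm hTS h)
  have h1 := Group.normalizerCondition_of_isNilpotent (G := S₁) _ hlt
  obtain ⟨y, hy1, hy2⟩ := SetLike.exists_of_lt h1
  refine ⟨y, y.2, fun h => hy2 (Subgroup.mem_subgroupOf.2 h), ?_⟩
  rw [Subgroup.mem_normalizer_iff] at hy1 ⊢
  intro z
  constructor
  · intro hz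
    have := (hy1 ⟨z, hTS hz⟩).1 (Subgroup.mem_subgroupOf.2 hz)
    exact Subgroup.mem_subgroupOf.1 this
  · intro hz
    have hzS : z ∈ S₁ := by
      have := S₁.mul_mem (S₁.mul_mem (S₁.inv_mem y.2) (hTS hz)) y.2
      have h3 : (y : G)⁻¹ * ((y : G) * z * (y : G)⁻¹) * (y : G) = z := by group
      rwa [h3] at this
    have := (hy1 ⟨z, hzS⟩).2 (Subgroup.mem_subgroupOf.2 hz)
    exact Subgroup.mem_subgroupOf.1 this

end

/-- Data attached to a maximal candidate. -/
structure Data (M T S₁ : Subgroup G) (x : G) : Prop where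
  max : Max M T
  two : IsPGroup 2 S₁
  le : T ≤ S₁
  leM : S₁ ≤ M
  x_mem : x ∈ S₁
  x_not : x ∉ T
  x_norm : x ∈ normalizer (T : Set G)

section

variable [Finite G] {M T S₁ : Subgroup G} {x : G}

theorem Data.normalizer_le (h : Data M T S₁ x) {C : Subgroup G} (hC : IsPGroup 2 C) (hC1 : C ≠ ⊥)
    (hTC : normalizer (T : Set G) ≤ normalizer (C : Set G)) : normalizer (C : Set G) ≤ M := by
  have hle : T ⊔ zpowers x ≤ S₁ := sup_le h.le (by rw [Subgroup.zpowers_le]; exact h.x_mem)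
  refine h.max.normalizer_le (T₂ := T ⊔ zpowers x) (h.two.to_le hle) le_sup_left ?_
    (hle.trans h.leM) hC hC1 ?_
  · intro he
    apply h.x_not
    rw [he]
    exact le_sup_right (a := T) (Subgroup.mem_zpowers x)
  · refine sup_le (le_normalizer.trans hTC) ?_
    rw [Subgroup.zpowers_le]
    exact hTC h.x_norm

theorem jj_ne_bot (hT : IsPGroup 2 T) (hne : T ≠ ⊥) : jj T ≠ ⊥ := by
  intro h1
  have : Fact (Nat.Prime 2) := ⟨Nat.prime_two⟩
  have h2 : 2 ∣ Nat.card T := by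
    rcases hT.card_eq_or_dvd with h3 | h3
    · exact absurd ((Subgroup.card_eq_one).1 h3) hne
    · exact h3
  have h3 := Cfsg.Agent.PLocal.ThompsonJ.thompsonSubgroup_ne_bot (G := T) h2
  apply h3
  have h4 : (thompsonSubgroup 2 T).map T.subtype = ⊥ := h1
  rwa [Subgroup.map_eq_bot_iff_of_injective _ T.subtype_injective] at h4

theorem Data.norm_jj (h : Data M T S₁ x) : normalizer ((jj T : Subgroup G) : Set G) ≤ M :=
  h.normalizer_le (h.max.1.1.to_le (jj_le T)) (jj_ne_bot h.max.1.1 h.max.1.2.1)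
    (normalizer_le_jj T)

theorem Data.sit (h : Data M T S₁ x) : Sit M T where
  two := h.max.1.1
  ne := h.max.1.2.1
  norm := h.norm_jj
  key := by
    intro X hX hBX hXM T' hT' hBT' hT'X
    have hbM : bau T ≤ X ⊓ M := le_inf hBX ((bau_le T).trans (h.le.trans h.leM))
    have hbp : IsPGroup 2 (bau T) := h.max.1.1.to_le (bau_le T)
    have hbne : bau T ≠ ⊥ := fun h0 =>
      jj_ne_bot h.max.1.1 h.max.1.2.1 (le_bot_iff.1 ((jj_le_bau T).trans h0.le))
    obtain ⟨TX, hTX, hbTX⟩ := exists_syl hbp hbM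
    have hcTX : Cand M TX := ⟨hTX.2.1, fun h0 => hbne (le_bot_iff.1 (hbTX.trans h0.le)),
      hTX.1.trans inf_le_right, X, hX, hXM, hTX.1.trans inf_le_left⟩
    obtain ⟨-, hj, -, -⟩ := of_key_le hbTX (h.max.2 TX hcTX)
    -- `TX` is Sylow in `X`
    have hsyl : Syl TX X := by
      refine ⟨hTX.1.trans inf_le_left, hTX.2.1, fun Q hQX hQ hTQ => ?_⟩
      by_contra hne
      obtain ⟨y, hy1, hy2, hy3⟩ := exists_normalizing hQ hTQ (Ne.symm hne)
      have hyM : y ∈ M := by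
        apply h.norm_jj
        rw [← hj]
        exact normalizer_le_jj TX hy3
      apply hy2
      have h2 : TX ⊔ zpowers y = TX := by
        apply hTX.2.2
        · refine sup_le hTX.1 ?_
          rw [Subgroup.zpowers_le]
          exact ⟨hQX hy1, hyM⟩
        · exact hQ.to_le (sup_le hTQ (by rw [Subgroup.zpowers_le]; exact hy1))
        · exact le_sup_left
      rw [← h2]
      exact le_sup_right (a := TX) (Subgroup.mem_zpowers y)
    obtain ⟨S', hS', hT'S'⟩ := exists_syl hT' hT'X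
    obtain ⟨g, -, hg⟩ := syl_conj hsyl hS'
    have hk : key T' ≤ key T := by
      refine (key_mono hT'S').trans ?_
      rw [← hg, key_cj]
      exact h.max.2 TX hcTX
    obtain ⟨-, h1, h2, -⟩ := of_key_le hBT' hk
    exact ⟨h1, h2⟩

end

/-- The data exist. -/
theorem exists_data [Finite G] (hL : IsCharacteristicTwoType G) (hO : pCore 2 G = ⊥)
    (hse : ∀ K : Subgroup G, ¬ IsStronglyEmbedded K) (S : Sylow 2 G) {M : Subgroup G}
    (hM : IsTwoLocal M) (hSM : (S : Subgroup G) ≤ M)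
    (hall : ∀ X : Subgroup G, IsTwoLocal X → (S : Subgroup G) ≤ X → X ≤ M) :
    ∃ (T S₁ : Subgroup G) (x : G), Data M T S₁ x := by
  obtain ⟨T, hT⟩ := exists_max (exists_cand hL hO hse S hM hSM)
  obtain ⟨S₁, hS₁, hTS⟩ := exists_syl hT.1.1 hT.1.2.2.1
  obtain ⟨m, hm, hmS⟩ := syl_conj (syl_of_sylow S hSM) hS₁
  have hne : T ≠ S₁ := by
    rintro rfl
    obtain ⟨X, hX, hXM, hTX⟩ := hT.1.2.2.2
    apply hXM
    have h1 : cj m⁻¹ X ≤ M := by
      refine hall _ (isTwoLocal_cj _ hX) ?_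
      rw [← cj_inv_cj m (S : Subgroup G), hmS]
      exact cj_mono _ hTX
    have h2 := cj_mono m h1
    rw [cj_cj_inv] at h2
    rwa [cj_eq_of_mem_normalizer (le_normalizer hm)] at h2
  obtain ⟨x, hx1, hx2, hx3⟩ := exists_normalizing hS₁.2.1 hTS hne
  exact ⟨T, S₁, x, hT, hS₁.2.1, hTS, hS₁.1, hx1, hx2, hx3⟩

/-- Context (II). -/
theorem result [Finite G] (hL : IsCharacteristicTwoType G) (hO : pCore 2 G = ⊥)
    (hN : ∀ N : Subgroup G, IsTwoLocal N → Group.IsSolvable N)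
    (hZ : ∀ S : Sylow 2 G, centralizer (zc (S : Subgroup G) : Set G) ≤
      normalizer ((S : Subgroup G) : Set G))
    (hA : StrLemma G) (hse : ∀ K : Subgroup G, ¬ IsStronglyEmbedded K) (S : Sylow 2 G)
    {M : Subgroup G} (hM : IsTwoLocal M) (hSM : (S : Subgroup G) ≤ M)
    (hall : ∀ X : Subgroup G, IsTwoLocal X → (S : Subgroup G) ≤ X → X ≤ M) :
    ∃ N B P Q : Subgroup G, Ctx N B P Q := by
  obtain ⟨T, S₁, x, h⟩ := exists_data hL hO hse S hM hSM hall
  have hsit := h.sit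
  have halt : M ≤ normalizer (jj (bau T) : Set G) ∨
      ∃ x ∈ M, x ∉ bau T ∧ x ∈ normalizer (bau T : Set G) ∧ IsPGroup 2 ↥(bau T ⊔ zpowers x) := by
    refine Or.inr ⟨x, h.leM h.x_mem, fun hx => h.x_not (bau_le T hx),
      normalizer_le_bau T h.x_norm, h.two.to_le (sup_le ((bau_le T).trans h.le) ?_)⟩
    rw [Subgroup.zpowers_le]
    exact h.x_mem
  rcases hsit.dich hL hN hZ hA halt with ⟨P, Q, hPQ⟩ | ⟨R, hR, hR1, hNR, hblk⟩
  · exact ⟨_, _, P, Q, hPQ⟩
  · exfalso
    have hRM : normalizer (R : Set G) ≤ M :=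
      h.normalizer_le (h.max.1.1.to_le (hR.trans (bau_le T))) hR1 ((normalizer_le_bau T).trans hNR)
    obtain ⟨X, hX, hXM, hTX⟩ := h.max.1.2.2.2
    obtain ⟨⟨𝓛, h𝓛⟩, -⟩ := hsit.str hL hN hZ hA X hX ((bau_le T).trans hTX) hXM
    apply hXM
    refine h𝓛.gen.trans (sup_le (sSup_le fun L hLL => ?_) (inf_le_right.trans
      hsit.normalizer_bau_le))
    by_contra hLM
    exact hLM ((hblk L (mem_EE_of_mem h𝓛 hX hLL hLM)).trans hRM)

end Cfsg.Agent.ZN.CaseTwo
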