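import Mathlib.GroupTheory.Index
import Mathlib.GroupTheory.PGroup
import Mathlib.Tactic.FinCases
import Mathlib.Tactic.Group

set_option autoImplicit false

/-! # S0518, part [B], the case `b = 1`

Raw form: two subgroups `L 0`, `L 1` over a common 2-group `T`, with `Q i` (index at most two in `T`, normal in
`L i`), `Z i` elementary abelian with `Q i = C_T(Z i)`, `ZJ = Ω₁(Z(T))`, `R i = C_{ZJ}(L i)`-like subgroups of index
at most two in `ZJ`.  If `Z 0` and `Z 1` do not commute and no non-trivial subgroup of `T` is normalised by both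
`L 0` and `L 1` then `Q i = Z i`, `Q 0 ⊓ Q 1 = ZJ` is the centre of `T` and has order at most four. -/

namespace Cfsg.Agent.ZN.BOne

variable {G : Type*} [Group G]

/-- The data of the case `b = 1`, all as subgroups of `G`. -/
structure Raw (T ZJ : Subgroup G) (L Q Z R : Fin 2 → Subgroup G) : Prop where
  mem_ZJ : ∀ x, x ∈ ZJ ↔ x ∈ T ∧ x * x = 1 ∧ ∀ t ∈ T, t * x = x * t
  Q_le : ∀ i, Q i ≤ T
  Q_conj : ∀ i, ∀ g ∈ L i, ∀ x ∈ Q i, g * x * g⁻¹ ∈ Q i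
  Q_two : ∀ i, ∀ x ∈ T, ∀ y ∈ T, x ∉ Q i → y ∉ Q i → x * y ∈ Q i
  Z_sq : ∀ i, ∀ z ∈ Z i, z * z = 1
  Z_le : ∀ i, Z i ≤ Q i
  mem_Q : ∀ i, ∀ x ∈ T, (∀ z ∈ Z i, x * z = z * x) → x ∈ Q i
  Q_comm : ∀ i, ∀ x ∈ Q i, ∀ z ∈ Z i, x * z = z * x
  ZJ_le : ∀ i, ZJ ≤ Z i
  R_le : ∀ i, R i ≤ ZJ
  R_two : ∀ i, ∀ x ∈ ZJ, ∀ y ∈ ZJ, x ∉ R i → y ∉ R i → x * y ∈ R i
  R_comm : ∀ i, ∀ g ∈ L i, ∀ x ∈ R i, g * x * g⁻¹ = x
  core : ∀ N : Subgroup G, N ≤ T → (∀ i, ∀ g ∈ L i, ∀ x ∈ N, g * x * g⁻¹ ∈ N) → N = ⊥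
  b_one : ∃ x ∈ Z 0, ∃ y ∈ Z 1, x * y ≠ y * x

variable {T ZJ : Subgroup G} {L Q Z R : Fin 2 → Subgroup G}

namespace Raw

theorem exists_not_mem (h : Raw T ZJ L Q Z R) (i j : Fin 2) (hij : i ≠ j) : ∃ z ∈ Z i, z ∉ Q j := by
  obtain ⟨x, hx, y, hy, hne⟩ := h.b_one
  fin_cases i <;> fin_cases j
  · exact absurd rfl hij
  · exact ⟨x, hx, fun hxQ => hne (h.Q_comm _ _ hxQ _ hy)⟩
  · exact ⟨y, hy, fun hyQ => hne (h.Q_comm _ _ hyQ _ hx).symm⟩
  · exact absurd rfl hij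

/-- `Q i = Z i (Q i ∩ Q j)`. -/
theorem exists_mul (h : Raw T ZJ L Q Z R) {i j : Fin 2} (hij : i ≠ j) {x : G} (hx : x ∈ Q i) :
    ∃ z ∈ Z i, ∃ d ∈ Q i ⊓ Q j, x = z * d := by
  obtain ⟨w, hw, hwQ⟩ := h.exists_not_mem i j hij
  by_cases hxj : x ∈ Q j
  · exact ⟨1, one_mem _, x, ⟨hx, hxj⟩, by simp⟩
  · have hwT : w ∈ T := h.Q_le _ (h.Z_le _ hw)
    have hxT : x ∈ T := h.Q_le _ hx
    refine ⟨w, hw, w * x, ⟨mul_mem (h.Z_le _ hw) hx, h.Q_two j _ hwT _ hxT hwQ hxj⟩, ?_⟩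
    rw [← mul_assoc, h.Z_sq _ _ hw, one_mul]

/-- The elements of `Q i` are involutions. -/
theorem sq_eq (h : Raw T ZJ L Q Z R) : ∀ i, ∀ x ∈ Q i, x * x = 1 := by
  -- the squares of elements of `Q i` are the squares of the elements of `D`
  have key : ∀ i j : Fin 2, i ≠ j → ∀ x ∈ Q i, ∃ d ∈ Q 0 ⊓ Q 1, x * x = d * d := by
    intro i j hij x hx
    obtain ⟨z, hz, d, hd, rfl⟩ := h.exists_mul hij hx
    refine ⟨d, ?_, ?_⟩
    · fin_cases i <;> fin_cases j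
      · exact absurd rfl hij
      · exact hd
      · exact ⟨hd.2, hd.1⟩
      · exact absurd rfl hij
    · have hc := h.Q_comm i d hd.1 z hz
      calc z * d * (z * d) = z * (d * z) * d := by group
        _ = z * (z * d) * d := by rw [hc]
        _ = (z * z) * (d * d) := by group
        _ = d * d := by rw [h.Z_sq _ _ hz, one_mul]
  have hN : Subgroup.closure {x : G | ∃ d ∈ Q 0 ⊓ Q 1, x = d * d} = ⊥ := by
    apply h.core
    · rw [Subgroup.closure_le]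
      rintro x ⟨d, hd, rfl⟩
      exact mul_mem (h.Q_le _ hd.1) (h.Q_le _ hd.1)
    · intro i g hg x hx
      induction hx using Subgroup.closure_induction with
      | mem x hx =>
        obtain ⟨d, hd, rfl⟩ := hx
        have hdi : d ∈ Q i := by
          fin_cases i
          · exact hd.1
          · exact hd.2
        have h1 : g * d * g⁻¹ ∈ Q i := h.Q_conj i g hg d hdi
        obtain ⟨j, hij⟩ : ∃ j : Fin 2, i ≠ j := by
          fin_cases i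
          · exact ⟨1, by decide⟩
          · exact ⟨0, by decide⟩
        obtain ⟨e, he, h2⟩ := key i j hij _ h1
        apply Subgroup.subset_closure
        refine ⟨e, he, ?_⟩
        rw [← h2]; group
      | one => simp
      | mul x y _ _ hx hy =>
        have : g * (x * y) * g⁻¹ = (g * x * g⁻¹) * (g * y * g⁻¹) := by group
        rw [this]; exact mul_mem hx hy
      | inv x _ hx =>
        have : g * x⁻¹ * g⁻¹ = (g * x * g⁻¹)⁻¹ := by group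
        rw [this]; exact inv_mem hx
  intro i x hx
  obtain ⟨j, hij⟩ : ∃ j : Fin 2, i ≠ j := by
    fin_cases i
    · exact ⟨1, by decide⟩
    · exact ⟨0, by decide⟩
  obtain ⟨d, hd, h2⟩ := key i j hij x hx
  have h3 : d * d ∈ Subgroup.closure {x : G | ∃ d ∈ Q 0 ⊓ Q 1, x = d * d} :=
    Subgroup.subset_closure ⟨d, hd, rfl⟩
  rw [hN, Subgroup.mem_bot] at h3
  rw [h2, h3]

theorem Q_abelian (h : Raw T ZJ L Q Z R) (i : Fin 2) {x y : G} (hx : x ∈ Q i) (hy : y ∈ Q i) :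
    x * y = y * x := by
  have h1 := h.sq_eq i _ (mul_mem hx hy)
  have hxx := h.sq_eq i _ hx
  have hyy := h.sq_eq i _ hy
  have hxi : x⁻¹ = x := inv_eq_of_mul_eq_one_left hxx
  have hyi : y⁻¹ = y := inv_eq_of_mul_eq_one_left hyy
  have := inv_eq_of_mul_eq_one_left h1
  rw [mul_inv_rev, hxi, hyi] at this
  exact this.symm

/-- every element of `T` is a product of an element of `Z 0` and an element of `Q 1`. -/
theorem exists_mul_T (h : Raw T ZJ L Q Z R) {i j : Fin 2} (hij : i ≠ j) {x : G} (hx : x ∈ T) :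
    ∃ z ∈ Z i, ∃ d ∈ Q j, x = z * d := by
  obtain ⟨w, hw, hwQ⟩ := h.exists_not_mem i j hij
  by_cases hxj : x ∈ Q j
  · exact ⟨1, one_mem _, x, hxj, by simp⟩
  · have hwT : w ∈ T := h.Q_le _ (h.Z_le _ hw)
    refine ⟨w, hw, w * x, h.Q_two j _ hwT _ hx hwQ hxj, ?_⟩
    rw [← mul_assoc, h.Z_sq _ _ hw, one_mul]

/-- `Q 0 ∩ Q 1 ≤ Ω₁(Z(T))`. -/
theorem inf_le (h : Raw T ZJ L Q Z R) : Q 0 ⊓ Q 1 ≤ ZJ := by
  intro d hd
  rw [h.mem_ZJ]
  refine ⟨h.Q_le _ hd.1, h.sq_eq _ _ hd.1, fun t ht => ?_⟩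
  obtain ⟨z, hz, e, he, rfl⟩ := h.exists_mul_T (i := 0) (j := 1) (by decide) ht
  have h1 : z * d = d * z := h.Q_abelian 0 (h.Z_le _ hz) hd.1
  have h2 : e * d = d * e := h.Q_abelian 1 he hd.2
  calc z * e * d = z * (e * d) := by group
    _ = (z * d) * e := by rw [h2]; group
    _ = d * (z * e) := by rw [h1]; group

theorem Q_eq_Z (h : Raw T ZJ L Q Z R) (i : Fin 2) : Q i = Z i := by
  apply le_antisymm _ (h.Z_le i)
  intro x hx
  obtain ⟨j, hij⟩ : ∃ j : Fin 2, i ≠ j := by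
    fin_cases i
    · exact ⟨1, by decide⟩
    · exact ⟨0, by decide⟩
  obtain ⟨z, hz, d, hd, rfl⟩ := h.exists_mul hij hx
  apply mul_mem hz
  apply h.ZJ_le i
  apply h.inf_le
  fin_cases i <;> fin_cases j
  · exact absurd rfl hij
  · exact hd
  · exact ⟨hd.2, hd.1⟩
  · exact absurd rfl hij

/-- an element of `T` centralising `T` lies in `Q 0 ∩ Q 1`. -/
theorem mem_inf_of_central (h : Raw T ZJ L Q Z R) {x : G} (hx : x ∈ T) (hc : ∀ t ∈ T, t * x = x * t) :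
    x ∈ Q 0 ⊓ Q 1 :=
  ⟨h.mem_Q 0 x hx fun z hz => (hc z (h.Q_le _ (h.Z_le _ hz))).symm,
    h.mem_Q 1 x hx fun z hz => (hc z (h.Q_le _ (h.Z_le _ hz))).symm⟩

theorem inf_eq (h : Raw T ZJ L Q Z R) : Q 0 ⊓ Q 1 = ZJ := by
  apply le_antisymm h.inf_le
  intro x hx
  rw [h.mem_ZJ] at hx
  exact h.mem_inf_of_central hx.1 hx.2.2

/-- the centre of `T` is `ZJ`. -/
theorem mem_ZJ_iff_central (h : Raw T ZJ L Q Z R) (x : G) :
    x ∈ ZJ ↔ x ∈ T ∧ ∀ t ∈ T, t * x = x * t := by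
  refine ⟨fun hx => ⟨((h.mem_ZJ x).1 hx).1, ((h.mem_ZJ x).1 hx).2.2⟩, fun hx => ?_⟩
  rw [← h.inf_eq]
  exact h.mem_inf_of_central hx.1 hx.2

theorem R_inf (h : Raw T ZJ L Q Z R) : R 0 ⊓ R 1 = ⊥ := by
  apply h.core
  · intro x hx
    exact ((h.mem_ZJ x).1 (h.R_le _ hx.1)).1
  · intro i g hg x hx
    have : g * x * g⁻¹ = x := by
      fin_cases i
      · exact h.R_comm 0 g hg x hx.1
      · exact h.R_comm 1 g hg x hx.2
    rw [this]; exact hx

theorem card_ZJ_le (h : Raw T ZJ L Q Z R) [Finite G] : Nat.card ZJ ≤ 4 := by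
  classical
  let f : ZJ → Bool × Bool := fun x => (decide ((x : G) ∈ R 0), decide ((x : G) ∈ R 1))
  have hf : Function.Injective f := by
    intro x y hxy
    have e0 : ((x : G) ∈ R 0 ↔ (y : G) ∈ R 0) := by
      have := congrArg Prod.fst hxy
      simpa [f] using this
    have e1 : ((x : G) ∈ R 1 ↔ (y : G) ∈ R 1) := by
      have := congrArg Prod.snd hxy
      simpa [f] using this
    have key : ∀ i, ((x : G) ∈ R i ↔ (y : G) ∈ R i) → (x : G)⁻¹ * y ∈ R i := by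
      intro i e
      by_cases hx : (x : G) ∈ R i
      · exact mul_mem (inv_mem hx) (e.1 hx)
      · exact h.R_two i _ (inv_mem x.2) _ y.2 (fun h' => hx (by simpa using inv_mem h')) (fun h' => hx (e.2 h'))
    have h3 : (x : G)⁻¹ * y ∈ R 0 ⊓ R 1 := ⟨key 0 e0, key 1 e1⟩
    rw [h.R_inf, Subgroup.mem_bot] at h3
    exact Subtype.ext (inv_mul_eq_one.1 h3)
  have := Nat.card_le_card_of_injective f hf
  simpa using this

/-- `T` is nonabelian: `ZJ ≠ T`. -/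
theorem not_central (h : Raw T ZJ L Q Z R) : ∃ x ∈ Z 0, ∃ y ∈ Z 1, x * y ≠ y * x := h.b_one

end Raw

end Cfsg.Agent.ZN.BOne
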