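import Cfsg.Agent.ZN.ChoiceSit

/-!
# S0518, part [C]: a subgroup which is not strongly embedded
-/

set_option autoImplicit false

namespace Cfsg.Agent.ZN.ChoiceNse

open Subgroup Cfsg Cfsg.Agent.ZN Cfsg.Agent.ZN.ChoiceBase Cfsg.Agent.ZN.ChoiceSit

universe u

variable {G : Type u} [Group G]

/-- A 2-subgroup properly contained in a 2-group is not self-normalizing there. -/
theorem eq_of_normalizer_inf_le [Finite G] {T P : Subgroup G} (hP : IsPGroup 2 P) (hTP : T ≤ P)
    (h : normalizer (T : Set G) ⊓ P ≤ T) : T = P := by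
  have : Fact (Nat.Prime 2) := ⟨Nat.prime_two⟩
  have hnil : Group.IsNilpotent P := hP.isNilpotent
  by_contra hne
  have hlt : T.subgroupOf P < ⊤ := by
    rw [lt_top_iff_ne_top]
    intro h1
    exact hne (le_antisymm hTP (subgroupOf_eq_top.1 h1))
  have h2 := Group.normalizerCondition_of_isNilpotent (G := P) (T.subgroupOf P) hlt
  obtain ⟨x, hx, hx'⟩ := SetLike.exists_of_lt h2
  apply hx'
  rw [mem_subgroupOf]
  apply h
  refine mem_inf.2 ⟨?_, x.2⟩
  rw [mem_normalizer_iff] at hx ⊢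
  intro y
  constructor
  · intro hy
    have := (hx ⟨y, hTP hy⟩).1 (mem_subgroupOf.2 hy)
    exact this
  · intro hy
    have hyP : y ∈ P := by
      have h3 : (x : G) * y * (x : G)⁻¹ ∈ P := hTP hy
      have h4 := P.mul_mem (P.mul_mem (P.inv_mem x.2) h3) x.2
      have : (x : G)⁻¹ * ((x : G) * y * (x : G)⁻¹) * (x : G) = y := by group
      rwa [this] at h4
    exact (hx ⟨y, hyP⟩).2 hy

/-- If `M` has even order and is proper but not strongly embedded, there is a 2-local subgroup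
`X ≰ M` with a nontrivial 2-subgroup in `X ⊓ M`. -/
theorem exists_pair [Finite G] {M : Subgroup G} (hEven : Even (Nat.card M)) (hM : M ≠ ⊤)
    (hse : ¬ IsStronglyEmbedded M) :
    ∃ X T : Subgroup G, IsTwoLocal X ∧ ¬ X ≤ M ∧ IsPGroup 2 T ∧ T ≠ ⊥ ∧ T ≤ X ∧ T ≤ M := by
  have : Fact (Nat.Prime 2) := ⟨Nat.prime_two⟩
  by_contra hcon
  push Not at hcon
  apply hse
  refine ⟨hM, hEven, fun g hg => ?_⟩
  by_contra hodd
  rw [Nat.not_odd_iff_even, even_iff_two_dvd] at hodd
  obtain ⟨T, hT, -⟩ := exists_syl (T := (⊥ : Subgroup G)) (X := M ⊓ cj g M) IsPGroup.of_bot bot_le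
  have hT1 : T ≠ ⊥ := by
    rintro rfl
    have h1 := syl_not_dvd hT
    rw [Subgroup.relIndex_bot_left] at h1
    exact h1 hodd
  have hN : ∀ U : Subgroup G, IsPGroup 2 U → U ≠ ⊥ → U ≤ M → normalizer (U : Set G) ≤ M := by
    intro U hU hU1 hUM
    by_contra h
    exact hcon _ U ⟨U, hU, hU1, rfl⟩ h hU hU1 le_normalizer hUM
  have h1 : normalizer (T : Set G) ≤ M := hN T hT.2.1 hT1 (hT.1.trans inf_le_left)
  have h2 : normalizer ((cj g⁻¹ T : Subgroup G) : Set G) ≤ M := by
    refine hN _ (hT.2.1.map _) ?_ ?_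
    · intro h
      apply hT1
      have h3 := congrArg (cj g) h
      rw [cj_cj, mul_inv_cancel, cj_one] at h3
      rw [h3]
      exact Subgroup.map_bot _
    · rw [cj_le_iff, inv_inv]
      exact hT.1.trans inf_le_right
  have h3 : normalizer (T : Set G) ≤ cj g M := by
    rw [← cj_normalizer, cj_le_iff, inv_inv] at h2
    exact h2
  obtain ⟨P, hP⟩ := hT.2.1.exists_le_sylow
  have h4 : T = P := by
    apply eq_of_normalizer_inf_le P.isPGroup' hP
    have h5 := hT.2.2 (normalizer (T : Set G) ⊓ P) (le_inf (inf_le_left.trans h1)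
      (inf_le_left.trans h3)) (P.isPGroup'.to_le inf_le_right) (le_inf le_normalizer hP)
    exact h5.le
  have h5 : Syl T M := by
    refine ⟨hT.1.trans inf_le_left, hT.2.1, fun Q _ hQ hTQ => ?_⟩
    rw [h4] at hTQ ⊢
    exact P.is_maximal' hQ hTQ
  have h6 : Syl (cj g⁻¹ T) M := by
    refine ⟨?_, hT.2.1.map _, fun Q _ hQ hTQ => ?_⟩
    · rw [cj_le_iff, inv_inv]
      exact hT.1.trans inf_le_right
    · have h7 : T ≤ cj g Q := by
        rw [cj_le_iff, inv_inv] at hTQ
        exact hTQ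
      have h8 : cj g Q = T := by
        rw [h4] at h7 ⊢
        exact P.is_maximal' (hQ.map _) h7
      rw [← h8, cj_inv_cj]
  obtain ⟨m, hm, hmT⟩ := syl_conj h6 h5
  rw [cj_cj] at hmT
  have h7 : m * g⁻¹ ∈ normalizer (T : Set G) := mem_normalizer_iff_cj.2 hmT
  apply hg
  have h8 := M.mul_mem (M.inv_mem (h1 h7)) hm
  simpa using h8

end Cfsg.Agent.ZN.ChoiceNse
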