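import Mathlib

/-!
# Rank two amalgams of S₃ type with both vertex modules noncentral (walk argument)

`P true`, `P false` are two subgroups of a group `G` over `B`; `Q i ≤ B` has index 2 in `B` and is normal in `P i`,
`Z i ≤ Q i` is an elementary abelian normal subgroup of `P i` with `C_B(Z i) = Q i`, `Y = C_{Z i}(B)` has index 2 in
`Z i`, `R i = C_Y(P i)` has index 2 in `Y`, and no nontrivial subgroup of `B` is normal in both `P i`.
We show: if `Z (!i) ≤ Q i` for both `i`, then `Z i ⊔ Z (!i)` is normal in `P i` for some `i`.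
-/

set_option autoImplicit false
set_option linter.unusedSectionVars false

namespace Cfsg.Agent.ZN.AmalgamWalk

variable {G : Type*} [Group G]

/-- The hypotheses on the two parabolics. -/
structure Hyp (P Q Z R : Bool → Subgroup G) (B Y : Subgroup G) (ρ : Bool → G) : Prop where
  B_le : ∀ i, B ≤ P i
  Q_le : ∀ i, Q i ≤ B
  Z_le : ∀ i, Z i ≤ Q i
  Y_le : ∀ i, Y ≤ Z i
  R_le : ∀ i, R i ≤ Y
  Q_norm : ∀ i, ∀ p ∈ P i, ∀ q ∈ Q i, p * q * p⁻¹ ∈ Q i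
  Z_norm : ∀ i, ∀ p ∈ P i, ∀ z ∈ Z i, p * z * p⁻¹ ∈ Z i
  R_cent : ∀ i, ∀ p ∈ P i, ∀ r ∈ R i, p * r = r * p
  Y_cent : ∀ b ∈ B, ∀ y ∈ Y, b * y = y * b
  Q_cent : ∀ i, ∀ q ∈ Q i, ∀ z ∈ Z i, q * z = z * q
  cent_Q : ∀ i, ∀ b ∈ B, (∀ z ∈ Z i, b * z = z * b) → b ∈ Q i
  Q_two : ∀ i, ∀ s ∈ B, ∀ t ∈ B, s ∉ Q i → t ∉ Q i → s * t ∈ Q i
  sq : ∀ i, ∀ z ∈ Z i, z * z = 1
  max : ∀ i, ∀ H : Subgroup G, B ≤ H → H ≤ P i → H = B ∨ H = P i
  inter : ∀ i, ∀ p ∈ P i, p ∉ B → ∀ b ∈ B, p⁻¹ * b * p ∈ B → b ∈ Q i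
  Z_two : ∀ i, ∀ z ∈ Z i, ∀ z' ∈ Z i, z ∉ Y → z' ∉ Y → z * z' ∈ Y
  R_two : ∀ i, ∀ z ∈ Y, ∀ z' ∈ Y, z ∉ R i → z' ∉ R i → z * z' ∈ R i
  Z_gen : ∀ i, ∀ p ∈ P i, p ∉ B → ∀ H : Subgroup G, Y ≤ H → (∀ y ∈ Y, p * y * p⁻¹ ∈ H) → Z i ≤ H
  Z_ne : ∀ i, ∃ z ∈ Z i, z ∉ Y
  ρ_mem : ∀ i, ρ i ∈ Y
  ρ_not : ∀ i, ρ i ∉ R i
  comm : ∀ i, ∀ z ∈ Z i, z ∉ Y → ∀ b ∈ B, b ∉ Q i → z * b = b * z * ρ i
  core : ∀ X : Subgroup G, X ≤ B → (∀ i, ∀ p ∈ P i, ∀ x ∈ X, p * x * p⁻¹ ∈ X) → X = ⊥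
  three : ∀ i, ∃ p ∈ P i, ∃ p' ∈ P i, p ∉ B ∧ p' ∉ B ∧ p⁻¹ * p' ∉ B

/-- walks in the coset graph, in coordinates relative to the first edge -/
inductive Wk (P : Bool → Subgroup G) : ℕ → Bool → Bool → G → Prop
  | one (i : Bool) : Wk P 1 i (!i) 1
  | step {n : ℕ} {i j : Bool} {x : G} (p : G) : Wk P n i j x → p ∈ P j → Wk P (n + 1) i (!j) (x * p)

section Walks
variable {P : Bool → Subgroup G}

theorem Wk.pos {n : ℕ} {i j : Bool} {x : G} (h : Wk P n i j x) : 1 ≤ n := by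
  cases h <;> omega

theorem Wk.one_inv {n : ℕ} {i j : Bool} {x : G} (h : Wk P n i j x) (hn : n = 1) : x = 1 ∧ j = !i := by
  cases h with
  | one => exact ⟨rfl, rfl⟩
  | step p h _ => exact absurd h.pos (by omega)

theorem Wk.cast {n : ℕ} {i j j' : Bool} {x y : G} (h : Wk P n i j x) (hj : j = j') (hxy : x = y) : Wk P n i j' y := by
  subst hj; subst hxy; exact h

theorem Wk.prepend {n : ℕ} {i j : Bool} {x : G} (h : Wk P n i j x) (p : G) (hp : p ∈ P i) :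
    Wk P (n + 1) (!i) j (p * x) := by
  induction h with
  | one i =>
    have h1 : Wk P 1 (!i) (!!i) 1 := Wk.one (!i)
    rw [Bool.not_not] at h1
    have h2 := Wk.step p h1 hp
    simpa using h2
  | step q _ hq ih =>
    have h2 := Wk.step q (ih hp) hq
    rw [mul_assoc] at h2
    exact h2

theorem Wk.symm {n : ℕ} {i j : Bool} {x : G} (h : Wk P n i j x) : Wk P n j i x⁻¹ := by
  induction h with
  | one i =>
    have h1 : Wk P 1 (!i) (!!i) 1 := Wk.one (!i)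
    rw [Bool.not_not] at h1
    simpa using h1
  | step q _ hq ih =>
    have h2 := ih.prepend q⁻¹ (inv_mem hq)
    rw [mul_inv_rev]
    exact h2

/-- last step -/
theorem Wk.last {n : ℕ} {i j : Bool} {x : G} (h : Wk P n i j x) (hn : 2 ≤ n) :
    ∃ x' p, Wk P (n - 1) i (!j) x' ∧ p ∈ P (!j) ∧ x = x' * p := by
  cases h with
  | one => omega
  | @step n _ j x p h hp =>
    refine ⟨x, p, ?_, ?_, rfl⟩
    · rw [Bool.not_not]; simpa using h
    · rw [Bool.not_not]; exact hp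

/-- first step -/
theorem Wk.first {n : ℕ} {i j : Bool} {x : G} (h : Wk P n i j x) (hn : 2 ≤ n) :
    ∃ p x', Wk P (n - 1) (!i) j x' ∧ p ∈ P (!i) ∧ x = p * x' := by
  obtain ⟨y, p, h1, hp, hx⟩ := h.symm.last hn
  refine ⟨p⁻¹, y⁻¹, h1.symm, inv_mem hp, ?_⟩
  rw [← mul_inv_rev, ← hx, inv_inv]

end Walks

variable {P Q Z R : Bool → Subgroup G} {B Y : Subgroup G} {ρ : Bool → G}

namespace Hyp

variable (H : Hyp P Q Z R B Y ρ)
include H

theorem Z_comm (i : Bool) {z w : G} (hz : z ∈ Z i) (hw : w ∈ Z i) : z * w = w * z :=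
  H.Q_cent i z (H.Z_le i hz) w hw

theorem inv_eq (i : Bool) {z : G} (hz : z ∈ Z i) : z⁻¹ = z := by
  rw [inv_eq_iff_mul_eq_one]; exact H.sq i z hz

theorem ρ_inv (i : Bool) : (ρ i)⁻¹ = ρ i := H.inv_eq i (H.Y_le i (H.ρ_mem i))

theorem ρ_ne (i : Bool) : ρ i ≠ 1 := fun h => H.ρ_not i (h ▸ one_mem _)

theorem Q_norm' (i : Bool) {p q : G} (hp : p ∈ P i) (hq : q ∈ Q i) : p⁻¹ * q * p ∈ Q i := by
  have := H.Q_norm i p⁻¹ (inv_mem hp) q hq
  rwa [inv_inv] at this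

theorem Z_norm' (i : Bool) {p z : G} (hp : p ∈ P i) (hz : z ∈ Z i) : p⁻¹ * z * p ∈ Z i := by
  have := H.Z_norm i p⁻¹ (inv_mem hp) z hz
  rwa [inv_inv] at this

/-- an element of `B` commutes with an element of `Z i` up to `ρ i` -/
theorem comm_cases (i : Bool) {z b : G} (hz : z ∈ Z i) (hb : b ∈ B) : z * b = b * z ∨ z * b = b * z * ρ i := by
  by_cases hzY : z ∈ Y
  · exact Or.inl (H.Y_cent b hb z hzY).symm
  · by_cases hbQ : b ∈ Q i
    · exact Or.inl (H.Q_cent i b hbQ z hz).symm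
    · exact Or.inr (H.comm i z hz hzY b hb hbQ)

theorem comm_of_ne (i : Bool) {z b : G} (hz : z ∈ Z i) (hb : b ∈ B) (h : z * b ≠ b * z) :
    z * b = b * z * ρ i ∧ z ∉ Y ∧ b ∉ Q i := by
  have hzY : z ∉ Y := fun h' => h (H.Y_cent b hb z h').symm
  have hbQ : b ∉ Q i := fun h' => h (H.Q_cent i b h' z hz).symm
  exact ⟨H.comm i z hz hzY b hb hbQ, hzY, hbQ⟩

end Hyp

/-- `Z_i ≤ Q_j ^ x` -/
def Le (Q Z : Bool → Subgroup G) (i j : Bool) (x : G) : Prop := ∀ z ∈ Z i, x⁻¹ * z * x ∈ Q j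

/-- Minimality of `b`. -/
def Min (P Q Z : Bool → Subgroup G) (b : ℕ) : Prop := ∀ n i j x, n < b → Wk P n i j x → Le Q Z i j x

section Crit
variable (H : Hyp P Q Z R B Y ρ) {b : ℕ} (hmin : Min P Q Z b)
include H hmin

/-- the start module is in the edge group at the end -/
theorem end_mem (hb : 2 ≤ b) {i j : Bool} {x : G} (hw : Wk P b i j x) {z : G} (hz : z ∈ Z i) :
    x⁻¹ * z * x ∈ Q (!j) := by
  obtain ⟨x', p, h1, hp, rfl⟩ := hw.last hb
  have h2 := hmin _ _ _ _ (by omega) h1 z hz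
  have h3 := H.Q_norm' (!j) hp h2
  have : (x' * p)⁻¹ * z * (x' * p) = p⁻¹ * (x'⁻¹ * z * x') * p := by group
  rw [this]; exact h3

theorem start_mem (hb : 2 ≤ b) {i j : Bool} {x : G} (hw : Wk P b i j x) {w : G} (hw' : w ∈ Z j) :
    x * w * x⁻¹ ∈ Q (!i) := by
  have := end_mem H hmin hb hw.symm hw'
  rwa [inv_inv] at this

/-- the commutator of a critical pair -/
theorem crit_comm (hb : 2 ≤ b) {i j : Bool} {x : G} (hw : Wk P b i j x) (hc : ¬ Le Q Z i j x) :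
    ρ i = x * ρ j * x⁻¹ ∧ ∃ w ∈ Z j, x * w * x⁻¹ ∈ B ∧ x * w * x⁻¹ ∉ Q i := by
  unfold Le at hc
  push Not at hc
  obtain ⟨z, hz, hzQ⟩ := hc
  have hzB : x⁻¹ * z * x ∈ B := H.Q_le _ (end_mem H hmin hb hw hz)
  have : ∃ w ∈ Z j, (x⁻¹ * z * x) * w ≠ w * (x⁻¹ * z * x) := by
    by_contra hcon
    push Not at hcon
    exact hzQ (H.cent_Q j _ hzB hcon)
  obtain ⟨w, hwZ, hne⟩ := this
  have hwB : x * w * x⁻¹ ∈ B := H.Q_le _ (start_mem H hmin hb hw hwZ)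
  have hne' : z * (x * w * x⁻¹) ≠ (x * w * x⁻¹) * z := by
    intro h
    apply hne
    calc (x⁻¹ * z * x) * w = x⁻¹ * (z * (x * w * x⁻¹)) * x := by group
      _ = x⁻¹ * ((x * w * x⁻¹) * z) * x := by rw [h]
      _ = w * (x⁻¹ * z * x) := by group
  obtain ⟨h1, -, hQ⟩ := H.comm_of_ne i hz hwB hne'
  obtain ⟨h2, -, -⟩ := H.comm_of_ne j hwZ hzB (Ne.symm hne)
  refine ⟨?_, w, hwZ, hwB, hQ⟩
  -- w * z' = z' * w * ρ j,  z * w' = w' * z * ρ i
  have h3 : ρ j = (x⁻¹ * z * x * w)⁻¹ * (w * (x⁻¹ * z * x)) := by rw [h2]; group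
  have h4 : ρ i = ((x * w * x⁻¹) * z)⁻¹ * (z * (x * w * x⁻¹)) := by rw [h1]; group
  have h5 : ρ i = (ρ i)⁻¹ := (H.ρ_inv i).symm
  rw [h5, h4, h3]
  group

end Crit

theorem mem_normalizer_of {M : Subgroup G} {w : G} (h1 : ∀ m ∈ M, w * m * w⁻¹ ∈ M)
    (h2 : ∀ m ∈ M, w⁻¹ * m * w ∈ M) : w ∈ Subgroup.normalizer (M : Set G) := by
  rw [Subgroup.mem_normalizer_iff]
  intro m
  refine ⟨h1 m, fun h => ?_⟩
  have := h2 _ h
  have h3 : w⁻¹ * (w * m * w⁻¹) * w = m := by group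
  rwa [h3] at this

/-- The conjugate `{g | x⁻¹ g x ∈ K}` of a subgroup. -/
def cj (K : Subgroup G) (x : G) : Subgroup G := K.comap (MulAut.conj x⁻¹).toMonoidHom

theorem mem_cj {K : Subgroup G} {x g : G} : g ∈ cj K x ↔ x⁻¹ * g * x ∈ K := by
  simp [cj, Subgroup.mem_comap]

theorem conj_mem_sup {M N : Subgroup G} {w : G} (h1 : ∀ m ∈ M, w * m * w⁻¹ ∈ M ⊔ N)
    (h2 : ∀ m ∈ N, w * m * w⁻¹ ∈ M ⊔ N) : ∀ m ∈ M ⊔ N, w * m * w⁻¹ ∈ M ⊔ N := by
  have h : M ⊔ N ≤ cj (M ⊔ N) w⁻¹ := by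
    refine sup_le (fun m hm => ?_) (fun m hm => ?_)
    · rw [mem_cj, inv_inv]; exact h1 m hm
    · rw [mem_cj, inv_inv]; exact h2 m hm
  intro m hm
  have := h hm
  rwa [mem_cj, inv_inv] at this

section Main
variable (H : Hyp P Q Z R B Y ρ)
include H

theorem B_norm_sup (i : Bool) {b : G} (hb : b ∈ B) : ∀ m ∈ Z i ⊔ Z (!i), b * m * b⁻¹ ∈ Z i ⊔ Z (!i) :=
  conj_mem_sup (fun m hm => Subgroup.mem_sup_left (H.Z_norm i b (H.B_le i hb) m hm))
    (fun m hm => Subgroup.mem_sup_right (H.Z_norm (!i) b (H.B_le _ hb) m hm))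

theorem B_le_normalizer_sup (i : Bool) : B ≤ Subgroup.normalizer ((Z i ⊔ Z (!i) : Subgroup G) : Set G) := by
  intro b hb
  refine mem_normalizer_of (B_norm_sup H i hb) (fun m hm => ?_)
  have := B_norm_sup H i (inv_mem hb) m hm
  rwa [inv_inv] at this

/-- the SECOND case: normality of the product. -/
theorem le_normalizer_of_le {b : ℕ} (hmin : Min P Q Z b) (hb : 2 ≤ b) {i j : Bool} {x' p1 : G}
    (hw : Wk P b i j (x' * p1)) (hp1 : p1 ∈ P (!j)) (hc : ¬ Le Q Z i j (x' * p1)) {p : G}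
    (hp : p ∈ P i) (hpB : p ∉ B) (hle : Le Q Z (!i) (!j) (p⁻¹ * x')) :
    P i ≤ Subgroup.normalizer ((Z i ⊔ Z (!i) : Subgroup G) : Set G) := by
  obtain ⟨hρ, w, hwZ, hwB, hwQ⟩ := crit_comm H hmin hb hw hc
  set x := x' * p1 with hx
  set w' := x * w * x⁻¹ with hw'
  set w'' := p⁻¹ * w' * p with hw''
  have hw'P : w' ∈ P i := H.B_le i hwB
  have hw''P : w'' ∈ P i := mul_mem (mul_mem (inv_mem hp) hw'P) hp
  have hww : w * w = 1 := H.sq j w hwZ
  have hw2 : w''⁻¹ = w'' := by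
    rw [inv_eq_iff_mul_eq_one, hw'', hw']
    calc p⁻¹ * (x * w * x⁻¹) * p * (p⁻¹ * (x * w * x⁻¹) * p) = p⁻¹ * x * (w * w) * x⁻¹ * p := by group
      _ = 1 := by rw [hww]; group
  have hw''B : w'' ∉ B := fun h => hwQ (H.inter i p hp hpB w' hwB h)
  -- `w''` normalizes the product
  have hn : ∀ m ∈ Z i ⊔ Z (!i), w'' * m * w''⁻¹ ∈ Z i ⊔ Z (!i) := by
    refine conj_mem_sup (fun m hm => Subgroup.mem_sup_left (H.Z_norm i w'' hw''P m hm)) (fun u hu => ?_)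
    have h1 := hle u hu
    have h2 : x⁻¹ * (p * u * p⁻¹) * x ∈ Q (!j) := by
      have h3 := H.Q_norm' (!j) hp1 h1
      have h4 : x⁻¹ * (p * u * p⁻¹) * x = p1⁻¹ * ((p⁻¹ * x')⁻¹ * u * (p⁻¹ * x')) * p1 := by
        rw [hx]; group
      rw [h4]; exact h3
    set y := x⁻¹ * (p * u * p⁻¹) * x with hy
    have hyB : y ∈ B := H.Q_le _ h2
    have h5 : w'' * u * w''⁻¹ = p⁻¹ * x * (w * y * w⁻¹) * x⁻¹ * p := by
      rw [hw'', hw', hy]; group
    rcases H.comm_cases j hwZ hyB with h | h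
    · have h6 : w * y * w⁻¹ = y := by rw [h]; group
      rw [h5, h6, hy]
      have : p⁻¹ * x * (x⁻¹ * (p * u * p⁻¹) * x) * x⁻¹ * p = u := by group
      rw [this]; exact Subgroup.mem_sup_right hu
    · have h7 : w * ρ j = ρ j * w := H.Z_comm j hwZ (H.Y_le j (H.ρ_mem j))
      have h6 : w * y * w⁻¹ = y * ρ j := by
        rw [h, mul_assoc y w (ρ j), h7]; group
      rw [h5, h6, hy]
      have h8 : p⁻¹ * x * (x⁻¹ * (p * u * p⁻¹) * x * ρ j) * x⁻¹ * p = u * (p⁻¹ * (x * ρ j * x⁻¹) * p) := by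
        group
      rw [h8, ← hρ]
      refine mul_mem (Subgroup.mem_sup_right hu) (Subgroup.mem_sup_left ?_)
      exact H.Z_norm' i hp (H.Y_le i (H.ρ_mem i))
  have hn' : w'' ∈ Subgroup.normalizer ((Z i ⊔ Z (!i) : Subgroup G) : Set G) := by
    refine mem_normalizer_of hn (fun m hm => ?_)
    have := hn m hm
    rwa [hw2] at this ⊢
  rcases H.max i (Subgroup.normalizer ((Z i ⊔ Z (!i) : Subgroup G) : Set G) ⊓ P i)
    (le_inf (B_le_normalizer_sup H i) (H.B_le i)) inf_le_right with h | h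
  · exact absurd (h ▸ (Subgroup.mem_inf.mpr ⟨hn', hw''P⟩)) hw''B
  · exact inf_eq_right.mp h

variable (hQ : ∀ i, Z (!i) ≤ Q i)
include hQ

/-- FIRST case at a critical pair: `ρ (!i) ∈ R i`. -/
theorem ρ_mem_R {b : ℕ} (hmin : Min P Q Z b) (hb : 2 ≤ b) {i j : Bool} {x' p1 : G}
    (hw : Wk P b i j (x' * p1)) (hw1 : Wk P (b - 1) i (!j) x') (hp1 : p1 ∈ P (!j)) (hc : ¬ Le Q Z i j (x' * p1))
    {p : G} (hp : p ∈ P i) (hpB : p ∉ B) (hle : ¬ Le Q Z (!i) (!j) (p⁻¹ * x')) : ρ (!i) ∈ R i := by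
  by_contra hcon
  apply hc
  have hw2 : Wk P b (!i) (!j) (p⁻¹ * x') := by
    have := hw1.prepend p⁻¹ (inv_mem hp)
    rwa [Nat.sub_add_cancel (by omega)] at this
  obtain ⟨hρ, -⟩ := crit_comm H hmin hb hw2 hle
  set x := x' * p1 with hx
  have hYK : Y ≤ cj (Q j) x := by
    intro y hy
    rw [mem_cj]
    obtain ⟨q, x'', h1, hq, hxq⟩ := hw.first hb
    have h2 := hmin _ _ _ _ (by omega) h1 (q⁻¹ * y * q) (H.Z_norm' (!i) hq (H.Y_le _ hy))
    rw [hxq]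
    have h3 : (q * x'')⁻¹ * y * (q * x'') = x''⁻¹ * (q⁻¹ * y * q) * x'' := by group
    rw [h3]; exact h2
  have hpρ : p * ρ (!i) * p⁻¹ ∈ cj (Q j) x := by
    rw [mem_cj, hρ]
    have h1 : x⁻¹ * (p * (p⁻¹ * x' * ρ (!j) * (p⁻¹ * x')⁻¹) * p⁻¹) * x = p1⁻¹ * ρ (!j) * p1 := by
      rw [hx]; group
    rw [h1]
    apply hQ
    exact H.Z_norm' (!j) hp1 (H.Y_le _ (H.ρ_mem _))
  have hZ : Z i ≤ cj (Q j) x := by
    refine H.Z_gen i p hp hpB _ hYK (fun y hy => ?_)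
    have hR : ∀ r ∈ R i, p * r * p⁻¹ ∈ cj (Q j) x := fun r hr => by
      rw [H.R_cent i p hp r hr, mul_inv_cancel_right]
      exact hYK (H.R_le i hr)
    by_cases hyR : y ∈ R i
    · exact hR y hyR
    · have h1 := H.R_two i y hy (ρ (!i)) (H.ρ_mem _) hyR hcon
      have h2 : p * y * p⁻¹ = (p * (y * ρ (!i)) * p⁻¹) * (p * ρ (!i) * p⁻¹)⁻¹ := by group
      rw [h2]
      exact mul_mem (hR _ h1) (inv_mem hpρ)
  intro z hz
  have := hZ hz
  rwa [mem_cj] at this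

theorem R_inf (i : Bool) {r : G} (h1 : r ∈ R i) (h2 : r ∈ R (!i)) : r = 1 := by
  have h := H.core (R i ⊓ R (!i)) (inf_le_left.trans ((H.R_le i).trans ((H.Y_le i).trans
    ((H.Z_le i).trans (H.Q_le i))))) (fun k p hp x hx => by
      have hx' : x ∈ R k := by
        rcases Bool.eq_or_eq_not k i with hk | hk
        · rw [hk]; exact hx.1
        · rw [hk]; exact hx.2
      rw [H.R_cent k p hp x hx', mul_inv_cancel_right]
      exact hx)
  have : r ∈ R i ⊓ R (!i) := ⟨h1, h2⟩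
  rw [h] at this
  exact Subgroup.mem_bot.mp this

/-- if `ρ (!i) ∈ R i` for both `i`, then `Y = {1, ρ true, ρ false, ρ true * ρ false}` -/
theorem Y_le_of (hρ : ∀ i, ρ (!i) ∈ R i) {K : Subgroup G} (hK : ∀ i, ρ i ∈ K) : Y ≤ K := by
  have hR : ∀ i, R i ≤ K := by
    intro i r hr
    by_cases h : r ∈ R (!i)
    · rw [R_inf H hQ i hr h]; exact one_mem _
    · have h1 := H.R_two (!i) r (H.R_le i hr) (ρ (!i)) (H.ρ_mem _) h (H.ρ_not _)
      have h2 : r * ρ (!i) = 1 := R_inf H hQ i (mul_mem hr (hρ i)) h1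
      have h3 : r = ρ (!i) := by
        rw [← H.ρ_inv (!i)]; exact eq_inv_of_mul_eq_one_left h2
      rw [h3]; exact hK _
  intro y hy
  by_cases h : y ∈ R true
  · exact hR true h
  · have h1 := H.R_two true y hy (ρ true) (H.ρ_mem _) h (H.ρ_not _)
    have h2 : y = (y * ρ true) * (ρ true)⁻¹ := by group
    rw [h2]
    exact mul_mem (hR _ h1) (inv_mem (hK _))

/-- all critical pairs are of the FIRST kind. -/
theorem shift (hn : ∀ i, ¬ P i ≤ Subgroup.normalizer ((Z i ⊔ Z (!i) : Subgroup G) : Set G)) {b : ℕ}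
    (hmin : Min P Q Z b) (hb : 2 ≤ b) {i j : Bool} {x' p1 : G}
    (hw : Wk P b i j (x' * p1)) (hw1 : Wk P (b - 1) i (!j) x') (hp1 : p1 ∈ P (!j)) (hc : ¬ Le Q Z i j (x' * p1))
    {p : G} (hp : p ∈ P i) (hpB : p ∉ B) :
    Wk P b (!i) (!j) (p⁻¹ * x') ∧ ¬ Le Q Z (!i) (!j) (p⁻¹ * x') ∧ ρ (!i) ∈ R i := by
  have h1 : ¬ Le Q Z (!i) (!j) (p⁻¹ * x') := fun h =>
    hn i (le_normalizer_of_le H hmin hb hw hp1 hc hp hpB h)
  refine ⟨?_, h1, ρ_mem_R H hQ hmin hb hw hw1 hp1 hc hp hpB h1⟩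
  have := hw1.prepend p⁻¹ (inv_mem hp)
  rwa [Nat.sub_add_cancel (by omega)] at this

theorem exists_not_mem (i : Bool) : ∃ p ∈ P i, p ∉ B := by
  obtain ⟨p, hp, _, _, h, _⟩ := H.three i
  exact ⟨p, hp, h⟩

/-- `ρ (!i) ∈ R i` for both `i`. -/
theorem ρ_all (hn : ∀ i, ¬ P i ≤ Subgroup.normalizer ((Z i ⊔ Z (!i) : Subgroup G) : Set G)) {b : ℕ}
    (hmin : Min P Q Z b) (hb : 2 ≤ b) {i j : Bool} {x : G}
    (hw : Wk P b i j x) (hc : ¬ Le Q Z i j x) : ∀ k, ρ (!k) ∈ R k := by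
  obtain ⟨x', p1, hw1, hp1, rfl⟩ := hw.last hb
  obtain ⟨p, hp, hpB⟩ := exists_not_mem H hQ i
  obtain ⟨h1, h2, h3⟩ := shift H hQ hn hmin hb hw hw1 hp1 hc hp hpB
  obtain ⟨x₂, p2, hw2, hp2, hx2⟩ := h1.last hb
  obtain ⟨q, hq, hqB⟩ := exists_not_mem H hQ (!i)
  rw [hx2] at h1 h2
  obtain ⟨-, -, h6⟩ := shift H hQ hn hmin hb h1 hw2 hp2 h2 hq hqB
  intro k
  rcases Bool.eq_or_eq_not k i with hk | hk
  · rw [hk]; exact h3
  · rw [hk]; exact h6

theorem not_three_le (hn : ∀ i, ¬ P i ≤ Subgroup.normalizer ((Z i ⊔ Z (!i) : Subgroup G) : Set G)) {b : ℕ}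
    (hmin : Min P Q Z b) (hb : 3 ≤ b) {i j : Bool} {x : G}
    (hw : Wk P b i j x) (hc : ¬ Le Q Z i j x) : False := by
  have hb2 : 2 ≤ b := by omega
  have hρ := ρ_all H hQ hn hmin hb2 hw hc
  obtain ⟨x', p1, hw1, hp1, rfl⟩ := hw.last hb2
  obtain ⟨e1, -⟩ := crit_comm H hmin hb2 hw hc
  obtain ⟨p, hp, hpB⟩ := exists_not_mem H hQ i
  obtain ⟨h1, h2, -⟩ := shift H hQ hn hmin hb2 hw hw1 hp1 hc hp hpB
  obtain ⟨e2, -⟩ := crit_comm H hmin hb2 h1 h2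
  obtain ⟨x₂, p2, hw2, hp2, hx2⟩ := h1.last hb2
  obtain ⟨q, hq, hqB⟩ := exists_not_mem H hQ (!i)
  have h1' := h1
  have h2' := h2
  rw [hx2] at h1' h2'
  obtain ⟨h4, h5, -⟩ := shift H hQ hn hmin hb2 h1' hw2 hp2 h2' hq hqB
  obtain ⟨e3, -⟩ := crit_comm H hmin hb2 h4 h5
  rw [Bool.not_not, Bool.not_not] at e3
  rw [Bool.not_not] at hp2
  -- the key inclusion `Z i ≤ x' Z j x'⁻¹`
  have c1 : p1 * ρ j = ρ j * p1 := H.R_cent (!j) p1 hp1 _ (by have := hρ (!j); rwa [Bool.not_not] at this)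
  have c2 : p * ρ (!i) = ρ (!i) * p := H.R_cent i p hp _ (hρ i)
  have c3 : q * ρ i = ρ i * q := H.R_cent (!i) q hq _ (by have := hρ (!i); rwa [Bool.not_not] at this)
  have hk1 : ρ i ∈ cj (Z j) x' := by
    rw [mem_cj, e1]
    have : x'⁻¹ * (x' * p1 * ρ j * (x' * p1)⁻¹) * x' = p1 * ρ j * p1⁻¹ := by group
    rw [this, c1, mul_inv_cancel_right]
    exact H.Y_le _ (H.ρ_mem _)
  have hk2 : ρ (!i) ∈ cj (Z j) x' := by
    have h6 : ρ (!i) = p * ρ (!i) * p⁻¹ := by rw [c2, mul_inv_cancel_right]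
    rw [mem_cj, h6, e2]
    have : x'⁻¹ * (p * (p⁻¹ * x' * ρ (!j) * (p⁻¹ * x')⁻¹) * p⁻¹) * x' = ρ (!j) := by group
    rw [this]
    exact H.Y_le _ (H.ρ_mem _)
  have hk3 : p * ρ i * p⁻¹ ∈ cj (Z j) x' := by
    have h6 : ρ i = x₂ * ρ j * x₂⁻¹ := by
      have h7 : ρ i = q * ρ i * q⁻¹ := by rw [c3, mul_inv_cancel_right]
      rw [h7, e3]; group
    have hx' : x' = p * x₂ * p2 := by
      have : p * (p⁻¹ * x') = p * (x₂ * p2) := by rw [hx2]
      rw [mul_inv_cancel_left] at this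
      rw [this, mul_assoc]
    rw [mem_cj, h6, hx']
    have : (p * x₂ * p2)⁻¹ * (p * (x₂ * ρ j * x₂⁻¹) * p⁻¹) * (p * x₂ * p2) = p2⁻¹ * ρ j * p2 := by group
    rw [this]
    exact H.Z_norm' j hp2 (H.Y_le _ (H.ρ_mem _))
  have hYK : Y ≤ cj (Z j) x' := by
    refine Y_le_of H hQ hρ (fun k => ?_)
    rcases Bool.eq_or_eq_not k i with hk | hk
    · rw [hk]; exact hk1
    · rw [hk]; exact hk2
  have hYK2 : Y ≤ cj (cj (Z j) x') p⁻¹ := by
    refine Y_le_of H hQ hρ (fun k => ?_)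
    rw [mem_cj, inv_inv]
    rcases Bool.eq_or_eq_not k i with hk | hk
    · rw [hk]; exact hk3
    · rw [hk, c2, mul_inv_cancel_right]; exact hk2
  have hZ : Z i ≤ cj (Z j) x' := by
    refine H.Z_gen i p hp hpB _ hYK (fun y hy => ?_)
    have := hYK2 hy
    rwa [mem_cj, inv_inv] at this
  apply hc
  intro z hz
  have h8 := hZ hz
  rw [mem_cj] at h8
  have hwk : Wk P 2 j j (1 * p1) := by
    have := Wk.step p1 (Wk.one (P := P) j) hp1
    exact this.cast (Bool.not_not j) rfl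
  have h9 := hmin 2 j j _ (by omega) hwk _ h8
  have h10 : (1 * p1)⁻¹ * (x'⁻¹ * z * x') * (1 * p1) = (x' * p1)⁻¹ * z * (x' * p1) := by group
  rwa [h10] at h9

/-- if all pairs at distance 2 with midpoint of type `i` are critical -/
theorem not_mem_Q (i : Bool) (hall : ∀ p ∈ P i, p ∉ B → ¬ Le Q Z (!i) (!i) p) {p : G} (hp : p ∈ P i) (hpB : p ∉ B)
    {v : G} (hv : v ∈ Z (!i)) (hvY : v ∉ Y) : p⁻¹ * v * p ∉ Q (!i) := by
  intro h
  have h1 := hall p hp hpB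
  unfold Le at h1
  push Not at h1
  obtain ⟨z, hz, hzQ⟩ := h1
  have hYQ : ∀ y ∈ Y, p⁻¹ * y * p ∈ Q (!i) := fun y hy => by
    have h2 : p⁻¹ * y * p ∈ Z i := H.Z_norm' i hp (H.Y_le i hy)
    have h3 := hQ (!i)
    rw [Bool.not_not] at h3
    exact h3 h2
  have hzY : z ∉ Y := fun h2 => hzQ (hYQ z h2)
  have h4 := hYQ _ (H.Z_two (!i) z hz v hv hzY hvY)
  apply hzQ
  have h5 : p⁻¹ * z * p = (p⁻¹ * (z * v) * p) * (p⁻¹ * v * p)⁻¹ := by group
  rw [h5]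
  exact mul_mem h4 (inv_mem h)

theorem two_contra (hall : ∀ i, ∀ p ∈ P i, p ∉ B → ¬ Le Q Z (!i) (!i) p) (hρ : ∀ i, ρ (!i) ∈ R i) : False := by
  obtain ⟨i, hi⟩ : ∃ i : Bool, i = true := ⟨true, rfl⟩
  obtain ⟨p, hp, p', hp', hpB, hp'B, hpp'⟩ := H.three i
  obtain ⟨v, hv, hvY⟩ := H.Z_ne (!i)
  set d := ρ (!i) with hd
  have hdR : d ∈ R i := hρ i
  have hdd : d * d = 1 := H.sq i d (H.Y_le i (H.ρ_mem _))
  have hc : ∀ x ∈ P i, x * d = d * x := fun x hx => H.R_cent i x hx d hdR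
  -- conjugates of `v`
  have key : ∀ x ∈ P i, x ∉ B → x * v * x⁻¹ ∈ Q i ∧ v * (x * v * x⁻¹) = (x * v * x⁻¹) * v * d := by
    intro x hx hxB
    have h1 : x * v * x⁻¹ ∈ Q i := H.Q_norm i x hx v (hQ i hv)
    have h2 : (x⁻¹)⁻¹ * v * x⁻¹ ∉ Q (!i) := not_mem_Q H hQ i (hall i) (inv_mem hx)
      (fun h => hxB (by have := inv_mem h; rwa [inv_inv] at this)) hv hvY
    rw [inv_inv] at h2
    exact ⟨h1, H.comm (!i) v hv hvY _ (H.Q_le i h1) h2⟩
  set a := p * v * p⁻¹ with ha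
  set c := p' * v * p'⁻¹ with hc'
  obtain ⟨haQ, hva⟩ := key p hp hpB
  obtain ⟨hcQ, hvc⟩ := key p' hp' hp'B
  rw [← ha] at haQ hva
  rw [← hc'] at hcQ hvc
  have hvQ : v ∈ Q i := hQ i hv
  have hac : a * c = c * a * d := by
    obtain ⟨-, h1⟩ := key (p⁻¹ * p') (mul_mem (inv_mem hp) hp') hpp'
    have h2 : a * c = p * (v * (p⁻¹ * p' * v * (p⁻¹ * p')⁻¹)) * p⁻¹ := by rw [ha, hc']; group
    rw [h2, h1]
    have h3 : p * (p⁻¹ * p' * v * (p⁻¹ * p')⁻¹ * v * d) * p⁻¹ = c * a * (p * d * p⁻¹) := by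
      rw [ha, hc']; group
    rw [h3, hc p hp, mul_inv_cancel_right]
  have hvv : v * v = 1 := H.sq _ v hv
  have haa : a * a = 1 := by
    have : a * a = p * (v * v) * p⁻¹ := by rw [ha]; group
    rw [this, hvv]; group
  have hcc : c * c = 1 := by
    have : c * c = p' * (v * v) * p'⁻¹ := by rw [hc']; group
    rw [this, hvv]; group
  have hdv : d * v = v * d := (hc v (H.B_le i (H.Q_le i hvQ))).symm
  have hda : d * a = a * d := (hc a (H.B_le i (H.Q_le i haQ))).symm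
  have hdc : d * c = c * d := (hc c (H.B_le i (H.Q_le i hcQ))).symm
  set u := v * a * c with hu
  have huQ : u ∈ Q i := mul_mem (mul_mem hvQ haQ) hcQ
  -- `u` commutes with `v`
  have huv : u * v = v * u := by
    have e1 : c * v = v * c * d := by
      rw [hvc, mul_assoc (c * v), hdd, mul_one]
    have e2 : a * v = v * a * d := by
      rw [hva, mul_assoc (a * v), hdd, mul_one]
    calc u * v = v * a * (c * v) := by rw [hu, mul_assoc (v * a)]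
      _ = v * (a * v) * (c * d) := by rw [e1]; group
      _ = v * (v * a * d) * (c * d) := by rw [e2]
      _ = v * v * a * (d * c) * d := by group
      _ = v * v * a * c * (d * d) := by rw [hdc]; group
      _ = v * u := by rw [hdd, hu]; group
  have huu : u * u = d := by
    calc u * u = v * u * (a * c) := by rw [← huv, hu]; group
      _ = v * v * (a * c) * (a * c) := by rw [hu]; group
      _ = (a * c) * (a * c) := by rw [hvv, one_mul]
      _ = (c * a * d) * (a * c) := by rw [hac]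
      _ = c * a * (d * a) * c := by group
      _ = c * a * a * (d * c) := by rw [hda]; group
      _ = c * (a * a) * c * d := by rw [hdc]; group
      _ = d := by rw [haa, mul_one, hcc, one_mul]
  -- so `u ∈ Q (!i)`
  have huB : u ∈ B := H.Q_le i huQ
  have huQ' : u ∈ Q (!i) := by
    refine H.cent_Q (!i) u huB (fun z hz => ?_)
    by_cases hzY : z ∈ Y
    · exact H.Y_cent u huB z hzY
    · have h1 := H.Y_cent u huB _ (H.Z_two (!i) z hz v hv hzY hvY)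
      have h2 : z = (z * v) * v := by rw [mul_assoc, hvv, mul_one]
      rw [h2, ← mul_assoc, h1, mul_assoc (z * v) u v, huv, ← mul_assoc]
  obtain ⟨q, hq, hqB⟩ := exists_not_mem H hQ (!i)
  have huq : q⁻¹ * u * q ∈ B := H.Q_le _ (H.Q_norm' (!i) hq huQ')
  obtain ⟨v₀, hv₀, hv₀Y⟩ := H.Z_ne i
  have hQ' : Z i ≤ Q (!i) := by have := hQ (!i); rwa [Bool.not_not] at this
  have hv₀q : q⁻¹ * v₀ * q ∈ B := H.Q_le _ (H.Q_norm' (!i) hq (hQ' hv₀))
  have hv₀n : q⁻¹ * v₀ * q ∉ Q i := by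
    have h1 := not_mem_Q H hQ (!i) (hall (!i)) hq hqB (v := v₀) (by rwa [Bool.not_not]) hv₀Y
    rwa [Bool.not_not] at h1
  obtain ⟨y, hyy, hyq⟩ : ∃ y, y * y = d ∧ q⁻¹ * y * q ∈ Q i := by
    by_cases h : q⁻¹ * u * q ∈ Q i
    · exact ⟨u, huu, h⟩
    · refine ⟨u * v₀, ?_, ?_⟩
      · have h1 : u * v₀ = v₀ * u := H.Q_cent i u huQ v₀ hv₀
        calc u * v₀ * (u * v₀) = u * (v₀ * u) * v₀ := by group
          _ = u * u * (v₀ * v₀) := by rw [← h1]; group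
          _ = d := by rw [huu, H.sq i v₀ hv₀, mul_one]
      · have h2 : q⁻¹ * (u * v₀) * q = (q⁻¹ * u * q) * (q⁻¹ * v₀ * q) := by group
        rw [h2]
        exact H.Q_two i _ huq _ hv₀q h hv₀n
  obtain ⟨r, hr, hrB⟩ := exists_not_mem H hQ i
  have h3 : r⁻¹ * (q⁻¹ * y * q) * r ∈ B := H.Q_le i (H.Q_norm' i hr hyq)
  have h4 : r⁻¹ * (q⁻¹ * d * q) * r ∈ Q (!i) := by
    have h5 : r⁻¹ * (q⁻¹ * d * q) * r = (r⁻¹ * (q⁻¹ * y * q) * r) * (r⁻¹ * (q⁻¹ * y * q) * r) := by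
      rw [← hyy]; group
    rw [h5]
    by_cases h : r⁻¹ * (q⁻¹ * y * q) * r ∈ Q (!i)
    · exact mul_mem h h
    · exact H.Q_two (!i) _ h3 _ h3 h h
  refine hall i r hr hrB ?_
  -- contradiction: `Z (!i) ≤ Q (!i) ^ (q r)`
  have hYr : ∀ y ∈ Z i, r⁻¹ * y * r ∈ Q (!i) := fun y hy => hQ' (H.Z_norm' i hr hy)
  have hρi : q * ρ i = ρ i * q := H.R_cent (!i) q hq _ (by have := hρ (!i); rwa [Bool.not_not] at this)
  have hYK : Y ≤ cj (cj (Q (!i)) r) q := by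
    refine Y_le_of H hQ hρ (fun k => ?_)
    rw [mem_cj, mem_cj]
    rcases Bool.eq_or_eq_not k i with hk | hk
    · rw [hk]
      have h6 : q⁻¹ * ρ i * q = ρ i := by rw [mul_assoc, ← hρi, inv_mul_cancel_left]
      rw [h6]
      exact hYr _ (H.Y_le i (H.ρ_mem i))
    · rw [hk]; exact h4
  have hZ : Z (!i) ≤ cj (cj (Q (!i)) r) q := by
    refine H.Z_gen (!i) q hq hqB _ hYK (fun y hy => ?_)
    rw [mem_cj, mem_cj]
    have h6 : q⁻¹ * (q * y * q⁻¹) * q = y := by group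
    rw [h6]
    exact hYr _ (H.Y_le i hy)
  intro z hz
  have h7 := hZ (H.Z_norm (!i) q hq z hz)
  rw [mem_cj, mem_cj] at h7
  have h8 : q⁻¹ * (q * z * q⁻¹) * q = z := by group
  rwa [h8] at h7

theorem not_two (hn : ∀ i, ¬ P i ≤ Subgroup.normalizer ((Z i ⊔ Z (!i) : Subgroup G) : Set G))
    (hmin : Min P Q Z 2) {i j : Bool} {x : G} (hw : Wk P 2 i j x) (hc : ¬ Le Q Z i j x) : False := by
  have hρ := ρ_all H hQ hn hmin le_rfl hw hc
  have base : ∀ (i j : Bool) (x : G), Wk P 2 i j x → ¬ Le Q Z i j x →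
      ∀ p ∈ P i, p ∉ B → ¬ Le Q Z (!i) (!i) p := by
    intro i j x hw hc p hp hpB
    obtain ⟨x', p1, hw1, hp1, rfl⟩ := hw.last le_rfl
    obtain ⟨h1, h2, -⟩ := shift H hQ hn hmin le_rfl hw hw1 hp1 hc (inv_mem hp)
      (fun h => hpB (by have := inv_mem h; rwa [inv_inv] at this))
    obtain ⟨e1, e2⟩ := hw1.one_inv rfl
    rw [e1, e2, inv_inv, mul_one] at h2
    exact h2
  refine two_contra H hQ (fun k => ?_) hρ
  have h1 := base i j x hw hc
  obtain ⟨p, hp, hpB⟩ := exists_not_mem H hQ i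
  have h2 : Wk P 2 (!i) (!i) p := by
    have := Wk.step p (Wk.one (P := P) (!i)) (by rwa [Bool.not_not])
    exact this.cast (by rw [Bool.not_not]) (one_mul p)
  have h3 := base (!i) (!i) p h2 (h1 p hp hpB)
  rcases Bool.eq_or_eq_not k i with hk | hk
  · rw [hk]; exact h1
  · rw [hk]; exact h3

/-- there is a critical walk -/
theorem exists_crit : ∃ n i j x, Wk P n i j x ∧ ¬ Le Q Z i j x := by
  by_contra hcon
  push Not at hcon
  -- every element of `⟨P true, P false⟩` is reached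
  have hreach : ∀ x ∈ P true ⊔ P false, ∀ i, ∃ n j, Wk P n i j x := by
    intro x hx i
    rw [Subgroup.sup_eq_closure] at hx
    induction hx using Subgroup.closure_induction_right with
    | one => exact ⟨1, _, Wk.one i⟩
    | mul_right x hx y hy ih =>
      obtain ⟨n, j, h⟩ := ih
      have hy' : y ∈ P j ∨ y ∈ P (!j) := by
        cases j
        · exact hy.symm
        · exact hy
      rcases hy' with hy' | hy'
      · exact ⟨_, _, Wk.step y h hy'⟩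
      · have h2 := Wk.step 1 h (one_mem _)
        rw [mul_one] at h2
        exact ⟨_, _, Wk.step y h2 hy'⟩
    | mul_inv_cancel x hx y hy ih =>
      obtain ⟨n, j, h⟩ := ih
      have hy' : y⁻¹ ∈ P j ∨ y⁻¹ ∈ P (!j) := by
        have hy2 : y⁻¹ ∈ P true ∨ y⁻¹ ∈ P false := hy.imp (fun h => inv_mem h) (fun h => inv_mem h)
        cases j
        · exact hy2.symm
        · exact hy2
      rcases hy' with hy' | hy'
      · exact ⟨_, _, Wk.step y⁻¹ h hy'⟩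
      · have h2 := Wk.step 1 h (one_mem _)
        rw [mul_one] at h2
        exact ⟨_, _, Wk.step y⁻¹ h2 hy'⟩
  set K : Subgroup G := ⨆ x : ↥(P true ⊔ P false), cj (Z true) x with hK
  have hKB : K ≤ B := by
    refine iSup_le (fun x => ?_)
    intro g hg
    rw [mem_cj] at hg
    obtain ⟨n, j, h⟩ := hreach x x.2 true
    have h1 : ∃ n k, Wk P n k true (x : G) := by
      obtain ⟨n, j, h⟩ := hreach (x : G)⁻¹ (inv_mem x.2) true
      have := h.symm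
      rw [inv_inv] at this
      exact ⟨n, j, this⟩
    obtain ⟨n, k, h1⟩ := h1
    have h2 := hcon n true k _ h1.symm _ hg
    have h3 : (x : G)⁻¹⁻¹ * ((x : G)⁻¹ * g * x) * (x : G)⁻¹ = g := by group
    rw [h3] at h2
    exact H.Q_le _ h2
  have hKn : ∀ i, ∀ p ∈ P i, ∀ x ∈ K, p * x * p⁻¹ ∈ K := by
    intro i p hp
    have hp' : p ∈ P true ⊔ P false := by
      cases i
      · exact Subgroup.mem_sup_right hp
      · exact Subgroup.mem_sup_left hp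
    have h1 : K ≤ cj K p⁻¹ := by
      refine iSup_le (fun x => ?_)
      intro g hg
      rw [mem_cj] at hg ⊢
      rw [inv_inv]
      refine Subgroup.mem_iSup_of_mem (⟨p, hp'⟩ * x) ?_
      rw [mem_cj]
      have : ((⟨p, hp'⟩ * x : ↥(P true ⊔ P false)) : G) = p * x := rfl
      rw [this]
      have h2 : (p * (x : G))⁻¹ * (p * g * p⁻¹) * (p * x) = (x : G)⁻¹ * g * x := by group
      rw [h2]; exact hg
    intro x hx
    have := h1 hx
    rwa [mem_cj, inv_inv] at this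
  have hbot := H.core K hKB hKn
  have hZK : Z true ≤ K := by
    intro z hz
    refine Subgroup.mem_iSup_of_mem 1 ?_
    rw [mem_cj]
    simpa using hz
  rw [hbot] at hZK
  have h1 : ρ true ∈ (⊥ : Subgroup G) := hZK (H.Y_le _ (H.ρ_mem _))
  exact H.ρ_ne true (Subgroup.mem_bot.mp h1)

omit hQ in
/-- **Main result**: if `Z (!i) ≤ Q i` for both `i` then `Z i ⊔ Z (!i)` is normal in `P i` for some `i`. -/
theorem exists_le_normalizer (hQ : ∀ i, Z (!i) ≤ Q i) :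
    ∃ i, P i ≤ Subgroup.normalizer ((Z i ⊔ Z (!i) : Subgroup G) : Set G) := by
  classical
  by_contra hcon
  push Not at hcon
  have hex : ∃ n, ∃ i j x, Wk P n i j x ∧ ¬ Le Q Z i j x := exists_crit H hQ
  set b := Nat.find hex with hb
  obtain ⟨i, j, x, hw, hc⟩ := Nat.find_spec hex
  rw [← hb] at hw
  have hmin : Min P Q Z b := by
    intro n i j x hn h
    by_contra h2
    exact Nat.find_min hex hn ⟨i, j, x, h, h2⟩
  have hb1 : b ≠ 1 := by
    intro h1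
    obtain ⟨e1, e2⟩ := hw.one_inv h1
    apply hc
    intro z hz
    have h2 := hQ (!i)
    rw [Bool.not_not] at h2
    rw [e1, e2]
    simpa using h2 hz
  have hb0 := hw.pos
  rcases Nat.lt_or_ge b 3 with h3 | h3
  · have h2 : b = 2 := by omega
    rw [h2] at hw hmin
    exact not_two H hQ hcon hmin hw hc
  · exact not_three_le H hQ hcon hmin h3 hw hc

end Main

end Cfsg.Agent.ZN.AmalgamWalk
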