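import Mathlib
import Cfsg.Agent.ZN.Block
import Cfsg.Agent.ZN.AmalgamWalk

/-!
# The walk argument for a pair of blocks (S0518)
-/

set_option autoImplicit false

namespace Cfsg.Agent.ZN.AmalgamHyp

open Subgroup Cfsg Cfsg.Agent.ZN.Block

universe u

variable {G : Type u} [Group G] [Finite G]

/-- two blocks over `B` without common normal subgroup satisfy the hypotheses of the walk argument -/
theorem hyp {B : Subgroup G} {P : Bool → Subgroup G} (h : ∀ i, IsBlk B (P i))
    (hcore : ∀ X : Subgroup G, X ≤ B → (∀ i, P i ≤ normalizer (X : Set G)) → X = ⊥) :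
    ∃ ρ : Bool → G, AmalgamWalk.Hyp P (fun i => o2 (P i)) (fun i => zl B (P i)) (fun i => rl B (P i)) B (zc B) ρ := by
  choose ρ h1 h2 h3 h4 h5 using fun i => (h i).exists_rho
  refine ⟨ρ, ?_⟩
  exact
    { B_le := fun i => (h i).le
      Q_le := fun i => (h i).o2_le
      Z_le := fun i => (h i).zl_le_o2
      Y_le := fun i => zc_le_zl B (P i)
      R_le := fun i => rl_le B (P i)
      Q_norm := fun i p hp q hq => o2_conj hp hq
      Z_norm := fun i p hp z hz => zl_conj hp hz
      R_cent := fun i p hp r hr => rl_comm hp hr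
      Y_cent := fun b hb y hy => zc_comm hb hy
      Q_cent := fun i q hq z hz => (h i).o2_comm hq hz
      cent_Q := fun i b hb hc => (h i).mem_o2 ((h i).le hb) hc
      Q_two := fun i s hs t ht hs' ht' => (h i).o2_two hs ht hs' ht'
      sq := fun i z hz => (h i).zl_mul_self hz
      max := fun i K h6 h7 => (h i).eq_or_eq h6 h7
      inter := fun i p hp hpB b hb hpb => (h i).inter hp hpB hb hpb
      Z_two := fun i z hz z' hz' h6 h7 => (h i).zl_two hz hz' h6 h7
      R_two := fun i z hz z' hz' h6 h7 => (h i).rl_two hz hz' h6 h7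
      Z_gen := fun i p hp hpB K h6 h7 => (h i).zl_gen hp hpB h6 h7
      Z_ne := fun i => (h i).exists_zl
      ρ_mem := h1
      ρ_not := h4
      comm := h5
      core := fun X hX hn => hcore X hX (fun i => le_normalizer_of_forall (hn i))
      three := fun i => (h i).exists_L }

/-- **The walk argument for an amalgam pair**: if `zl B Q ≤ O₂(P)` and `zl B P ≤ O₂(Q)` then
`zl B P ⊔ zl B Q` is normal in `P` or in `Q`. -/
theorem second {N B P Q : Subgroup G} (h : Ctx N B P Q) (h1 : zl B Q ≤ o2 P) (h2 : zl B P ≤ o2 Q) :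
    P ≤ normalizer ((zl B P ⊔ zl B Q : Subgroup G) : Set G) ∨
      Q ≤ normalizer ((zl B P ⊔ zl B Q : Subgroup G) : Set G) := by
  obtain ⟨ρ, H⟩ := hyp (B := B) (P := fun i => cond i P Q) (by rintro (_ | _) <;> [exact h.blkQ; exact h.blkP])
    (fun X hX hn => h.core X hX (hn true) (hn false))
  obtain ⟨i, hi⟩ := AmalgamWalk.exists_le_normalizer H (by rintro (_ | _) <;> [exact h2; exact h1])
  cases i
  · refine Or.inr ?_
    rw [sup_comm]; exact hi
  · exact Or.inl hi

omit [Finite G] in
/-- The roles of `P` and `Q` can be exchanged. -/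
theorem symm {N B P Q : Subgroup G} (h : Ctx N B P Q) : Ctx N B Q P where
  blkP := h.blkQ
  blkQ := h.blkP
  core := fun U hU h1 h2 => h.core U hU h2 h1
  notP := h.notQ
  notQ := h.notP
  str := h.str
  alt := h.alt

end Cfsg.Agent.ZN.AmalgamHyp
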