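import Mathlib
import Cfsg.Agent.ZN.ChoiceSit

/-!
# ZN-groups (S0518): the choice, context (I)

`S` is a Sylow 2-subgroup of `G`, `B = bau S`, `N = N_G(J(S))`.
-/

set_option autoImplicit false

namespace Cfsg.Agent.ZN.CaseOne

open Subgroup Cfsg
open Cfsg.Agent.ZN.ChoiceBase Cfsg.Agent.ZN.ChoiceSit

universe u

variable {G : Type u} [Group G]

/-- A 2-subgroup normalizing the Sylow 2-subgroup `S` is contained in `S`. -/
theorem le_of_le_normalizer (S : Sylow 2 G) {P : Subgroup G} (hP : IsPGroup 2 P)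
    (h : P ≤ normalizer ((S : Subgroup G) : Set G)) : P ≤ (S : Subgroup G) := by
  have h1 : IsPGroup 2 (P ⊔ (S : Subgroup G) : Subgroup G) :=
    hP.to_sup_of_normal_right' S.isPGroup' h
  have h2 : P ⊔ (S : Subgroup G) = (S : Subgroup G) := S.is_maximal' h1 le_sup_right
  rw [← h2]
  exact le_sup_left

section

variable [Finite G]
  (hZ : ∀ S : Sylow 2 G, centralizer (zc (S : Subgroup G) : Set G) ≤
    normalizer ((S : Subgroup G) : Set G))

include hZ

/-- A 2-subgroup centralizing `Ω₁(Z(J(S)))` is contained in the Baumann subgroup `B(S)`. -/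
theorem le_bau_of_centralizes (S : Sylow 2 G) {P : Subgroup G} (hP : IsPGroup 2 P)
    (h : P ≤ centralizer (zj (S : Subgroup G) : Set G)) : P ≤ bau (S : Subgroup G) := by
  refine le_inf (le_of_le_normalizer S hP (h.trans (le_trans ?_ (hZ S)))) h
  exact Subgroup.centralizer_le (zc_le_zj (S : Subgroup G))

/-- 2-groups containing `B(S)` have the same Thompson subgroup and Baumann subgroup as `S`. -/
theorem key (S : Sylow 2 G) {T : Subgroup G} (hT : IsPGroup 2 T)
    (hBT : bau (S : Subgroup G) ≤ T) :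
    jj T = jj (S : Subgroup G) ∧ bau T = bau (S : Subgroup G) := by
  obtain ⟨S', hS'⟩ := hT.exists_le_sylow
  obtain ⟨g, hg⟩ := MulAction.exists_smul_eq G S S'
  have hgS : cj g (S : Subgroup G) = (S' : Subgroup G) := by
    rw [← hg]; rfl
  have hm1 : mm (S : Subgroup G) ≤ mm T := by
    rw [← mm_bau]; exact mm_mono hBT
  have hm2 : mm (S' : Subgroup G) = mm (S : Subgroup G) := by rw [← hgS, mm_cj]
  have hj1 : jj (S : Subgroup G) ≤ jj T := by
    rw [← jj_bau]
    refine jj_mono hBT ?_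
    rw [mm_bau, ← hm2]
    exact mm_mono hS'
  have hj2 : jj T ≤ jj (S' : Subgroup G) := jj_mono hS' (hm2.le.trans hm1)
  have hcard : Nat.card (jj (S' : Subgroup G)) = Nat.card (jj (S : Subgroup G)) := by
    rw [← hgS, jj_cj, card_cj]
  have hj3 : jj (S : Subgroup G) = jj (S' : Subgroup G) :=
    Subgroup.eq_of_le_of_card_ge (hj1.trans hj2) hcard.le
  have hj : jj T = jj (S : Subgroup G) := le_antisymm (hj2.trans hj3.ge) hj1
  refine ⟨hj, ?_⟩
  have hz : zj T = zj (S : Subgroup G) := zj_congr hj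
  apply le_antisymm
  · refine le_bau_of_centralizes hZ S (hT.to_le (bau_le T)) ?_
    rw [← hz]
    exact inf_le_right
  · refine le_inf hBT ?_
    rw [hz]
    exact inf_le_right

/-- `N_G(J(S)) ≤ N_G(B(S))`. -/
theorem normalizer_jj_le (S : Sylow 2 G) :
    normalizer ((jj (S : Subgroup G) : Subgroup G) : Set G) ≤
      normalizer ((bau (S : Subgroup G) : Subgroup G) : Set G) := by
  intro g hg
  have h1 : jj (cj g (S : Subgroup G)) = jj (S : Subgroup G) := by
    rw [jj_cj, cj_eq_of_mem_normalizer hg]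
  have h2 : zj (cj g (S : Subgroup G)) = zj (S : Subgroup G) := zj_congr h1
  refine mem_normalizer_of_cj_le ?_
  refine le_bau_of_centralizes hZ S (isPGroup_cj g (S.isPGroup'.to_le (bau_le _))) ?_
  rw [← bau_cj, ← h2]
  exact inf_le_right

/-- The conclusion of context (I) in the absence of an amalgam pair. -/
theorem final (S : Sylow 2 G)
    (hstr : ∀ X : Subgroup G, IsTwoLocal X → bau (S : Subgroup G) ≤ X →
      ¬ X ≤ normalizer ((jj (S : Subgroup G) : Subgroup G) : Set G) →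
      ∃ 𝓛 : Set (Subgroup G), StrData X (bau (S : Subgroup G)) 𝓛)
    {R : Subgroup G} (hR : R ≤ bau (S : Subgroup G)) (hR1 : R ≠ ⊥)
    (hNR : normalizer ((bau (S : Subgroup G) : Subgroup G) : Set G) ≤ normalizer (R : Set G))
    (hblk : ∀ X : Subgroup G, IsTwoLocal X → bau (S : Subgroup G) ≤ X →
      ¬ X ≤ normalizer ((jj (S : Subgroup G) : Subgroup G) : Set G) →
      ∀ 𝓛 : Set (Subgroup G), StrData X (bau (S : Subgroup G)) 𝓛 →
        ∀ L ∈ 𝓛, L ≤ normalizer (R : Set G)) :
    ∃ M : Subgroup G, IsTwoLocal M ∧ (S : Subgroup G) ≤ M ∧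
      ∀ X : Subgroup G, IsTwoLocal X → bau (S : Subgroup G) ≤ X → X ≤ M := by
  refine ⟨normalizer (R : Set G), ⟨R, S.isPGroup'.to_le (hR.trans (bau_le _)), hR1, rfl⟩, ?_, ?_⟩
  · exact le_normalizer.trans ((normalizer_le_bau _).trans hNR)
  · intro X hX hBX
    by_cases hXN : X ≤ normalizer ((jj (S : Subgroup G) : Subgroup G) : Set G)
    · exact hXN.trans ((normalizer_jj_le hZ S).trans hNR)
    · obtain ⟨𝓛, h𝓛⟩ := hstr X hX hBX hXN
      refine h𝓛.gen.trans (sup_le (sSup_le fun L hL => ?_) ?_)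
      · exact hblk X hX hBX hXN 𝓛 h𝓛 L hL
      · exact inf_le_right.trans hNR

end

theorem sylow_ne_bot [Finite G] (hL : IsCharacteristicTwoType G) (S : Sylow 2 G) :
    (S : Subgroup G) ≠ ⊥ := by
  have : Fact (Nat.Prime 2) := ⟨Nat.prime_two⟩
  exact S.ne_bot_of_dvd_card (even_iff_two_dvd.1 hL.1)

/-- The situation of context (I). -/
theorem sit [Finite G] (hL : IsCharacteristicTwoType G)
    (hZ : ∀ S : Sylow 2 G, centralizer (zc (S : Subgroup G) : Set G) ≤
      normalizer ((S : Subgroup G) : Set G)) (S : Sylow 2 G) :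
    Sit (normalizer ((jj (S : Subgroup G) : Subgroup G) : Set G)) (S : Subgroup G) where
  two := S.isPGroup'
  ne := sylow_ne_bot hL S
  norm := le_rfl
  key := fun _ _ _ _ _ hT' hBT' _ => CaseOne.key hZ S hT' hBT'

/-- Context (I): an amalgam pair, or a 2-local subgroup containing all 2-local overgroups of
`B(S)`. -/
theorem result [Finite G] (hL : IsCharacteristicTwoType G)
    (hN : ∀ N : Subgroup G, IsTwoLocal N → Group.IsSolvable N)
    (hZ : ∀ S : Sylow 2 G, centralizer (zc (S : Subgroup G) : Set G) ≤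
      normalizer ((S : Subgroup G) : Set G))
    (hA : StrLemma G) (S : Sylow 2 G) :
    (∃ N B P Q : Subgroup G, Ctx N B P Q) ∨
    ∃ M : Subgroup G, IsTwoLocal M ∧ (S : Subgroup G) ≤ M ∧
      ∀ X : Subgroup G, IsTwoLocal X → bau (S : Subgroup G) ≤ X → X ≤ M := by
  have hs := sit hL hZ S
  rcases hs.dich hL hN hZ hA (Or.inl (by rw [jj_bau])) with ⟨P, Q, h⟩ | ⟨R, hR, hR1, hNR, hblk⟩
  · exact Or.inl ⟨_, _, P, Q, h⟩
  · refine Or.inr (final hZ S ?_ hR hR1 hNR ?_)
    · exact fun X hX hBX hXN => ((hs.str hL hN hZ hA) X hX hBX hXN).1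
    · intro X hX hBX hXN 𝓛 h𝓛 L hLL
      refine hblk L (mem_EE_of_mem h𝓛 hX hLL ?_)
      have h1 := not_le_normalizer_jj_of_blk (h𝓛.blk L hLL)
      rwa [jj_bau] at h1

end Cfsg.Agent.ZN.CaseOne
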