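import Cfsg.Agent.ZN.CaseOne
import Cfsg.Agent.ZN.CaseTwo

/-!
# S0518, part [C]: the context `Ctx N B P Q` exists (relative to the structure lemma)
-/

set_option autoImplicit false

namespace Cfsg.Agent.ZN.ChoiceMain

open Subgroup Cfsg Cfsg.Agent.ZN Cfsg.Agent.ZN.ChoiceBase Cfsg.Agent.ZN.ChoiceSit

universe u

/-- Part [C] of S0518, relative to the structure lemma `StrLemma G` (part [A]). -/
theorem exists_ctx_of {G : Type u} [Group G] [Finite G]
    (hL : IsCharacteristicTwoType G) (hO : pCore 2 G = ⊥)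
    (hN : ∀ N : Subgroup G, IsTwoLocal N → Group.IsSolvable N)
    (hZ : ∀ S : Sylow 2 G,
      Subgroup.centralizer (zc (S : Subgroup G) : Set G) ≤
        Subgroup.normalizer ((S : Subgroup G) : Set G))
    (hse : ∀ K : Subgroup G, ¬ IsStronglyEmbedded K) (hA : StrLemma G) :
    ∃ N B P Q : Subgroup G, Ctx N B P Q := by
  obtain ⟨S⟩ : Nonempty (Sylow 2 G) := inferInstance
  rcases CaseOne.result hL hN hZ hA S with h | ⟨M, hM, hSM, hU⟩
  · exact h
  · exact CaseTwo.result hL hO hN hZ hA hse S hM hSM fun X hX hSX =>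
      hU X hX ((bau_le _).trans hSX)

end Cfsg.Agent.ZN.ChoiceMain
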