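import Cfsg.Agent.ZN.FinalBridge
import Cfsg.Agent.Classification.ZNFinal

/-! # S0518, part [D]: final identification -/

set_option autoImplicit false

namespace Cfsg.Agent.ZN.Final

open Subgroup Cfsg Cfsg.Agent.ZN

universe u

theorem result {G : Type u} [Group G] [Finite G] (hL : IsCharacteristicTwoType G)
    (hZ : ∀ S : Sylow 2 G, Subgroup.centralizer (zc (S : Subgroup G) : Set G) ≤
      Subgroup.normalizer ((S : Subgroup G) : Set G)) {N B P Q : Subgroup G} (h : Ctx N B P Q)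
    (h1 : o2 P = zl B P) (h2 : o2 Q = zl B Q) (h3 : o2 P ⊓ o2 Q = zc B) (h4 : Nat.card (zc B) ≤ 4)
    (H : Subgroup G) (hH : H = Subgroup.closure {g : G | Odd (orderOf g)}) :
    ∃ M₁ M₂ : Subgroup H, M₁ ≠ M₂ ∧ IsMaximalTwoLocal M₁ ∧ IsMaximalTwoLocal M₂ ∧
      Nonempty (M₁ ≃* Equiv.Perm (Fin 4)) ∧ Nonempty (M₂ ≃* Equiv.Perm (Fin 4)) ∧
      Nat.card ↥(M₁ ⊓ M₂) = 8 := by
  obtain ⟨e, he, hE₁, hE₂, hc₁, hc₂, hC₁, hC₂, hN₁, hN₂, h12, h21, hinf, hc⟩ :=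
    FinalBridge.data hL h h1 h2 h3 h4
  have hZ' : ∀ S : Sylow 2 G,
      Subgroup.centralizer {z : G | z ∈ (S : Subgroup G) ∧ z ^ 2 = 1 ∧ ∀ s ∈ (S : Subgroup G), s * z = z * s} ≤
        Subgroup.normalizer ((S : Subgroup G) : Set G) := by
    intro S
    have h5 : {z : G | z ∈ (S : Subgroup G) ∧ z ^ 2 = 1 ∧ ∀ s ∈ (S : Subgroup G), s * z = z * s} =
        (zc (S : Subgroup G) : Set G) := by
      ext x
      exact (FinalBridge.mem_zc (B := (S : Subgroup G)) (x := x)).symm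
    rw [h5]
    exact hZ S
  exact Cfsg.Agent.Classification.ZNFinal.final_step hL hZ' e he (o2 P) (o2 Q) hE₁ hE₂ hc₁ hc₂ hC₁ hC₂ hN₁ hN₂
    h12 h21 hinf hc H hH

end Cfsg.Agent.ZN.Final
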