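import Cfsg.Agent.ZN.Map

/-!
# The measure `(m(T), |J(T)|, |B(T)|, |T|)` of a 2-subgroup `T`, and basic facts on `J(T)`, `B(T)`
(for the choice step of S0518 and of the C1 case of the N-group core theorem).
-/

set_option autoImplicit false

namespace Cfsg.Agent.ZN.Measure

open Subgroup Cfsg Cfsg.Agent.PLocal.ThompsonJ

universe u

variable {G : Type u} [Group G]

/-! ### elementary abelian subgroups of largest order -/

/-- the largest order of an elementary abelian 2-subgroup of `T` -/
noncomputable def ea (T : Subgroup G) : ℕ :=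
  sSup {n | ∃ A : Subgroup G, A ≤ T ∧ IsElementaryAbelian 2 A ∧ Nat.card A = n}

theorem bdd [Finite G] (T : Subgroup G) :
    BddAbove {n | ∃ A : Subgroup G, A ≤ T ∧ IsElementaryAbelian 2 A ∧ Nat.card A = n} := by
  refine ⟨Nat.card G, ?_⟩
  rintro n ⟨A, -, -, rfl⟩
  exact Subgroup.card_le_card_group A

theorem le_ea [Finite G] {A T : Subgroup G} (hA : IsElementaryAbelian 2 A) (h : A ≤ T) :
    Nat.card A ≤ ea T :=
  le_csSup (bdd T) ⟨A, h, hA, rfl⟩

theorem exists_ea [Finite G] (T : Subgroup G) :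
    ∃ A : Subgroup G, A ≤ T ∧ IsElementaryAbelian 2 A ∧ Nat.card A = ea T :=
  Nat.sSup_mem (s := {n | ∃ A : Subgroup G, A ≤ T ∧ IsElementaryAbelian 2 A ∧ Nat.card A = n})
    ⟨_, ⊥, bot_le, isElementaryAbelian_bot G 2, rfl⟩ (bdd T)

theorem ea_mono [Finite G] {T T' : Subgroup G} (h : T ≤ T') : ea T ≤ ea T' := by
  obtain ⟨A, h1, h2, h3⟩ := exists_ea T
  rw [← h3]
  exact le_ea h2 (h1.trans h)

theorem jj_eq [Finite G] (T : Subgroup G) :
    jj T = sSup {A | A ≤ T ∧ IsElementaryAbelian 2 A ∧ Nat.card A = ea T} := by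
  obtain ⟨A₀, h1, h2, h3⟩ := exists_ea T
  have hc : ∀ A : Subgroup G, A ≤ T → Nat.card (A.subgroupOf T) = Nat.card A := fun A hA =>
    Nat.card_congr (Subgroup.subgroupOfEquivOfLe hA).toEquiv
  apply le_antisymm
  · rw [jj, thompsonSubgroupOf_def, Subgroup.map_le_iff_le_comap]
    refine thompsonSubgroup_le fun A hA => ?_
    rw [← Subgroup.map_le_iff_le_comap]
    refine le_sSup ⟨Subgroup.map_subtype_le A, isElementaryAbelian_map hA.1 _, ?_⟩
    apply le_antisymm
    · exact le_ea (isElementaryAbelian_map hA.1 _) (Subgroup.map_subtype_le A)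
    · rw [card_map_injective A T.subtype_injective, ← h3, ← hc A₀ h1]
      exact hA.2 _ (isElementaryAbelian_subgroupOf h2 T)
  · refine sSup_le ?_
    rintro A ⟨hAT, hA, hAc⟩
    have h4 : (A.subgroupOf T).map T.subtype = A := by
      rw [Subgroup.subgroupOf_map_subtype, inf_eq_left.2 hAT]
    rw [← h4, jj, thompsonSubgroupOf_def]
    refine Subgroup.map_mono (le_thompsonSubgroup ⟨isElementaryAbelian_subgroupOf hA T, ?_⟩)
    intro B hB
    rw [hc A hAT, hAc]
    have := le_ea (isElementaryAbelian_map hB T.subtype) (Subgroup.map_subtype_le B)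
    rwa [card_map_injective B T.subtype_injective] at this

theorem jj_le (T : Subgroup G) : jj T ≤ T := thompsonSubgroupOf_le_self 2 T

theorem le_jj [Finite G] {A T : Subgroup G} (hA : IsElementaryAbelian 2 A) (h : A ≤ T)
    (hc : ea T ≤ Nat.card A) : A ≤ jj T := by
  rw [jj_eq]
  exact le_sSup ⟨h, hA, le_antisymm (le_ea hA h) hc⟩

theorem jj_mono [Finite G] {T T' : Subgroup G} (h : T ≤ T') (he : ea T' ≤ ea T) :
    jj T ≤ jj T' := by
  rw [jj_eq T]
  refine sSup_le ?_
  rintro A ⟨h1, h2, h3⟩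
  exact le_jj h2 (h1.trans h) (he.trans_eq h3.symm)

theorem ea_of_jj_le [Finite G] {T U : Subgroup G} (h1 : jj T ≤ U) (h2 : U ≤ T) :
    ea U = ea T := by
  apply le_antisymm (ea_mono h2)
  obtain ⟨A, h3, h4, h5⟩ := exists_ea T
  rw [← h5]
  exact le_ea h4 ((le_jj h4 h3 h5.ge).trans h1)

theorem jj_of_jj_le [Finite G] {T U : Subgroup G} (h1 : jj T ≤ U) (h2 : U ≤ T) :
    jj U = jj T := by
  apply le_antisymm (jj_mono h2 (ea_of_jj_le h1 h2).ge)
  rw [jj_eq T]
  refine sSup_le ?_
  rintro A ⟨h3, h4, h5⟩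
  refine le_jj h4 ((le_jj h4 h3 h5.ge).trans h1) ?_
  rw [ea_of_jj_le h1 h2, h5]

/-! ### `zc`, `zj`, `bau` -/

theorem mem_zc_of {B : Subgroup G} {x : G} (h1 : x ∈ B) (h2 : ∀ b ∈ B, b * x = x * b)
    (h3 : x ^ 2 = 1) : x ∈ zc B :=
  Subgroup.subset_closure ⟨⟨h1, Subgroup.mem_centralizer_iff.2 h2⟩, h3⟩

theorem zc_le_inf (B : Subgroup G) : zc B ≤ B ⊓ centralizer (B : Set G) := by
  rw [zc, omegaOne, Subgroup.closure_le]
  rintro x ⟨h, -⟩
  exact h

theorem zc_le (B : Subgroup G) : zc B ≤ B := (zc_le_inf B).trans inf_le_left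

theorem zc_le_centralizer (B : Subgroup G) : zc B ≤ centralizer (B : Set G) :=
  (zc_le_inf B).trans inf_le_right

theorem le_centralizer_zc (B : Subgroup G) : B ≤ centralizer (zc B : Set G) :=
  Subgroup.le_centralizer_iff.1 (zc_le_centralizer B)

theorem mem_zc_iff {B : Subgroup G} {x : G} :
    x ∈ zc B ↔ x ∈ B ∧ (∀ b ∈ B, b * x = x * b) ∧ x ^ 2 = 1 := by
  constructor
  · intro hx
    refine ⟨zc_le B hx, fun b hb => Subgroup.mem_centralizer_iff.1 (zc_le_centralizer B hx) b hb, ?_⟩
    have hcomm : ∀ a ∈ zc B, ∀ b ∈ zc B, a * b = b * a := fun a ha b hb =>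
      Subgroup.mem_centralizer_iff.1 (zc_le_centralizer B hb) a (zc_le B ha)
    rw [zc, omegaOne] at hx
    induction hx using Subgroup.closure_induction with
    | mem x h => exact h.2
    | one => exact one_pow 2
    | mul a b ha hb iha ihb =>
      have hab : a * b = b * a := hcomm a ha b hb
      rw [pow_two, mul_assoc, ← mul_assoc b a b, ← hab, mul_assoc, ← pow_two b, ihb, mul_one,
        ← pow_two, iha]
    | inv a ha iha => rw [inv_pow, iha, inv_one]
  · rintro ⟨h1, h2, h3⟩
    exact mem_zc_of h1 h2 h3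

theorem isElementaryAbelian_zc (B : Subgroup G) : IsElementaryAbelian 2 (zc B) := by
  rw [isElementaryAbelian_iff]
  refine ⟨fun a ha b hb => ?_, fun a ha => (mem_zc_iff.1 ha).2.2⟩
  exact (mem_zc_iff.1 hb).2.1 a (mem_zc_iff.1 ha).1

theorem zj_eq (T : Subgroup G) : zj T = zc (jj T) := rfl

theorem zj_congr {T T' : Subgroup G} (h : jj T = jj T') : zj T = zj T' := by
  rw [zj_eq, zj_eq, h]

theorem zj_le_jj (T : Subgroup G) : zj T ≤ jj T := zc_le (jj T)

theorem bau_le (T : Subgroup G) : bau T ≤ T := inf_le_left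

theorem jj_le_bau (T : Subgroup G) : jj T ≤ bau T :=
  le_inf (jj_le T) (le_centralizer_zc (jj T))

theorem ea_bau [Finite G] (T : Subgroup G) : ea (bau T) = ea T :=
  ea_of_jj_le (jj_le_bau T) (bau_le T)

theorem jj_bau [Finite G] (T : Subgroup G) : jj (bau T) = jj T :=
  jj_of_jj_le (jj_le_bau T) (bau_le T)

theorem zj_bau [Finite G] (T : Subgroup G) : zj (bau T) = zj T := zj_congr (jj_bau T)

theorem bau_bau [Finite G] (T : Subgroup G) : bau (bau T) = bau T := by
  rw [bau, zj_bau]
  exact inf_eq_left.2 inf_le_right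

/-- An involution centralizing `J(T)` lies in `J(T)`. -/
theorem mem_jj_of_comm [Finite G] {T : Subgroup G} {x : G} (hx : x ∈ T)
    (hc : ∀ b ∈ jj T, b * x = x * b) (h2 : x ^ 2 = 1) : x ∈ jj T := by
  obtain ⟨A, h3, h4, h5⟩ := exists_ea T
  have hAJ : A ≤ jj T := le_jj h4 h3 h5.ge
  -- `A ⊔ ⟨x⟩` is elementary abelian
  have hcA : ∀ a ∈ A, a * x = x * a := fun a ha => hc a (hAJ ha)
  have hE : IsElementaryAbelian 2 (A ⊔ zpowers x) := by
    have hcl : A ⊔ zpowers x = closure ((A : Set G) ∪ {x}) := by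
      rw [Subgroup.closure_union, Subgroup.closure_eq, Subgroup.zpowers_eq_closure]
    rw [isElementaryAbelian_iff] at h4 ⊢
    have hcomm : ∀ a ∈ A ⊔ zpowers x, ∀ b ∈ A ⊔ zpowers x, a * b = b * a := by
      have h6 : A ⊔ zpowers x ≤ centralizer ((A ⊔ zpowers x : Subgroup G) : Set G) := by
        rw [sup_le_iff]
        constructor
        · rw [Subgroup.le_centralizer_iff, sup_le_iff]
          refine ⟨fun a ha => Subgroup.mem_centralizer_iff.2 fun b hb => h4.1 b hb a ha, ?_⟩
          rw [Subgroup.zpowers_le]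
          exact Subgroup.mem_centralizer_iff.2 fun b hb => hcA b hb
        · rw [Subgroup.zpowers_le, ← Subgroup.zpowers_le, Subgroup.le_centralizer_iff,
            sup_le_iff]
          constructor
          · intro a ha
            refine Subgroup.mem_centralizer_iff.2 fun b hb => ?_
            obtain ⟨n, rfl⟩ := Subgroup.mem_zpowers_iff.1 hb
            exact ((show Commute a x from hcA a ha).zpow_right n).symm
          · rw [Subgroup.zpowers_le]
            refine Subgroup.mem_centralizer_iff.2 fun b hb => ?_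
            obtain ⟨n, rfl⟩ := Subgroup.mem_zpowers_iff.1 hb
            exact ((Commute.refl x).zpow_left n)
      intro a ha b hb
      exact Subgroup.mem_centralizer_iff.1 (h6 hb) a ha
    refine ⟨hcomm, fun a ha => ?_⟩
    have ha' := ha
    rw [hcl] at ha'
    clear ha
    have hcomm' : ∀ a ∈ closure ((A : Set G) ∪ {x}), ∀ b ∈ closure ((A : Set G) ∪ {x}),
        a * b = b * a := by
      rw [← hcl]; exact hcomm
    induction ha' using Subgroup.closure_induction with
    | mem y hy =>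
      rcases hy with hy | hy
      · exact h4.2 y hy
      · rw [Set.mem_singleton_iff.1 hy]; exact h2
    | one => exact one_pow 2
    | mul a b ha hb iha ihb =>
      have hab : a * b = b * a := hcomm' a ha b hb
      rw [pow_two, mul_assoc, ← mul_assoc b a b, ← hab, mul_assoc, ← pow_two b, ihb, mul_one,
        ← pow_two, iha]
    | inv a ha iha => rw [inv_pow, iha, inv_one]
  have hle : A ⊔ zpowers x ≤ T := sup_le h3 (by rwa [Subgroup.zpowers_le])
  have := le_jj hE hle (by rw [← h5]; exact Subgroup.card_le_of_le le_sup_left)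
  exact this (le_sup_right (a := A) (Subgroup.mem_zpowers x))

theorem zc_bau [Finite G] (T : Subgroup G) : zc (bau T) = zj T := by
  apply le_antisymm
  · intro x hx
    obtain ⟨h1, h2, h3⟩ := mem_zc_iff.1 hx
    have hj : x ∈ jj T := mem_jj_of_comm (bau_le T h1) (fun b hb => h2 b (jj_le_bau T hb)) h3
    exact mem_zc_of hj (fun b hb => h2 b (jj_le_bau T hb)) h3
  · intro x hx
    obtain ⟨h1, h2, h3⟩ := mem_zc_iff.1 hx
    refine mem_zc_of (jj_le_bau T h1) (fun b hb => ?_) h3
    have : b ∈ centralizer (zj T : Set G) := hb.2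
    exact (Subgroup.mem_centralizer_iff.1 this x hx).symm

/-! ### the measure -/

/-- `(m(T), |J(T)|, |B(T)|, |T|)` encoded as one number. -/
noncomputable def mu (T : Subgroup G) : ℕ :=
  ((ea T * (Nat.card G + 1) + Nat.card (jj T)) * (Nat.card G + 1) + Nat.card (bau T)) *
    (Nat.card G + 1) + Nat.card T

theorem step {N x y x' y' : ℕ} (hy : y < N) (h : x' * N + y' ≤ x * N + y) :
    x' ≤ x ∧ (x' = x → y' ≤ y) := by
  constructor
  · by_contra hc
    push Not at hc
    have : (x + 1) * N ≤ x' * N := Nat.mul_le_mul_right N hc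
    rw [add_mul, one_mul] at this
    omega
  · rintro rfl
    omega

theorem of_mu_le [Finite G] {T T' : Subgroup G} (h : mu T' ≤ mu T) :
    ea T' ≤ ea T ∧ (ea T' = ea T → Nat.card (jj T') ≤ Nat.card (jj T)) ∧
      (ea T' = ea T → Nat.card (jj T') = Nat.card (jj T) →
        Nat.card (bau T') ≤ Nat.card (bau T)) ∧
      (ea T' = ea T → Nat.card (jj T') = Nat.card (jj T) →
        Nat.card (bau T') = Nat.card (bau T) → Nat.card T' ≤ Nat.card T) := by
  have hlt : ∀ U : Subgroup G, Nat.card U < Nat.card G + 1 := fun U =>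
    Nat.lt_succ_of_le (Subgroup.card_le_card_group U)
  obtain ⟨h1, h2⟩ := step (hlt T) h
  obtain ⟨h3, h4⟩ := step (hlt _) h1
  obtain ⟨h5, h6⟩ := step (hlt _) h3
  refine ⟨h5, h6, fun a b => h4 (by rw [a, b]), fun a b c => h2 (by rw [a, b, c])⟩

/-- If `bau T ≤ T'` and `mu T' ≤ mu T`, then `T'` has the same rank, Thompson subgroup and Baumann
subgroup as `T`. -/
theorem compare [Finite G] {T T' : Subgroup G} (h : bau T ≤ T') (hmu : mu T' ≤ mu T) :
    ea T' = ea T ∧ jj T' = jj T ∧ bau T' = bau T ∧ Nat.card T' ≤ Nat.card T := by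
  obtain ⟨h1, h2, h3, h4⟩ := of_mu_le hmu
  have e1 : ea T' = ea T := le_antisymm h1 (by rw [← ea_bau T]; exact ea_mono h)
  have e2 : jj T = jj T' := by
    refine Subgroup.eq_of_le_of_card_ge ?_ (h2 e1)
    rw [← jj_bau T]
    exact jj_mono h (by rw [ea_bau, e1])
  have e3 : bau T = bau T' := by
    refine Subgroup.eq_of_le_of_card_ge ?_ (h3 e1 (by rw [e2]))
    refine le_inf h ?_
    rw [← zj_congr e2]
    exact inf_le_right
  exact ⟨e1, e2.symm, e3.symm, h4 e1 (by rw [e2]) (by rw [e3])⟩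

/-- The measure is monotone, in the strong form needed: if `T ≤ T'` and `mu T' ≤ mu T` then
`T' = T`. -/
theorem eq_of_le [Finite G] {T T' : Subgroup G} (h : T ≤ T') (hmu : mu T' ≤ mu T) : T = T' :=
  Subgroup.eq_of_le_of_card_ge h (compare ((bau_le T).trans h) hmu).2.2.2

theorem ea_map (T : Subgroup G) (e : G ≃* G) [Finite G] : ea (T.map e.toMonoidHom) = ea T := by
  have key : ∀ (e : G ≃* G) (T : Subgroup G), ea T ≤ ea (T.map e.toMonoidHom) := by
    intro e T
    obtain ⟨A, h1, h2, h3⟩ := exists_ea T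
    rw [← h3, ← card_map_injective A (f := e.toMonoidHom) e.injective]
    exact le_ea (isElementaryAbelian_map h2 _) (Subgroup.map_mono h1)
  apply le_antisymm _ (key e T)
  have := key e.symm (T.map e.toMonoidHom)
  have h2 : (T.map e.toMonoidHom).map e.symm.toMonoidHom = T := by
    rw [Subgroup.map_map]
    have : e.symm.toMonoidHom.comp e.toMonoidHom = MonoidHom.id G := by
      ext x; simp
    rw [this, Subgroup.map_id]
  rwa [h2] at this

theorem mu_map (T : Subgroup G) (e : G ≃* G) [Finite G] : mu (T.map e.toMonoidHom) = mu T := by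
  have hi : Function.Injective e.toMonoidHom := e.injective
  rw [mu, mu, ea_map, jj_map _ hi, bau_map _ hi, card_map_injective _ hi,
    card_map_injective _ hi, card_map_injective _ hi]

theorem mu_conj (T : Subgroup G) (g : G) [Finite G] :
    mu (T.map (MulAut.conj g).toMonoidHom) = mu T :=
  mu_map T (MulAut.conj g)

end Cfsg.Agent.ZN.Measure
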