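import Cfsg.Agent.ZN.Defs
import Cfsg.Agent.Lib.Cores
import Cfsg.Agent.PLocal.ElemAbSup

/-!
# S0518, [B], the SECOND case: elementwise facts about a block
-/

set_option autoImplicit false

namespace Cfsg.Agent.ZN.SecondBasic

open Subgroup Cfsg Cfsg.Agent.ZN
open scoped commutatorElement

universe u

variable {G : Type u} [Group G]

/-! ### generalities -/

theorem le_normalizer_of_conj_mem {K H : Subgroup G}
    (h : ∀ g ∈ K, ∀ x ∈ H, g * x * g⁻¹ ∈ H) : K ≤ normalizer (H : Set G) := by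
  intro g hg
  rw [mem_normalizer_iff]
  intro x
  refine ⟨fun hx => h g hg x hx, fun hx => ?_⟩
  have := h g⁻¹ (inv_mem hg) _ hx
  simpa [mul_assoc] using this

theorem conj_mem_of_le_normalizer {K H : Subgroup G} (h : K ≤ normalizer (H : Set G)) {g x : G}
    (hg : g ∈ K) (hx : x ∈ H) : g * x * g⁻¹ ∈ H :=
  (mem_normalizer_iff.1 (h hg) x).1 hx

theorem mem_normalizer_of_conj_mem [Finite G] {H : Subgroup G} {g : G}
    (h : ∀ x ∈ H, g * x * g⁻¹ ∈ H) : g ∈ normalizer (H : Set G) := by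
  have h1 : H.map (MulAut.conj g).toMonoidHom ≤ H := by
    rintro _ ⟨x, hx, rfl⟩
    simpa using h x hx
  have h2 : H.map (MulAut.conj g).toMonoidHom = H :=
    eq_of_le_of_card_ge h1 (card_map_of_injective (MulAut.conj g).injective).ge
  rw [mem_normalizer_iff]
  intro x
  refine ⟨fun hx => h x hx, fun hx => ?_⟩
  have h3 : g * x * g⁻¹ ∈ H.map (MulAut.conj g).toMonoidHom := by rw [h2]; exact hx
  obtain ⟨y, hy, hyx⟩ := h3
  have h4 : y = x := (MulAut.conj g).injective (by simpa using hyx)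
  rw [← h4]
  exact hy

theorem mem_zc_iff {B : Subgroup G} {x : G} :
    x ∈ zc B ↔ x ∈ B ∧ x * x = 1 ∧ ∀ b ∈ B, b * x = x * b := by
  constructor
  · intro hx
    unfold zc omegaOne at hx
    induction hx using Subgroup.closure_induction with
    | mem y hy =>
      obtain ⟨⟨h1, h2⟩, h3⟩ := hy
      exact ⟨h1, by rw [← pow_two]; exact h3, fun b hb => mem_centralizer_iff.1 h2 b hb⟩
    | one => simp
    | mul y z _ _ hy hz =>
      obtain ⟨h1, h2, h3⟩ := hy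
      obtain ⟨k1, k2, k3⟩ := hz
      refine ⟨mul_mem h1 k1, ?_, fun b hb => ?_⟩
      · calc y * z * (y * z) = y * (z * y) * z := by group
          _ = y * (y * z) * z := by rw [← k3 y h1]
          _ = (y * y) * (z * z) := by group
          _ = 1 := by rw [h2, k2, one_mul]
      · calc b * (y * z) = (b * y) * z := by group
          _ = y * (b * z) := by rw [h3 b hb]; group
          _ = y * z * b := by rw [k3 b hb]; group
    | inv y _ hy =>
      obtain ⟨h1, h2, h3⟩ := hy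
      have : y⁻¹ = y := inv_eq_of_mul_eq_one_left h2
      rw [this]
      exact ⟨h1, h2, h3⟩
  · rintro ⟨h1, h2, h3⟩
    apply Subgroup.subset_closure
    refine ⟨⟨h1, mem_centralizer_iff.2 fun b hb => h3 b hb⟩, ?_⟩
    rw [pow_two]
    exact h2

theorem zc_le (B : Subgroup G) : zc B ≤ B := fun _ hx => (mem_zc_iff.1 hx).1

theorem conj_o2_mem {L : Subgroup G} {g x : G} (hg : g ∈ L) (hx : x ∈ o2 L) :
    g * x * g⁻¹ ∈ o2 L := by
  obtain ⟨y, hy, rfl⟩ := hx
  have hn : (pCore 2 ↥L).Normal := Cfsg.Agent.Lib.Cores.pCore_normal 2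
  exact ⟨⟨g, hg⟩ * y * ⟨g, hg⟩⁻¹, hn.conj_mem y hy _, rfl⟩

theorem le_normalizer_o2 (L : Subgroup G) : L ≤ normalizer ((o2 L : Subgroup G) : Set G) :=
  le_normalizer_of_conj_mem fun _ hg _ hx => conj_o2_mem hg hx

theorem o2_le (L : Subgroup G) : o2 L ≤ L := map_subtype_le _

/-- A 2-subgroup of `L` normalized by `L` lies in `O₂(L)`. -/
theorem le_o2 {L R : Subgroup G} (hR : IsPGroup 2 R) (hRL : R ≤ L)
    (hn : L ≤ normalizer (R : Set G)) : R ≤ o2 L := by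
  have h1 : (R.subgroupOf L).Normal := (normal_subgroupOf_iff_le_normalizer hRL).2 hn
  have h2 : IsPGroup 2 (R.subgroupOf L) :=
    hR.of_injective (subgroupOfEquivOfLe hRL).toMonoidHom (subgroupOfEquivOfLe hRL).injective
  have h3 : R.subgroupOf L ≤ pCore 2 ↥L := Cfsg.Agent.Lib.Cores.le_pCore h1 h2
  intro x hx
  exact ⟨⟨x, hRL hx⟩, h3 (mem_subgroupOf.2 hx), rfl⟩

theorem zc_le_zl (B L : Subgroup G) : zc B ≤ zl B L := by
  intro x hx
  unfold zl
  have h1 : (zc B).map (MulAut.conj ((1 : L) : G)).toMonoidHom ≤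
      ⨆ g : L, (zc B).map (MulAut.conj (g : G)).toMonoidHom :=
    le_iSup (fun g : L => (zc B).map (MulAut.conj (g : G)).toMonoidHom) 1
  exact h1 ⟨x, hx, by simp⟩

theorem conj_zc_mem_zl {B L : Subgroup G} {g x : G} (hg : g ∈ L) (hx : x ∈ zc B) :
    g * x * g⁻¹ ∈ zl B L := by
  unfold zl
  have h1 : (zc B).map (MulAut.conj ((⟨g, hg⟩ : L) : G)).toMonoidHom ≤
      ⨆ g : L, (zc B).map (MulAut.conj (g : G)).toMonoidHom :=
    le_iSup (fun g : L => (zc B).map (MulAut.conj (g : G)).toMonoidHom) ⟨g, hg⟩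
  exact h1 ⟨x, hx, by simp⟩

theorem zl_le {B L K : Subgroup G} (h : ∀ g ∈ L, ∀ x ∈ zc B, g * x * g⁻¹ ∈ K) : zl B L ≤ K := by
  unfold zl
  refine iSup_le ?_
  rintro ⟨g, hg⟩ _ ⟨x, hx, rfl⟩
  simpa using h g hg x hx

theorem conj_zl_mem {B L : Subgroup G} {g x : G} (hg : g ∈ L) (hx : x ∈ zl B L) :
    g * x * g⁻¹ ∈ zl B L := by
  have h1 : zl B L ≤ (zl B L).comap (MulAut.conj g).toMonoidHom := by
    refine zl_le fun k hk y hy => ?_
    rw [mem_comap]
    have : (MulAut.conj g).toMonoidHom (k * y * k⁻¹) = (g * k) * y * (g * k)⁻¹ := by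
      simp [mul_assoc]
    rw [this]
    exact conj_zc_mem_zl (mul_mem hg hk) hy
  have h2 := h1 hx
  rw [mem_comap] at h2
  simpa using h2

theorem le_normalizer_zl (B L : Subgroup G) : L ≤ normalizer ((zl B L : Subgroup G) : Set G) :=
  le_normalizer_of_conj_mem fun _ hg _ hx => conj_zl_mem hg hx

theorem comm_mem_vl {B L : Subgroup G} {g x : G} (hx : x ∈ zl B L) (hg : g ∈ L) :
    x * g * x⁻¹ * g⁻¹ ∈ vl B L := by
  have := commutator_mem_commutator (H₁ := zl B L) (H₂ := L) hx hg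
  exact this

theorem vl_le_zl (B L : Subgroup G) : vl B L ≤ zl B L := by
  unfold vl
  rw [commutator_le]
  intro x hx g hg
  have h1 : x * (g * x⁻¹ * g⁻¹) ∈ zl B L := mul_mem hx (conj_zl_mem hg (inv_mem hx))
  have h2 : ⁅x, g⁆ = x * (g * x⁻¹ * g⁻¹) := by rw [commutatorElement_def]; group
  rw [h2]; exact h1

theorem conj_vl_mem {B L : Subgroup G} {g x : G} (hg : g ∈ L) (hx : x ∈ vl B L) :
    g * x * g⁻¹ ∈ vl B L := by
  have h1 : vl B L ≤ (vl B L).comap (MulAut.conj g).toMonoidHom := by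
    unfold vl
    rw [commutator_le]
    intro y hy k hk
    rw [mem_comap]
    have : (MulAut.conj g).toMonoidHom ⁅y, k⁆ = ⁅g * y * g⁻¹, g * k * g⁻¹⁆ := by
      rw [commutatorElement_def, commutatorElement_def]
      simp [mul_assoc]
    rw [this]
    exact commutator_mem_commutator (conj_zl_mem hg hy) (mul_mem (mul_mem hg hk) (inv_mem hg))
  have h2 := h1 hx
  rw [mem_comap] at h2
  simpa using h2

theorem le_normalizer_vl (B L : Subgroup G) : L ≤ normalizer ((vl B L : Subgroup G) : Set G) :=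
  le_normalizer_of_conj_mem fun _ hg _ hx => conj_vl_mem hg hx

theorem mem_rl_iff {B L : Subgroup G} {x : G} :
    x ∈ rl B L ↔ x ∈ zc B ∧ ∀ g ∈ L, g * x = x * g := by
  unfold rl
  rw [mem_inf, mem_centralizer_iff]
  rfl

/-! ### facts about blocks -/

section block

variable {B L : Subgroup G}

theorem zl_le_o2 (h : IsBlk B L) : zl B L ≤ o2 L := by
  have hL : zl B L ≤ L := zl_le fun g hg x hx =>
    mul_mem (mul_mem hg (h.le (zc_le B hx))) (inv_mem hg)
  intro x hx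
  rw [← h.cent_zl]
  exact ⟨hL hx, mem_centralizer_iff.2 fun y hy => h.zl_comm y hy x hx⟩

theorem zl_le_B (h : IsBlk B L) : zl B L ≤ B := (zl_le_o2 h).trans h.o2_le

theorem mem_o2_of_comm (h : IsBlk B L) {x : G} (hx : x ∈ L)
    (hc : ∀ z ∈ zl B L, x * z = z * x) : x ∈ o2 L := by
  rw [← h.cent_zl]
  exact ⟨hx, mem_centralizer_iff.2 fun z hz => (hc z hz).symm⟩

theorem comm_of_mem_o2 (h : IsBlk B L) {x z : G} (hx : x ∈ o2 L) (hz : z ∈ zl B L) :
    x * z = z * x := by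
  rw [← h.cent_zl] at hx
  exact (mem_centralizer_iff.1 hx.2 z hz).symm

theorem mul_mem_o2 (h : IsBlk B L) {x y : G} (hx : x ∈ B) (hy : y ∈ B) (hxQ : x ∉ o2 L)
    (hyQ : y ∉ o2 L) : x * y ∈ o2 L := by
  have h2 : ((o2 L).subgroupOf B).index = 2 := h.o2_index
  have := Subgroup.mul_mem_iff_of_index_two h2 (a := ⟨x, hx⟩) (b := ⟨y, hy⟩)
  rw [mem_subgroupOf, mem_subgroupOf, mem_subgroupOf] at this
  exact this.2 ⟨fun h => absurd h hxQ, fun h => absurd h hyQ⟩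

theorem exists_not_mem_o2 (h : IsBlk B L) : ∃ t ∈ B, t ∉ o2 L := by
  by_contra hc
  push Not at hc
  have h1 : (o2 L).relIndex B = 1 := relIndex_eq_one.2 hc
  rw [h.o2_index] at h1
  omega

theorem exists_not_mem_B (h : IsBlk B L) : ∃ g ∈ L, g ∉ B := by
  by_contra hc
  push Not at hc
  have h1 : B.relIndex L = 1 := relIndex_eq_one.2 hc
  rw [h.index] at h1
  omega

/-- `B` is a maximal subgroup of `L`. -/
theorem le_of_mem (h : IsBlk B L) {K : Subgroup G} (hK : B ≤ K) {g : G} (hg : g ∈ L)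
    (hgB : g ∉ B) (hgK : g ∈ K) : L ≤ K := by
  have h1 : B.relIndex (K ⊓ L) * (K ⊓ L).relIndex L = B.relIndex L :=
    relIndex_mul_relIndex B (K ⊓ L) L (le_inf hK h.le) inf_le_right
  rw [h.index] at h1
  have h2 : B.relIndex (K ⊓ L) ≠ 1 := by
    intro h2
    exact hgB (relIndex_eq_one.1 h2 ⟨hgK, hg⟩)
  have h3 : B.relIndex (K ⊓ L) = 3 := by
    have hd : B.relIndex (K ⊓ L) ∣ 3 := ⟨_, h1.symm⟩
    rcases (Nat.dvd_prime (by norm_num)).1 hd with h4 | h4
    · exact absurd h4 h2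
    · exact h4
  rw [h3] at h1
  have h4 : (K ⊓ L).relIndex L = 1 := by omega
  exact (relIndex_eq_one.1 h4).trans inf_le_left

theorem not_le_normalizer (h : IsBlk B L) : ¬ L ≤ normalizer (B : Set G) := by
  intro hn
  obtain ⟨t, ht, htQ⟩ := exists_not_mem_o2 h
  exact htQ (le_o2 h.two h.le hn ht)

theorem not_conj_le [Finite G] (h : IsBlk B L) {g : G} (hg : g ∈ L) (hgB : g ∉ B) :
    ∃ b ∈ B, g * b * g⁻¹ ∉ B := by
  by_contra hc
  push Not at hc
  refine not_le_normalizer h (le_of_mem h le_normalizer hg hgB ?_)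
  exact mem_normalizer_of_conj_mem hc

/-- `L` is generated by two conjugates of `B`. -/
theorem le_of_conj_mem [Finite G] (h : IsBlk B L) {K : Subgroup G} {g : G} (hg : g ∈ L)
    (hgB : g ∉ B) (hK : B ≤ K) (hK' : ∀ b ∈ B, g * b * g⁻¹ ∈ K) : L ≤ K := by
  obtain ⟨b, hb, hbB⟩ := not_conj_le h hg hgB
  exact le_of_mem h hK (mul_mem (mul_mem hg (h.le hb)) (inv_mem hg)) hbB (hK' b hb)

/-- if `t ∈ B ∖ O₂(L)` and `g ∈ L ∖ B` then `t^g ∉ B`. -/
theorem conj_not_mem [Finite G] (h : IsBlk B L) {g t : G} (hg : g ∈ L) (hgB : g ∉ B)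
    (ht : t ∈ B) (htQ : t ∉ o2 L) : g * t * g⁻¹ ∉ B := by
  intro hc
  obtain ⟨b, hb, hbB⟩ := not_conj_le h hg hgB
  by_cases hbQ : b ∈ o2 L
  · exact hbB (h.o2_le (conj_o2_mem hg hbQ))
  · have h1 : t⁻¹ * b ∈ o2 L := by
      have h2 : t⁻¹ ∉ o2 L := fun h3 => htQ (by simpa using inv_mem h3)
      exact mul_mem_o2 h (inv_mem ht) hb h2 hbQ
    have h2 : g * b * g⁻¹ = (g * t * g⁻¹) * (g * (t⁻¹ * b) * g⁻¹) := by group
    exact hbB (h2 ▸ mul_mem hc (h.o2_le (conj_o2_mem hg h1)))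

/-- `L` is generated by `O₂(L)`, `t` and `t^g`. -/
theorem le_of_conj_mem' [Finite G] (h : IsBlk B L) {K : Subgroup G} {g t : G} (hg : g ∈ L)
    (hgB : g ∉ B) (ht : t ∈ B) (htQ : t ∉ o2 L) (hQK : o2 L ≤ K) (htK : t ∈ K)
    (htK' : g * t * g⁻¹ ∈ K) : L ≤ K := by
  have hB : B ≤ K := by
    intro b hb
    by_cases hbQ : b ∈ o2 L
    · exact hQK hbQ
    · have h2 : t⁻¹ ∉ o2 L := fun h3 => htQ (by simpa using inv_mem h3)
      have h1 := mul_mem_o2 h (inv_mem ht) hb h2 hbQ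
      have h3 : b = t * (t⁻¹ * b) := by group
      rw [h3]
      exact mul_mem htK (hQK h1)
  exact le_of_mem h hB (mul_mem (mul_mem hg (h.le ht)) (inv_mem hg)) (conj_not_mem h hg hgB ht htQ)
    htK'

/-- Elements of `zl B L` commute and are involutions: convenient forms. -/
theorem mul_self_zl (h : IsBlk B L) {x : G} (hx : x ∈ zl B L) : x * x = 1 := by
  rw [← pow_two]; exact h.zl_sq x hx

theorem inv_zl (h : IsBlk B L) {x : G} (hx : x ∈ zl B L) : x⁻¹ = x :=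
  inv_eq_of_mul_eq_one_left (mul_self_zl h hx)

theorem mem_zc_of_comm (h : IsBlk B L) {w : G} (hw : w ∈ zl B L) (hc : ∀ b ∈ B, b * w = w * b) :
    w ∈ zc B :=
  mem_zc_iff.2 ⟨zl_le_B h hw, mul_self_zl h hw, hc⟩

/-- `C_{zl B L}(t) = zc B` for `t ∈ B ∖ O₂(L)`. -/
theorem mem_zc_of_comm' (h : IsBlk B L) {w t : G} (hw : w ∈ zl B L) (ht : t ∈ B)
    (htQ : t ∉ o2 L) (hc : t * w = w * t) : w ∈ zc B := by
  refine mem_zc_of_comm h hw fun b hb => ?_
  by_cases hbQ : b ∈ o2 L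
  · exact comm_of_mem_o2 h hbQ hw
  · have h2 : t⁻¹ ∉ o2 L := fun h3 => htQ (by simpa using inv_mem h3)
    have h1 := comm_of_mem_o2 h (mul_mem_o2 h (inv_mem ht) hb h2 hbQ) hw
    calc b * w = t * (t⁻¹ * b * w) := by group
      _ = t * (w * (t⁻¹ * b)) := by rw [h1]
      _ = (t * w) * t⁻¹ * b := by group
      _ = (w * t) * t⁻¹ * b := by rw [hc]
      _ = w * b := by group

/-- `[w, t] ∈ zc B` for `w ∈ zl B L`, `t ∈ B`. -/
theorem comm_mem_zc (h : IsBlk B L) {w t : G} (hw : w ∈ zl B L) (ht : t ∈ B) :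
    w * t * w⁻¹ * t⁻¹ ∈ zc B := by
  have hwt : t * w * t⁻¹ ∈ zl B L := conj_zl_mem (h.le ht) hw
  have h0 : w * t * w⁻¹ * t⁻¹ = w * (t * w * t⁻¹) := by
    rw [inv_zl h hw]; group
  rw [h0]
  have h1 : w * (t * w * t⁻¹) ∈ zl B L := mul_mem hw hwt
  by_cases htQ : t ∈ o2 L
  · have h2 := comm_of_mem_o2 h htQ hw
    have h3 : w * (t * w * t⁻¹) = w * w := by rw [h2]; group
    rw [h3, mul_self_zl h hw]
    exact one_mem _
  · refine mem_zc_of_comm' h h1 ht htQ ?_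
    have h2 := comm_of_mem_o2 h (mul_mem_o2 h ht ht htQ htQ) hw
    have h3 := h.zl_comm _ hw _ hwt
    calc t * (w * (t * w * t⁻¹)) = (t * w * t⁻¹) * ((t * t) * w) * t⁻¹ := by group
      _ = (t * w * t⁻¹) * (w * (t * t)) * t⁻¹ := by rw [h2]
      _ = ((t * w * t⁻¹) * w) * t := by group
      _ = w * (t * w * t⁻¹) * t := by rw [h3]

theorem mul_mem_rl (h : IsBlk B L) {x y : G} (hx : x ∈ zc B) (hy : y ∈ zc B) (hxR : x ∉ rl B L)
    (hyR : y ∉ rl B L) : x * y ∈ rl B L := by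
  have h2 : ((rl B L).subgroupOf (zc B)).index = 2 := h.rl_index
  have := Subgroup.mul_mem_iff_of_index_two h2 (a := ⟨x, hx⟩) (b := ⟨y, hy⟩)
  rw [mem_subgroupOf, mem_subgroupOf, mem_subgroupOf] at this
  exact this.2 ⟨fun h => absurd h hxR, fun h => absurd h hyR⟩

theorem eq_one_of_mem_rl_vl (h : IsBlk B L) {x : G} (hx : x ∈ rl B L) (hx' : x ∈ vl B L) :
    x = 1 := by
  have : x ∈ rl B L ⊓ vl B L := ⟨hx, hx'⟩
  rw [h.disj] at this
  exact mem_bot.1 this

/-- `zc B ∩ vl B L` has at most one non-trivial element. -/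
theorem eq_of_mem_zc_vl (h : IsBlk B L) {x y : G} (hx : x ∈ zc B) (hx' : x ∈ vl B L)
    (hy : y ∈ zc B) (hy' : y ∈ vl B L) (hx1 : x ≠ 1) (hy1 : y ≠ 1) : x = y := by
  have h1 : x ∉ rl B L := fun h3 => hx1 (eq_one_of_mem_rl_vl h h3 hx')
  have h2 : y ∉ rl B L := fun h3 => hy1 (eq_one_of_mem_rl_vl h h3 hy')
  have h3 := eq_one_of_mem_rl_vl h (mul_mem_rl h hx hy h1 h2) (mul_mem hx' hy')
  rw [eq_inv_of_mul_eq_one_left h3, inv_zl h (zc_le_zl B L hy)]

theorem mem_rl_of_comm (h : IsBlk B L) {x : G} (hx : x ∈ zl B L) (hc : L ≤ centralizer {x}) :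
    x ∈ rl B L := by
  have h1 : ∀ g ∈ L, g * x = x * g := fun g hg => by
    have := mem_centralizer_iff.1 (hc hg) x (Set.mem_singleton x)
    exact this.symm
  exact mem_rl_iff.2 ⟨mem_zc_of_comm h hx fun b hb => h1 b (h.le hb), h1⟩

end block

end Cfsg.Agent.ZN.SecondBasic
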