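import Cfsg.Agent.ZN.SecondBasic
import Cfsg.Agent.Lib.SylowNormalInf

/-!
# S0518, [B], the SECOND case: two blocks `P`, `Q` over `B` with `zl B P ⊔ zl B Q` normal in `P`
-/

set_option autoImplicit false

namespace Cfsg.Agent.ZN.SecondCore

open Subgroup Cfsg Cfsg.Agent.ZN Cfsg.Agent.ZN.SecondBasic
open scoped commutatorElement

universe u

variable {G : Type u} [Group G]

/-- The hypotheses of the SECOND case. -/
structure Sec (B P Q : Subgroup G) : Prop where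
  blkP : IsBlk B P
  blkQ : IsBlk B Q
  core : ∀ U : Subgroup G, U ≤ B → P ≤ normalizer (U : Set G) → Q ≤ normalizer (U : Set G) → U = ⊥
  zQ : zl B Q ≤ o2 P
  zP : zl B P ≤ o2 Q
  nU : P ≤ normalizer ((zl B P ⊔ zl B Q : Subgroup G) : Set G)

/-- Elements `r ∈ rl B P`, `s ∈ rl B Q` with `zc B = {1, r, s, rs}`. -/
structure Gens (B P Q : Subgroup G) (r s : G) : Prop where
  r_mem : r ∈ rl B P
  r_vl : r ∈ vl B Q
  r_ne : r ≠ 1
  s_mem : s ∈ rl B Q
  s_ne : s ≠ 1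
  comm : ∀ u ∈ zl B P ⊔ zl B Q, ∀ q ∈ o2 P, q * u * q⁻¹ = u ∨ q * u * q⁻¹ = u * r

variable {B P Q : Subgroup G}

theorem zl_comm_zl (h : Sec B P Q) {x y : G} (hx : x ∈ zl B P) (hy : y ∈ zl B Q) :
    x * y = y * x :=
  comm_of_mem_o2 h.blkQ (h.zP hx) hy

theorem mem_sup_iff (h : Sec B P Q) {u : G} :
    u ∈ zl B P ⊔ zl B Q ↔ ∃ x ∈ zl B P, ∃ y ∈ zl B Q, u = x * y := by
  have hc : zl B Q ≤ centralizer (zl B P : Set G) := fun y hy =>
    mem_centralizer_iff.2 fun x hx => zl_comm_zl h hx hy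
  have h1 := Cfsg.Agent.PLocal.ElemAbSup.coe_sup_of_le_centralizer hc
  rw [← SetLike.mem_coe, h1, Set.mem_mul]
  constructor
  · rintro ⟨x, hx, y, hy, rfl⟩
    exact ⟨x, hx, y, hy, rfl⟩
  · rintro ⟨x, hx, y, hy, rfl⟩
    exact ⟨x, hx, y, hy, rfl⟩

theorem sup_comm (h : Sec B P Q) {u v : G} (hu : u ∈ zl B P ⊔ zl B Q)
    (hv : v ∈ zl B P ⊔ zl B Q) : u * v = v * u := by
  obtain ⟨x, hx, y, hy, rfl⟩ := (mem_sup_iff h).1 hu
  obtain ⟨z, hz, w, hw, rfl⟩ := (mem_sup_iff h).1 hv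
  have h1 := h.blkP.zl_comm x hx z hz
  have h2 := zl_comm_zl h hx hw
  have h3 := zl_comm_zl h hz hy
  have h4 := h.blkQ.zl_comm y hy w hw
  calc x * y * (z * w) = x * (y * z) * w := by group
    _ = x * (z * y) * w := by rw [h3]
    _ = (x * z) * (y * w) := by group
    _ = (z * x) * (w * y) := by rw [h1, h4]
    _ = z * (x * w) * y := by group
    _ = z * (w * x) * y := by rw [h2]
    _ = z * w * (x * y) := by group

theorem sup_sq (h : Sec B P Q) {u : G} (hu : u ∈ zl B P ⊔ zl B Q) : u * u = 1 := by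
  obtain ⟨x, hx, y, hy, rfl⟩ := (mem_sup_iff h).1 hu
  have h1 := zl_comm_zl h hx hy
  calc x * y * (x * y) = x * (y * x) * y := by group
    _ = x * (x * y) * y := by rw [h1]
    _ = (x * x) * (y * y) := by group
    _ = 1 := by rw [mul_self_zl h.blkP hx, mul_self_zl h.blkQ hy, one_mul]

theorem sup_le_B (h : Sec B P Q) : zl B P ⊔ zl B Q ≤ B :=
  sup_le (zl_le_B h.blkP) (zl_le_B h.blkQ)

theorem vl_ne_bot {L : Subgroup G} (h : IsBlk B L) : vl B L ≠ ⊥ := by
  intro h1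
  have h2 := h.card_vl
  rw [h1, card_bot] at h2
  omega

theorem not_o2_le (h : Sec B P Q) : ∃ t ∈ o2 P, t ∉ o2 Q := by
  by_contra hc
  push Not at hc
  have h1 : o2 Q ≤ o2 P := by
    intro x hx
    by_contra hxP
    obtain ⟨t, ht, htQ⟩ := exists_not_mem_o2 h.blkQ
    have htP : t ∉ o2 P := fun h2 => htQ (hc t h2)
    have h2 := hc _ (mul_mem_o2 h.blkP (h.blkQ.o2_le hx) ht hxP htP)
    exact htQ ((mul_mem_cancel_left hx).1 h2)
  have h2 : o2 P = o2 Q := le_antisymm hc h1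
  have h3 := h.core (o2 P) h.blkP.o2_le (le_normalizer_o2 P) (h2 ▸ le_normalizer_o2 Q)
  have h4 : vl B P ≤ ⊥ := h3 ▸ (vl_le_zl B P).trans (zl_le_o2 h.blkP)
  exact vl_ne_bot h.blkP (le_bot_iff.1 h4)

theorem not_o2_le' (h : Sec B P Q) : ∃ t ∈ o2 Q, t ∉ o2 P := by
  by_contra hc
  push Not at hc
  obtain ⟨t, ht, htQ⟩ := not_o2_le h
  obtain ⟨b, hb, hbP⟩ := exists_not_mem_o2 h.blkP
  have hbQ : b ∉ o2 Q := fun h2 => hbP (hc b h2)
  have h2 := hc _ (mul_mem_o2 h.blkQ (h.blkP.o2_le ht) hb htQ hbQ)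
  exact hbP ((mul_mem_cancel_left ht).1 h2)

theorem rl_inf_rl (h : Sec B P Q) {x : G} (hx : x ∈ rl B P) (hx' : x ∈ rl B Q) : x = 1 := by
  have h1 : rl B P ⊓ rl B Q = ⊥ := by
    refine h.core _ (inf_le_left.trans (inf_le_left.trans (zc_le B))) ?_ ?_
    · refine le_normalizer_of_conj_mem fun g hg y hy => ?_
      have h2 := (mem_rl_iff.1 hy.1).2 g hg
      have h3 : g * y * g⁻¹ = y := by rw [h2]; group
      rw [h3]; exact hy
    · refine le_normalizer_of_conj_mem fun g hg y hy => ?_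
      have h2 := (mem_rl_iff.1 hy.2).2 g hg
      have h3 : g * y * g⁻¹ = y := by rw [h2]; group
      rw [h3]; exact hy
  have h2 : x ∈ rl B P ⊓ rl B Q := ⟨hx, hx'⟩
  rw [h1] at h2
  exact mem_bot.1 h2

/-- `r` exists. -/
theorem exists_r (h : Sec B P Q) : ∃ r, r ∈ rl B P ∧ r ∈ vl B Q ∧ r ≠ 1 ∧
    ∀ u ∈ zl B P ⊔ zl B Q, ∀ q ∈ o2 P, q * u * q⁻¹ = u ∨ q * u * q⁻¹ = u * r := by
  obtain ⟨t, htP, htQ⟩ := not_o2_le h
  have htB := h.blkP.o2_le htP
  obtain ⟨w, hw, hwt⟩ : ∃ w ∈ zl B Q, t * w ≠ w * t := by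
    by_contra hc
    push Not at hc
    exact htQ (mem_o2_of_comm h.blkQ (h.blkQ.le htB) hc)
  set r := w * t * w⁻¹ * t⁻¹ with hr
  have hr1 : r ≠ 1 := by
    intro h1
    apply hwt
    have h2 : w * t = (w * t * w⁻¹ * t⁻¹) * (t * w) := by group
    rw [h2, ← hr, h1, one_mul]
  have hrz : r ∈ zc B := comm_mem_zc h.blkQ hw htB
  have hrv : r ∈ vl B Q := comm_mem_vl hw (h.blkQ.le htB)
  have key : ∀ u ∈ zl B P ⊔ zl B Q, ∀ q ∈ o2 P, u * q * u⁻¹ * q⁻¹ = 1 ∨ u * q * u⁻¹ * q⁻¹ = r := by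
    intro u hu q hq
    obtain ⟨x, hx, y, hy, rfl⟩ := (mem_sup_iff h).1 hu
    have hqB := h.blkP.o2_le hq
    have h1 := comm_of_mem_o2 h.blkP hq hx
    have h2 := zl_comm_zl h hx hy
    have h3 : x * y * q * (x * y)⁻¹ * q⁻¹ = y * q * y⁻¹ * q⁻¹ := by
      rw [h2]
      calc y * x * q * (y * x)⁻¹ * q⁻¹ = y * (x * q) * x⁻¹ * y⁻¹ * q⁻¹ := by group
        _ = y * (q * x) * x⁻¹ * y⁻¹ * q⁻¹ := by rw [h1]
        _ = y * q * y⁻¹ * q⁻¹ := by group
    rw [h3]
    by_cases h4 : y * q * y⁻¹ * q⁻¹ = 1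
    · exact Or.inl h4
    · exact Or.inr (eq_of_mem_zc_vl h.blkQ (comm_mem_zc h.blkQ hy hqB)
        (comm_mem_vl hy (h.blkQ.le hqB)) hrz hrv h4 hr1)
  have hwU : w ∈ zl B P ⊔ zl B Q := (le_sup_right : zl B Q ≤ _) hw
  have hrP : r ∈ rl B P := by
    rw [mem_rl_iff]
    refine ⟨hrz, fun p hp => ?_⟩
    have h1 : p * r * p⁻¹ = (p * w * p⁻¹) * (p * t * p⁻¹) * (p * w * p⁻¹)⁻¹ * (p * t * p⁻¹)⁻¹ := by
      rw [hr]; group
    have h2 := key (p * w * p⁻¹) (conj_mem_of_le_normalizer h.nU hp hwU) (p * t * p⁻¹)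
      (conj_o2_mem hp htP)
    rw [← h1] at h2
    rcases h2 with h2 | h2
    · exfalso
      apply hr1
      have h3 : r = p⁻¹ * (p * r * p⁻¹) * p := by group
      rw [h3, h2]; group
    · calc p * r = (p * r * p⁻¹) * p := by group
        _ = r * p := by rw [h2]
  refine ⟨r, hrP, hrv, hr1, fun u hu q hq => ?_⟩
  have h1 := key u hu q hq
  have hui : u⁻¹ = u := inv_eq_of_mul_eq_one_left (sup_sq h hu)
  have h2 : q * u * q⁻¹ = u⁻¹ * (u * q * u⁻¹ * q⁻¹) * (q * (u * u) * q⁻¹) := by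
    group
  rw [sup_sq h hu] at h2
  rcases h1 with h1 | h1
  · left
    rw [h2, h1, hui]; group
  · right
    rw [h2, h1, hui]; group

theorem exists_gens (h : Sec B P Q) : ∃ r s, Gens B P Q r s := by
  obtain ⟨r, hr1, hr2, hr3, hr4⟩ := exists_r h
  have hrz := (mem_rl_iff.1 hr1).1
  have hrQ : r ∉ rl B Q := fun h1 => hr3 (rl_inf_rl h hr1 h1)
  obtain ⟨z, hz, hzP⟩ : ∃ z ∈ zc B, z ∉ rl B P := by
    by_contra hc
    push Not at hc
    have h1 : (rl B P).relIndex (zc B) = 1 := relIndex_eq_one.2 hc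
    rw [h.blkP.rl_index] at h1
    omega
  by_cases hzQ : z ∈ rl B Q
  · refine ⟨r, z, hr1, hr2, hr3, hzQ, ?_, hr4⟩
    rintro rfl
    exact hzP (one_mem _)
  · refine ⟨r, r * z, hr1, hr2, hr3, mul_mem_rl h.blkQ hrz hz hrQ hzQ, ?_, hr4⟩
    intro h1
    apply hzP
    have h2 : z = r⁻¹ * (r * z) := by group
    rw [h2, h1, mul_one]
    exact inv_mem hr1

section gens

variable {r s : G}

theorem r_zc (g : Gens B P Q r s) : r ∈ zc B := (mem_rl_iff.1 g.r_mem).1

theorem s_zc (g : Gens B P Q r s) : s ∈ zc B := (mem_rl_iff.1 g.s_mem).1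

theorem s_notP (h : Sec B P Q) (g : Gens B P Q r s) : s ∉ rl B P := fun h1 =>
  g.s_ne (rl_inf_rl h h1 g.s_mem)

theorem r_notQ (h : Sec B P Q) (g : Gens B P Q r s) : r ∉ rl B Q := fun h1 =>
  g.r_ne (rl_inf_rl h g.r_mem h1)

theorem rr (h : Sec B P Q) (g : Gens B P Q r s) : r * r = 1 :=
  mul_self_zl h.blkP (zc_le_zl B P (r_zc g))

theorem ss (h : Sec B P Q) (g : Gens B P Q r s) : s * s = 1 :=
  mul_self_zl h.blkP (zc_le_zl B P (s_zc g))

theorem rs_comm (g : Gens B P Q r s) : r * s = s * r :=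
  (mem_zc_iff.1 (s_zc g)).2.2 r (zc_le B (r_zc g))

/-- `rl B P = {1, r}`. -/
theorem rl_P (h : Sec B P Q) (g : Gens B P Q r s) {x : G} (hx : x ∈ rl B P) : x = 1 ∨ x = r := by
  by_cases h1 : x = 1
  · exact Or.inl h1
  · right
    have hxQ : x ∉ rl B Q := fun h2 => h1 (rl_inf_rl h hx h2)
    have h3 := rl_inf_rl h (mul_mem hx g.r_mem)
      (mul_mem_rl h.blkQ (mem_rl_iff.1 hx).1 (r_zc g) hxQ (r_notQ h g))
    rw [eq_inv_of_mul_eq_one_left h3, inv_eq_of_mul_eq_one_left (rr h g)]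

/-- `rl B Q = {1, s}`. -/
theorem rl_Q (h : Sec B P Q) (g : Gens B P Q r s) {x : G} (hx : x ∈ rl B Q) : x = 1 ∨ x = s := by
  by_cases h1 : x = 1
  · exact Or.inl h1
  · right
    have hxP : x ∉ rl B P := fun h2 => h1 (rl_inf_rl h h2 hx)
    have h3 := rl_inf_rl h (mul_mem_rl h.blkP (mem_rl_iff.1 hx).1 (s_zc g) hxP (s_notP h g))
      (mul_mem hx g.s_mem)
    rw [eq_inv_of_mul_eq_one_left h3, inv_eq_of_mul_eq_one_left (ss h g)]

/-- `zc B = {1, r, s, rs}`. -/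
theorem zc_cases (h : Sec B P Q) (g : Gens B P Q r s) {x : G} (hx : x ∈ zc B) :
    x = 1 ∨ x = r ∨ x = s ∨ x = r * s := by
  by_cases h1 : x ∈ rl B Q
  · rcases rl_Q h g h1 with h2 | h2
    · exact Or.inl h2
    · exact Or.inr (Or.inr (Or.inl h2))
  · have h2 := mul_mem_rl h.blkQ (r_zc g) hx (r_notQ h g) h1
    have h3 : x = r * (r * x) := by rw [← mul_assoc, rr h g, one_mul]
    rcases rl_Q h g h2 with h4 | h4
    · rw [h4, mul_one] at h3
      exact Or.inr (Or.inl h3)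
    · rw [h4] at h3
      exact Or.inr (Or.inr (Or.inr h3))

theorem card_rl_Q [Finite G] (h : Sec B P Q) (g : Gens B P Q r s) : Nat.card (rl B Q) = 2 := by
  have h1 : ((rl B Q : Subgroup G) : Set G) = {1, s} := by
    ext x
    simp only [SetLike.mem_coe, Set.mem_insert_iff, Set.mem_singleton_iff]
    constructor
    · exact rl_Q h g
    · rintro (rfl | rfl)
      · exact one_mem _
      · exact g.s_mem
  have h2 : Nat.card (rl B Q) = Set.ncard ((rl B Q : Subgroup G) : Set G) := rfl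
  rw [h2, h1, Set.ncard_pair g.s_ne.symm]

theorem card_zc [Finite G] (h : Sec B P Q) (g : Gens B P Q r s) : Nat.card (zc B) = 4 := by
  have h1 : (rl B Q).relIndex (zc B) = 2 := h.blkQ.rl_index
  have h2 := Cfsg.Agent.Lib.SylowNormalInf.card_mul_relIndex (rl B Q) (zc B)
    (fun x hx => (mem_rl_iff.1 hx).1)
  rw [h1, card_rl_Q h g] at h2
  omega

theorem card_zl_Q [Finite G] (h : Sec B P Q) (g : Gens B P Q r s) : Nat.card (zl B Q) = 8 := by
  have hc : vl B Q ≤ centralizer (rl B Q : Set G) := fun x hx =>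
    mem_centralizer_iff.2 fun y hy => ((mem_rl_iff.1 hy).2 x
      (h.blkQ.le (zl_le_B h.blkQ (vl_le_zl B Q hx)))).symm
  have h1 := Cfsg.Agent.PLocal.ElemAbSup.card_sup_mul_card_inf hc
  rw [h.blkQ.sup_eq, h.blkQ.disj, h.blkQ.card_vl, card_rl_Q h g, card_bot] at h1
  omega

theorem card_rl_P [Finite G] (h : Sec B P Q) (g : Gens B P Q r s) : Nat.card (rl B P) = 2 := by
  have h1 : ((rl B P : Subgroup G) : Set G) = {1, r} := by
    ext x
    simp only [SetLike.mem_coe, Set.mem_insert_iff, Set.mem_singleton_iff]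
    constructor
    · exact rl_P h g
    · rintro (rfl | rfl)
      · exact one_mem _
      · exact g.r_mem
  have h2 : Nat.card (rl B P) = Set.ncard ((rl B P : Subgroup G) : Set G) := rfl
  rw [h2, h1, Set.ncard_pair g.r_ne.symm]

theorem card_zl_P [Finite G] (h : Sec B P Q) (g : Gens B P Q r s) : Nat.card (zl B P) = 8 := by
  have hc : vl B P ≤ centralizer (rl B P : Set G) := fun x hx =>
    mem_centralizer_iff.2 fun y hy => ((mem_rl_iff.1 hy).2 x
      (h.blkP.le (zl_le_B h.blkP (vl_le_zl B P hx)))).symm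
  have h1 := Cfsg.Agent.PLocal.ElemAbSup.card_sup_mul_card_inf hc
  rw [h.blkP.sup_eq, h.blkP.disj, h.blkP.card_vl, card_rl_P h g, card_bot] at h1
  omega

theorem card_sup_le [Finite G] (h : Sec B P Q) (g : Gens B P Q r s) :
    Nat.card ↥(zl B P ⊔ zl B Q) ≤ 16 := by
  have hc : zl B Q ≤ centralizer (zl B P : Set G) := fun y hy =>
    mem_centralizer_iff.2 fun x hx => zl_comm_zl h hx hy
  have h1 := Cfsg.Agent.PLocal.ElemAbSup.card_sup_mul_card_inf hc
  rw [card_zl_P h g, card_zl_Q h g] at h1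
  have h2 : Nat.card (zc B) ≤ Nat.card ↥(zl B P ⊓ zl B Q) :=
    card_le_of_le (le_inf (zc_le_zl B P) (zc_le_zl B Q))
  rw [card_zc h g] at h2
  nlinarith

/-- The commutator of `w ∈ zl B Q ∖ zc B` and `t ∈ o2 P ∖ o2 Q` is `r`. -/
theorem conj_eq (h : Sec B P Q) (g : Gens B P Q r s) {w t : G} (hw : w ∈ zl B Q)
    (hwz : w ∉ zc B) (ht : t ∈ o2 P) (htQ : t ∉ o2 Q) : t * w * t⁻¹ = w * r := by
  rcases g.comm w ((le_sup_right : zl B Q ≤ zl B P ⊔ zl B Q) hw) t ht with h1 | h1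
  · exfalso
    apply hwz
    refine mem_zc_of_comm' h.blkQ hw (h.blkP.o2_le ht) htQ ?_
    calc t * w = (t * w * t⁻¹) * t := by group
      _ = w * t := by rw [h1]
  · exact h1

theorem mul_mem_zc_of_not (h : Sec B P Q) (g : Gens B P Q r s) {w v : G} (hw : w ∈ zl B Q)
    (hwz : w ∉ zc B) (hv : v ∈ zl B Q) (hvz : v ∉ zc B) : w * v ∈ zc B := by
  obtain ⟨t, ht, htQ⟩ := not_o2_le h
  refine mem_zc_of_comm' h.blkQ (mul_mem hw hv) (h.blkP.o2_le ht) htQ ?_
  have h1 := conj_eq h g hw hwz ht htQ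
  have h2 := conj_eq h g hv hvz ht htQ
  have h3 : r * v = v * r := by
    have := (mem_zc_iff.1 (r_zc g)).2.2 v (zl_le_B h.blkQ hv)
    exact this.symm
  calc t * (w * v) = (t * w * t⁻¹) * (t * v * t⁻¹) * t := by group
    _ = (w * r) * (v * r) * t := by rw [h1, h2]
    _ = w * (r * v) * r * t := by group
    _ = w * v * (r * r) * t := by rw [h3]; group
    _ = w * v * t := by rw [rr h g, mul_one]

theorem conj_B (h : Sec B P Q) (g : Gens B P Q r s) {y b : G} (hy : y ∈ zl B Q) (hb : b ∈ B) :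
    b * y * b⁻¹ = y ∨ b * y * b⁻¹ = y * r := by
  by_cases hbQ : b ∈ o2 Q
  · left
    rw [comm_of_mem_o2 h.blkQ hbQ hy]; group
  · obtain ⟨t, ht, htQ⟩ := not_o2_le h
    have h2 : t⁻¹ ∉ o2 Q := fun h3 => htQ (by simpa using inv_mem h3)
    have h1 := comm_of_mem_o2 h.blkQ
      (mul_mem_o2 h.blkQ (inv_mem (h.blkP.o2_le ht)) hb h2 hbQ) hy
    have h3 : b * y * b⁻¹ = t * y * t⁻¹ := by
      calc b * y * b⁻¹ = t * ((t⁻¹ * b) * y) * b⁻¹ := by group
        _ = t * (y * (t⁻¹ * b)) * b⁻¹ := by rw [h1]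
        _ = t * y * t⁻¹ := by group
    rw [h3]
    exact g.comm y ((le_sup_right : zl B Q ≤ zl B P ⊔ zl B Q) hy) t ht

theorem r_comm_P (g : Gens B P Q r s) {p : G} (hp : p ∈ P) : p * r = r * p :=
  (mem_rl_iff.1 g.r_mem).2 p hp

/-- The subgroup of the elements of `P` fixing `{y, yr}`. -/
def stab (r y : G) (hr : r * r = 1) (P : Subgroup G) (hP : ∀ p ∈ P, p * r = r * p)
    (_hy : y * r = r * y) : Subgroup G where
  carrier := {p | p ∈ P ∧ (p * y * p⁻¹ = y ∨ p * y * p⁻¹ = y * r)}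
  one_mem' := ⟨one_mem _, by simp⟩
  mul_mem' := by
    rintro a b ⟨ha, ha'⟩ ⟨hb, hb'⟩
    refine ⟨mul_mem ha hb, ?_⟩
    have h1 : a * b * y * (a * b)⁻¹ = a * (b * y * b⁻¹) * a⁻¹ := by group
    have h2 : a * (y * r) * a⁻¹ = (a * y * a⁻¹) * r := by
      have := hP a⁻¹ (inv_mem ha)
      calc a * (y * r) * a⁻¹ = a * y * (r * a⁻¹) := by group
        _ = (a * y * a⁻¹) * r := by rw [← this]; group
    rw [h1]
    rcases hb' with hb' | hb' <;> rcases ha' with ha' | ha'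
    · left; rw [hb', ha']
    · right; rw [hb', ha']
    · right; rw [hb', h2, ha']
    · left; rw [hb', h2, ha', mul_assoc, hr, mul_one]
  inv_mem' := by
    rintro a ⟨ha, ha'⟩
    refine ⟨inv_mem ha, ?_⟩
    rw [inv_inv]
    rcases ha' with ha' | ha'
    · left
      calc a⁻¹ * y * a = a⁻¹ * (a * y * a⁻¹) * a := by rw [ha']
        _ = y := by group
    · right
      have h1 : y = (a * y * a⁻¹) * r := by rw [ha', mul_assoc, hr, mul_one]
      calc a⁻¹ * y * a = a⁻¹ * ((a * y * a⁻¹) * r) * a := by rw [← h1]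
        _ = y * a⁻¹ * (r * a) := by group
        _ = y * a⁻¹ * (a * r) := by rw [hP a ha]
        _ = y * r := by group

/-- The pigeon-hole step: an element `y ∈ zl B Q ∖ zc B` with `y^P ⊆ {y, yr}`. -/
theorem exists_y [Finite G] (h : Sec B P Q) (g : Gens B P Q r s) :
    ∃ y ∈ zl B Q, y ∉ zc B ∧ ∀ p ∈ P, p * y * p⁻¹ = y ∨ p * y * p⁻¹ = y * r := by
  obtain ⟨p, hp, hpB⟩ := exists_not_mem_B h.blkP
  set A := zl B Q with hA
  set A' := A.map (MulAut.conj p).toMonoidHom with hA'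
  set U := zl B P ⊔ zl B Q with hU
  have hAU : A ≤ U := le_sup_right
  have hA'U : A' ≤ U := by
    rintro _ ⟨x, hx, rfl⟩
    have := conj_mem_of_le_normalizer h.nU hp (hAU hx)
    simpa using this
  have hcA' : Nat.card A' = 8 := by
    rw [hA', card_map_of_injective (MulAut.conj p).injective]
    exact card_zl_Q h g
  have hc : A' ≤ centralizer (A : Set G) := fun y hy =>
    mem_centralizer_iff.2 fun x hx => sup_comm h (hAU hx) (hA'U hy)
  have h1 := Cfsg.Agent.PLocal.ElemAbSup.card_sup_mul_card_inf hc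
  have h2 : Nat.card ↥(A ⊔ A') ≤ 16 := (card_le_of_le (sup_le hAU hA'U)).trans (card_sup_le h g)
  rw [hcA', card_zl_Q h g] at h1
  have h3 : 4 ≤ Nat.card ↥(A ⊓ A') := by
    by_contra h4
    push Not at h4
    nlinarith
  obtain ⟨y, hyA, hyA', hy1, hyr⟩ : ∃ y, y ∈ A ∧ y ∈ A' ∧ y ≠ 1 ∧ y ≠ r := by
    by_contra hc
    push Not at hc
    have h4 : ((A ⊓ A' : Subgroup G) : Set G) ⊆ {1, r} := by
      intro x hx
      by_cases hx1 : x = 1
      · exact Or.inl hx1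
      · exact Or.inr (hc x hx.1 hx.2 hx1)
    have h5 : Nat.card ↥(A ⊓ A') = Set.ncard ((A ⊓ A' : Subgroup G) : Set G) := rfl
    have h6 := Set.ncard_le_ncard h4 (Set.toFinite _)
    rw [Set.ncard_pair g.r_ne.symm] at h6
    omega
  have hyr' : y * r = r * y := (mem_zc_iff.1 (r_zc g)).2.2 y (zl_le_B h.blkQ hyA)
  have hall : ∀ q ∈ P, q * y * q⁻¹ = y ∨ q * y * q⁻¹ = y * r := by
    have hPK : P ≤ stab r y (rr h g) P (fun q hq => r_comm_P g hq) hyr' := by
      refine le_of_conj_mem h.blkP hp hpB ?_ ?_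
      · intro b hb
        exact ⟨h.blkP.le hb, conj_B h g hyA hb⟩
      · intro b hb
        refine ⟨mul_mem (mul_mem hp (h.blkP.le hb)) (inv_mem hp), ?_⟩
        obtain ⟨z, hz, hzy⟩ := hyA'
        have hzy' : p * z * p⁻¹ = y := by simpa using hzy
        have h5 : p * b * p⁻¹ * y * (p * b * p⁻¹)⁻¹ = p * (b * z * b⁻¹) * p⁻¹ := by
          rw [← hzy']; group
        rw [h5]
        rcases conj_B h g hz hb with h6 | h6
        · left; rw [h6, hzy']
        · right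
          rw [h6]
          have h7 := r_comm_P g (inv_mem hp)
          calc p * (z * r) * p⁻¹ = p * z * (r * p⁻¹) := by group
            _ = (p * z * p⁻¹) * r := by rw [← h7]; group
            _ = y * r := by rw [hzy']
    exact fun q hq => (hPK hq).2
  refine ⟨y, hyA, ?_, hall⟩
  intro hyz
  have hyP : y ∈ rl B P := by
    rw [mem_rl_iff]
    refine ⟨hyz, fun q hq => ?_⟩
    rcases hall q hq with h4 | h4
    · calc q * y = (q * y * q⁻¹) * q := by group
        _ = y * q := by rw [h4]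
    · exfalso
      have hyv := comm_mem_vl (zc_le_zl B P hyz) hq
      have h5 : y * q * y⁻¹ * q⁻¹ = r := by
        rw [inv_zl h.blkP (zc_le_zl B P hyz)]
        calc y * q * y * q⁻¹ = y * (q * y * q⁻¹) := by group
          _ = (y * y) * r := by rw [h4]; group
          _ = r := by rw [mul_self_zl h.blkP (zc_le_zl B P hyz), one_mul]
      rw [h5] at hyv
      exact g.r_ne (eq_one_of_mem_rl_vl h.blkP g.r_mem hyv)
  rcases rl_P h g hyP with h4 | h4
  · exact hy1 h4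
  · exact hyr h4

theorem orbit_mul_r (h : Sec B P Q) (g : Gens B P Q r s) {y : G}
    (hall : ∀ p ∈ P, p * y * p⁻¹ = y ∨ p * y * p⁻¹ = y * r) :
    ∀ p ∈ P, p * (y * r) * p⁻¹ = y * r ∨ p * (y * r) * p⁻¹ = y * r * r := by
  intro p hp
  have h1 : p * (y * r) * p⁻¹ = (p * y * p⁻¹) * r := by
    have h7 := r_comm_P g (inv_mem hp)
    calc p * (y * r) * p⁻¹ = p * y * (r * p⁻¹) := by group
      _ = (p * y * p⁻¹) * r := by rw [← h7]; group
  rw [h1]
  rcases hall p hp with h2 | h2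
  · left; rw [h2]
  · right; rw [h2]

theorem conj_r_vl (g : Gens B P Q r s) {k : G} (hk : k ∈ Q) : k * r * k⁻¹ ∈ vl B Q :=
  conj_vl_mem hk g.r_vl

theorem conj_r_not_zc (h : Sec B P Q) (g : Gens B P Q r s) {k : G} (hk : k ∈ Q) (hkB : k ∉ B) :
    k * r * k⁻¹ ∉ zc B := by
  intro hz
  have h1 : k * r * k⁻¹ ≠ 1 := by
    intro h1
    apply g.r_ne
    calc r = k⁻¹ * (k * r * k⁻¹) * k := by group
      _ = 1 := by rw [h1]; group
  have h2 := eq_of_mem_zc_vl h.blkQ hz (conj_r_vl g hk) (r_zc g) g.r_vl h1 g.r_ne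
  apply r_notQ h g
  refine mem_rl_of_comm h.blkQ (zc_le_zl B Q (r_zc g)) ?_
  refine le_of_mem h.blkQ (K := centralizer {r}) ?_ hk hkB ?_
  · intro b hb
    rw [mem_centralizer_iff]
    rintro x (rfl : x = r)
    exact ((mem_zc_iff.1 (r_zc g)).2.2 b hb).symm
  · rw [mem_centralizer_iff]
    rintro x (rfl : x = r)
    calc x * k = (k * x * k⁻¹) * k := by rw [h2]
      _ = k * x := by group

/-- The key fact: `r^k s` has `P`-orbit contained in `{r^k s, r^k s r}`, for `k ∈ Q ∖ B`. -/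
theorem orbit_rks [Finite G] (h : Sec B P Q) (g : Gens B P Q r s) {k : G} (hk : k ∈ Q)
    (hkB : k ∉ B) : ∀ p ∈ P, p * (k * r * k⁻¹ * s) * p⁻¹ = k * r * k⁻¹ * s ∨
      p * (k * r * k⁻¹ * s) * p⁻¹ = k * r * k⁻¹ * s * r := by
  obtain ⟨y, hy, hyz, hall⟩ := exists_y h g
  set r' := k * r * k⁻¹ with hr'
  have hr'v : r' ∈ vl B Q := conj_r_vl g hk
  have hr'z : r' ∉ zc B := conj_r_not_zc h g hk hkB
  have hr'l : r' ∈ zl B Q := vl_le_zl B Q hr'v
  have hr'r' : r' * r' = 1 := mul_self_zl h.blkQ hr'l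
  have hrl : r ∈ zl B Q := zc_le_zl B Q (r_zc g)
  have hsl : s ∈ zl B Q := zc_le_zl B Q (s_zc g)
  have hrr' : r * r' = r' * r := h.blkQ.zl_comm _ hrl _ hr'l
  have hsr' : s * r' = r' * s := h.blkQ.zl_comm _ hsl _ hr'l
  have hprod := mul_mem_zc_of_not h g hy hyz hr'l hr'z
  have hy' : y = (y * r') * r' := by rw [mul_assoc, hr'r', mul_one]
  -- the bad case
  have bad : (∀ p ∈ P, p * r' * p⁻¹ = r' ∨ p * r' * p⁻¹ = r' * r) → False := by
    intro hbad
    have hn : P ≤ normalizer ((vl B Q : Subgroup G) : Set G) := by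
      refine le_normalizer_of_conj_mem fun p hp v hv => ?_
      have hvl : v ∈ zl B Q := vl_le_zl B Q hv
      have hz : ∀ x ∈ zc B, x ∈ vl B Q → p * x * p⁻¹ ∈ vl B Q := by
        intro x hx hx'
        by_cases hx1 : x = 1
        · rw [hx1]; simp
        · have h2 := eq_of_mem_zc_vl h.blkQ hx hx' (r_zc g) g.r_vl hx1 g.r_ne
          have h3 := r_comm_P g hp
          have h4 : p * x * p⁻¹ = x := by rw [h2, h3]; group
          rw [h4]; exact hx'
      by_cases hvz : v ∈ zc B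
      · exact hz v hvz hv
      · have h1 := mul_mem_zc_of_not h g hvl hvz hr'l hr'z
        have h2 := hz _ h1 (mul_mem hv hr'v)
        have h3 : p * r' * p⁻¹ ∈ vl B Q := by
          rcases hbad p hp with h4 | h4
          · rw [h4]; exact hr'v
          · rw [h4]; exact mul_mem hr'v g.r_vl
        have h4 : p * v * p⁻¹ = (p * (v * r') * p⁻¹) * (p * r' * p⁻¹) := by
          calc p * v * p⁻¹ = p * (v * (r' * r')) * p⁻¹ := by rw [hr'r', mul_one]
            _ = (p * (v * r') * p⁻¹) * (p * r' * p⁻¹) := by group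
        rw [h4]
        exact mul_mem h2 h3
    have h1 := h.core _ ((vl_le_zl B Q).trans (zl_le_B h.blkQ)) hn (le_normalizer_vl B Q)
    exact vl_ne_bot h.blkQ h1
  rcases zc_cases h g hprod with h1 | h1 | h1 | h1
  · exfalso
    rw [h1, one_mul] at hy'
    rw [hy'] at hall
    exact bad hall
  · exfalso
    rw [h1] at hy'
    have h2 := orbit_mul_r h g hall
    have h3 : y * r = r' := by rw [hy', hrr', mul_assoc, rr h g, mul_one]
    rw [h3] at h2
    exact bad h2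
  · rw [h1, hsr'] at hy'
    rw [← hy']
    exact hall
  · rw [h1] at hy'
    have h2 := orbit_mul_r h g hall
    have h3 : y * r = r' * s := by
      rw [hy', rs_comm g]
      calc s * r * r' * r = s * (r * r') * r := by group
        _ = (s * r') * (r * r) := by rw [hrr']; group
        _ = r' * s := by rw [rr h g, mul_one, hsr']
    rw [h3] at h2
    exact h2

/-- `r^k s ∈ zl B Q ∖ zc B`. -/
theorem rks_not_zc (h : Sec B P Q) (g : Gens B P Q r s) {k : G} (hk : k ∈ Q) (hkB : k ∉ B) :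
    k * r * k⁻¹ * s ∉ zc B := fun h1 =>
  conj_r_not_zc h g hk hkB ((mul_mem_cancel_right (s_zc g)).1 h1)

/-- There is `n ∈ P ∖ B` centralizing `r^k s`. -/
theorem exists_n [Finite G] (h : Sec B P Q) (g : Gens B P Q r s) {k : G} (hk : k ∈ Q)
    (hkB : k ∉ B) : ∃ n ∈ P, n ∉ B ∧ n * (k * r * k⁻¹ * s) * n⁻¹ = k * r * k⁻¹ * s := by
  obtain ⟨n, hn, hnB⟩ := exists_not_mem_B h.blkP
  have horb := orbit_rks h g hk hkB
  obtain ⟨t, ht, htQ⟩ := not_o2_le h
  have hy : k * r * k⁻¹ * s ∈ zl B Q :=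
    mul_mem (vl_le_zl B Q (conj_r_vl g hk)) (zc_le_zl B Q (s_zc g))
  have h1 := conj_eq h g hy (rks_not_zc h g hk hkB) ht htQ
  rcases horb n hn with h2 | h2
  · exact ⟨n, hn, hnB, h2⟩
  · refine ⟨n * t, mul_mem hn (o2_le P ht), fun h3 => hnB ?_, ?_⟩
    · exact (mul_mem_cancel_right (h.blkP.o2_le ht)).1 h3
    · set y := k * r * k⁻¹ * s with hy'
      have h7 := r_comm_P g (inv_mem hn)
      calc n * t * y * (n * t)⁻¹ = n * (t * y * t⁻¹) * n⁻¹ := by group
        _ = n * y * (r * n⁻¹) := by rw [h1]; group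
        _ = (n * y * n⁻¹) * r := by rw [← h7]; group
        _ = y * (r * r) := by rw [h2]; group
        _ = y := by rw [rr h g, mul_one]

end gens

end Cfsg.Agent.ZN.SecondCore
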